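import Cfsg.Agent.Lib.GL2.SLClasses
import Cfsg.Agent.Lib.Char.Induction
import Cfsg.Agent.Lib.Char.PermChar
import Cfsg.Prelude.Def_ParabolicCharacters
import Mathlib.NumberTheory.MulChar.Basic
import Mathlib.Algebra.BigOperators.Group.Finset.Piecewise

/-!
# Induction from the upper triangular subgroup of two by two matrices
-/

set_option autoImplicit false
set_option linter.unusedSectionVars false

open Matrix
open scoped MatrixGroups

namespace Cfsg.Agent.GL2

open Cfsg.Agent.Classical.SL2 (coord)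
open Cfsg.Agent.Char (extendByZero_of_mem extendByZero_of_notMem indFun_apply)

variable {F : Type*} [Field F]

local notation "M2" => Matrix (Fin 2) (Fin 2) F
local notation "S2" => Matrix.SpecialLinearGroup (Fin 2) F
local notation "G2" => GL (Fin 2) F
local notation "BG" => Cfsg.upperTriangularGL 2 F
local notation "BS" =>
  Subgroup.comap (Matrix.SpecialLinearGroup.toGL (n := Fin 2) (R := F)) (Cfsg.upperTriangularGL 2 F)

theorem mem_BG {g : G2} : g ∈ BG ↔ (g : M2) 1 0 = 0 := by
  constructor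
  · intro h
    exact h (show (0 : Fin 2) < 1 by decide)
  · intro h i j hij
    fin_cases i <;> fin_cases j <;> first | exact h | exact absurd hij (by decide)

theorem mem_BS {g : S2} : g ∈ BS ↔ (g : M2) 1 0 = 0 := by
  rw [Subgroup.mem_comap, mem_BG, toGL_coe]

/-- The quadratic whose roots are the fixed affine points. -/
def rootQ (m : M2) (x : F) : F := m 1 0 * (x * x) + (m 1 1 - m 0 0) * x - m 0 1

/-- Coset representative. -/
def wS (x : F) : S2 := ⟨!![x, -1; 1, 0], by simp [Matrix.det_fin_two]⟩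

theorem wS_coe (x : F) : (wS x : M2) = !![x, -1; 1, 0] := rfl

theorem wS_inv_coe (x : F) : (((wS x)⁻¹ : S2) : M2) = !![0, 1; -1, x] := by
  show (wS x : M2).adjugate = _
  rw [wS_coe, Matrix.adjugate_fin_two_of]; simp

/-- Representatives of all cosets. -/
def repS : Option F → S2
  | none => 1
  | some x => wS x

theorem repS_eq_of_mem {i j : Option F} (h : (repS i)⁻¹ * repS j ∈ BS) : i = j := by
  rw [mem_BS] at h
  rcases i with _ | x <;> rcases j with _ | y
  · rfl
  · simp [repS, wS_coe] at h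
  · simp [repS, wS_coe, Matrix.adjugate_fin_two_of] at h
  · simp only [repS] at h
    rw [coe_mulS, wS_inv_coe, wS_coe] at h
    simp [Matrix.mul_apply, Fin.sum_univ_two] at h
    rw [show x = y by linear_combination h]

theorem exists_repS (m : M2) : ∃ i : Option F, (((repS i)⁻¹ : S2) : M2) * m ∈
    {k : M2 | k 1 0 = 0} := by
  by_cases h : m 1 0 = 0
  · exact ⟨none, by simp [repS, h]⟩
  · refine ⟨some (m 0 0 / m 1 0), ?_⟩
    simp only [repS, Set.mem_ofPred_eq, wS_inv_coe]
    simp [Matrix.mul_apply, Fin.sum_univ_two]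
    field_simp
    ring

theorem bijective_repS : Function.Bijective (fun p : Option F × BS => repS p.1 * (p.2 : S2)) := by
  refine ⟨fun p q h => ?_, fun g => ?_⟩
  · have h1 : (repS p.1)⁻¹ * repS q.1 = (p.2 : S2) * (q.2 : S2)⁻¹ := by
      simp only at h
      rw [inv_mul_eq_iff_eq_mul, ← mul_assoc, eq_mul_inv_iff_mul_eq, h]
    have h2 : p.1 = q.1 := repS_eq_of_mem (h1 ▸ mul_mem p.2.2 (inv_mem q.2.2))
    simp only [h2] at h
    exact Prod.ext h2 (Subtype.ext (mul_left_cancel h))
  · obtain ⟨i, hi⟩ := exists_repS (g : M2)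
    exact ⟨(i, ⟨(repS i)⁻¹ * g, mem_BS.mpr hi⟩), mul_inv_cancel_left _ _⟩

theorem bijective_repG :
    Function.Bijective (fun p : Option F × BG => SpecialLinearGroup.toGL (repS p.1) * (p.2 : G2)) := by
  refine ⟨fun p q h => ?_, fun g => ?_⟩
  · have h1 : SpecialLinearGroup.toGL ((repS p.1)⁻¹ * repS q.1) = (p.2 : G2) * (q.2 : G2)⁻¹ := by
      simp only at h
      rw [map_mul, map_inv, inv_mul_eq_iff_eq_mul, ← mul_assoc, eq_mul_inv_iff_mul_eq, h]
    have h3 : (repS p.1)⁻¹ * repS q.1 ∈ BS := by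
      rw [Subgroup.mem_comap, h1]
      exact mul_mem p.2.2 (inv_mem q.2.2)
    have h2 : p.1 = q.1 := repS_eq_of_mem h3
    simp only [h2] at h
    exact Prod.ext h2 (Subtype.ext (mul_left_cancel h))
  · obtain ⟨i, hi⟩ := exists_repS (g : M2)
    refine ⟨(i, ⟨(SpecialLinearGroup.toGL (repS i))⁻¹ * g, mem_BG.mpr ?_⟩), mul_inv_cancel_left _ _⟩
    rw [← map_inv, GeneralLinearGroup.coe_mul, toGL_coe]
    exact hi

theorem conjW (m : M2) (x : F) :
    (!![0, 1; -1, x] * m * !![x, -1; 1, 0] : M2) 1 0 = rootQ m x ∧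
      (!![0, 1; -1, x] * m * !![x, -1; 1, 0] : M2) 0 0 = m 1 0 * x + m 1 1 ∧
      (!![0, 1; -1, x] * m * !![x, -1; 1, 0] : M2) 1 1 = m 0 0 - m 1 0 * x := by
  refine ⟨?_, ?_, ?_⟩ <;> simp [rootQ, Matrix.mul_apply, Matrix.vecMul, dotProduct, Fin.sum_univ_two] <;> ring

variable [Fintype F] [DecidableEq F]

/-- The values of an induced linear character. -/
noncomputable def psFun (a b : F → ℂ) (m : M2) : ℂ :=
  (if m 1 0 = 0 then a (m 0 0) * b (m 1 1) else 0) +
    ∑ x : F, if rootQ m x = 0 then a (m 1 0 * x + m 1 1) * b (m 0 0 - m 1 0 * x) else 0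

/-- An induced function as a sum over coset representatives. -/
theorem indFun_eq_sum {G : Type*} [Group G] [Fintype G] (H : Subgroup G) {ι : Type*} [Fintype ι]
    (r : ι → G) (hr : Function.Bijective fun p : ι × H => r p.1 * (p.2 : G)) (θ : H → ℂ)
    (hθ : ∀ h k : H, θ (h⁻¹ * k * h) = θ k) (g : G) :
    Cfsg.indFun H θ g = ∑ i, Cfsg.extendByZero H θ ((r i)⁻¹ * g * r i) := by
  haveI := Fintype.ofFinite H
  have key : ∀ (y : G) (h : H), Cfsg.extendByZero H θ ((h : G)⁻¹ * y * h) =
      Cfsg.extendByZero H θ y := by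
    intro y h
    by_cases hy : y ∈ H
    · rw [extendByZero_of_mem H θ hy, extendByZero_of_mem H θ
        (mul_mem (mul_mem (inv_mem h.2) hy) h.2)]
      exact hθ h ⟨y, hy⟩
    · rw [extendByZero_of_notMem H θ hy, extendByZero_of_notMem H θ fun hm => hy ?_]
      have := mul_mem (mul_mem h.2 hm) (inv_mem h.2)
      simpa [mul_assoc] using this
  rw [indFun_apply, ← Fintype.sum_bijective _ hr _ _ fun _ => rfl, Fintype.sum_prod_type]
  have e : ∀ (i : ι) (h : H), Cfsg.extendByZero H θ ((r i * (h : G))⁻¹ * g * (r i * h)) =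
      Cfsg.extendByZero H θ ((r i)⁻¹ * g * r i) := by
    intro i h
    rw [← key ((r i)⁻¹ * g * r i) h]
    congr 1
    group
  simp only [e, Finset.sum_const, Finset.card_univ, nsmul_eq_mul, ← Finset.mul_sum,
    ← Nat.card_eq_fintype_card]
  rw [← mul_assoc, inv_mul_cancel₀ (Nat.cast_ne_zero.mpr Nat.card_pos.ne'), one_mul]

theorem upper_mul {g h : M2} (hg : g 1 0 = 0) (hh : h 1 0 = 0) :
    (g * h) 0 0 = g 0 0 * h 0 0 ∧ (g * h) 1 1 = g 1 1 * h 1 1 := by
  simp [Matrix.mul_apply, Fin.sum_univ_two, hg, hh]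

/-- The linear character of the upper triangular subgroup attached to two characters. -/
noncomputable def linB (α β : MulChar F ℂ) : BG →* ℂ where
  toFun b := α (((b : G2) : M2) 0 0) * β (((b : G2) : M2) 1 1)
  map_one' := by simp
  map_mul' b c := by
    rw [Subgroup.coe_mul, GeneralLinearGroup.coe_mul,
      (upper_mul (mem_BG.mp b.2) (mem_BG.mp c.2)).1, (upper_mul (mem_BG.mp b.2) (mem_BG.mp c.2)).2,
      map_mul, map_mul]
    ring

theorem linB_apply (α β : MulChar F ℂ) (b : BG) :
    linB α β b = α (((b : G2) : M2) 0 0) * β (((b : G2) : M2) 1 1) := rfl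

/-- Restriction to the special linear group. -/
noncomputable def toBG : BS →* BG :=
  (SpecialLinearGroup.toGL.comp (Subgroup.subtype BS)).codRestrict BG fun b => b.2

theorem toBG_coe (b : BS) : (((toBG b : BG) : G2) : M2) = ((b : S2) : M2) := rfl

/-- The induced function on the general linear group. -/
noncomputable def RG (α β : MulChar F ℂ) : G2 → ℂ :=
  Cfsg.indFun BG (fun b => α (((b : G2) : M2) 0 0) * β (((b : G2) : M2) 1 1))

/-- The induced function on the special linear group. -/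
noncomputable def RS (α : MulChar F ℂ) : S2 → ℂ :=
  Cfsg.indFun BS (fun b => α (((b : S2) : M2) 0 0))

theorem entry_ne_zero (b : BS) : ((b : S2) : M2) 0 0 ≠ 0 ∧ ((b : S2) : M2) 1 1 ≠ 0 := by
  have h := detS (b : S2)
  rw [Matrix.det_fin_two, mem_BS.mp b.2, mul_zero, sub_zero] at h
  exact ⟨left_ne_zero_of_mul_eq_one h, right_ne_zero_of_mul_eq_one h⟩

theorem linB_toBG (α : MulChar F ℂ) (b : BS) :
    linB α 1 (toBG b) = α (((b : S2) : M2) 0 0) := by
  rw [linB_apply, toBG_coe, MulChar.one_apply (isUnit_iff_ne_zero.mpr (entry_ne_zero b).2), mul_one]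

theorem isCharacter_RG (α β : MulChar F ℂ) : Cfsg.IsCharacter G2 (RG α β) :=
  Cfsg.Agent.Char.isCharacter_indFun BG
    (Cfsg.Agent.Char.IsIrrCharacter.isCharacter
      (Cfsg.Agent.Char.isIrrCharacter_monoidHom (linB α β).toHomUnits))

theorem isCharacter_RS (α : MulChar F ℂ) : Cfsg.IsCharacter S2 (RS α) := by
  have h := Cfsg.Agent.Char.IsIrrCharacter.isCharacter
    (Cfsg.Agent.Char.isIrrCharacter_monoidHom ((linB α 1).comp toBG).toHomUnits)
  have e : (fun b : BS => α (((b : S2) : M2) 0 0)) =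
      fun b => ((((linB α 1).comp toBG).toHomUnits b : ℂˣ) : ℂ) := funext fun b => (linB_toBG α b).symm
  exact Cfsg.Agent.Char.isCharacter_indFun BS (θ := fun b : BS => α (((b : S2) : M2) 0 0))
    (e ▸ h)

theorem RG_apply (α β : MulChar F ℂ) (g : G2) : RG α β g = psFun α β (g : M2) := by
  rw [RG, indFun_eq_sum BG (fun i => SpecialLinearGroup.toGL (repS i)) bijective_repG _
    (fun h k => by
      show linB α β (h⁻¹ * k * h) = linB α β k
      rw [map_mul, map_mul, mul_right_comm, ← map_mul, inv_mul_cancel, map_one, one_mul]) g,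
    Fintype.sum_option]
  have ext_eq : ∀ (y : G2), Cfsg.extendByZero BG
      (fun b => α (((b : G2) : M2) 0 0) * β (((b : G2) : M2) 1 1)) y =
      if (y : M2) 1 0 = 0 then α ((y : M2) 0 0) * β ((y : M2) 1 1) else 0 := by
    intro y
    by_cases hy : y ∈ BG
    · rw [extendByZero_of_mem _ _ hy, if_pos (mem_BG.mp hy)]
    · rw [extendByZero_of_notMem _ _ hy, if_neg fun h => hy (mem_BG.mpr h)]
  simp only [ext_eq, psFun]
  congr 1
  · simp [repS]
  · refine Finset.sum_congr rfl fun x _ => ?_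
    have e : (((SpecialLinearGroup.toGL (repS (some x)))⁻¹ * g *
        SpecialLinearGroup.toGL (repS (some x)) : G2) : M2) =
        !![0, 1; -1, x] * (g : M2) * !![x, -1; 1, 0] := by
      rw [GeneralLinearGroup.coe_mul, GeneralLinearGroup.coe_mul, ← map_inv, toGL_coe, toGL_coe,
        repS, wS_inv_coe, wS_coe]
    obtain ⟨e1, e2, e3⟩ := conjW (g : M2) x
    rw [e, e1, e2, e3]

theorem RS_apply (α : MulChar F ℂ) (g : S2) :
    RS α g = psFun α (1 : MulChar F ℂ) (g : M2) := by
  rw [RS, indFun_eq_sum BS repS bijective_repS _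
    (fun h k => by
      show α ((((h⁻¹ * k * h : BS) : S2) : M2) 0 0) = α (((k : S2) : M2) 0 0)
      rw [← linB_toBG, ← linB_toBG, map_mul, map_mul, map_mul, map_mul, mul_right_comm,
        ← map_mul (linB α 1), ← map_mul toBG, inv_mul_cancel, map_one, map_one, one_mul]) g, Fintype.sum_option]
  have ext_eq : ∀ (y : S2), Cfsg.extendByZero BS (fun b => α (((b : S2) : M2) 0 0)) y =
      if (y : M2) 1 0 = 0 then α ((y : M2) 0 0) * (1 : MulChar F ℂ) ((y : M2) 1 1) else 0 := by
    intro y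
    by_cases hy : y ∈ BS
    · rw [extendByZero_of_mem _ _ hy, if_pos (mem_BS.mp hy),
        MulChar.one_apply (isUnit_iff_ne_zero.mpr (entry_ne_zero ⟨y, hy⟩).2), mul_one]
    · rw [extendByZero_of_notMem _ _ hy, if_neg fun h => hy (mem_BS.mpr h)]
  simp only [ext_eq, psFun]
  congr 1
  · simp [repS]
  · refine Finset.sum_congr rfl fun x _ => ?_
    have e : (((repS (some x))⁻¹ * g * repS (some x) : S2) : M2) =
        !![0, 1; -1, x] * (g : M2) * !![x, -1; 1, 0] := by
      rw [coe_mulS, coe_mulS, repS, wS_inv_coe, wS_coe]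
    obtain ⟨e1, e2, e3⟩ := conjW (g : M2) x
    rw [e, e1, e2, e3]

theorem fixedPointCharacter_eq (g : G2) :
    Cfsg.fixedPointCharacter BG g = psFun (fun _ => 1) (fun _ => 1) (g : M2) := by
  rw [Cfsg.fixedPointCharacter, ← Cfsg.Agent.Char.indFun_one_eq_card_fixed,
    indFun_eq_sum BG (fun i => SpecialLinearGroup.toGL (repS i)) bijective_repG _
      (fun _ _ => rfl) g, Fintype.sum_option]
  have ext_eq : ∀ (y : G2), Cfsg.extendByZero BG (fun _ => (1 : ℂ)) y =
      if (y : M2) 1 0 = 0 then (1 : ℂ) * 1 else 0 := by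
    intro y
    by_cases hy : y ∈ BG
    · rw [extendByZero_of_mem _ _ hy, if_pos (mem_BG.mp hy), one_mul]
    · rw [extendByZero_of_notMem _ _ hy, if_neg fun h => hy (mem_BG.mpr h)]
  simp only [ext_eq, psFun]
  congr 1
  · simp [repS]
  · refine Finset.sum_congr rfl fun x _ => ?_
    have e : (((SpecialLinearGroup.toGL (repS (some x)))⁻¹ * g *
        SpecialLinearGroup.toGL (repS (some x)) : G2) : M2) =
        !![0, 1; -1, x] * (g : M2) * !![x, -1; 1, 0] := by
      rw [GeneralLinearGroup.coe_mul, GeneralLinearGroup.coe_mul, ← map_inv, toGL_coe, toGL_coe,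
        repS, wS_inv_coe, wS_coe]
    rw [e, (conjW (g : M2) x).1]

section Values

variable (a b : F → ℂ)

theorem psFun_scalar {m : M2} (h10 : m 1 0 = 0) (h01 : m 0 1 = 0) (he : m 0 0 = m 1 1) :
    psFun a b m = ((Fintype.card F : ℂ) + 1) * (a (m 0 0) * b (m 0 0)) := by
  simp [psFun, rootQ, h10, h01, he]
  ring

theorem psFun_upper_ne {m : M2} (h10 : m 1 0 = 0) (hne : m 0 0 ≠ m 1 1) :
    psFun a b m = a (m 0 0) * b (m 1 1) + a (m 1 1) * b (m 0 0) := by
  have hd : m 1 1 - m 0 0 ≠ 0 := sub_ne_zero.mpr (Ne.symm hne)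
  have h : ∀ x, rootQ m x = 0 ↔ x = m 0 1 / (m 1 1 - m 0 0) := fun x => by
    rw [rootQ, h10, eq_div_iff hd]
    constructor <;> intro hx <;> linear_combination hx
  simp [psFun, h, h10]

theorem psFun_upper_eq {m : M2} (h10 : m 1 0 = 0) (he : m 0 0 = m 1 1) (h01 : m 0 1 ≠ 0) :
    psFun a b m = a (m 0 0) * b (m 1 1) := by
  simp [psFun, rootQ, h10, he, h01]

theorem psFun_elliptic {m : M2} (h : eig m = ∅) : psFun a b m = 0 := by
  have h10 : m 1 0 ≠ 0 := fun h0 => by
    have : m 0 0 ∈ eig m := by rw [eig_upper h0]; exact Set.mem_insert _ _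
    rw [h] at this
    exact this
  have hx : ∀ x, rootQ m x ≠ 0 := fun x h0 => by
    have : m 1 0 * x + m 1 1 ∈ eig m := by
      show _ * _ - _ * _ + _ = 0
      rw [Matrix.trace_fin_two, Matrix.det_fin_two]
      unfold rootQ at h0
      linear_combination m 1 0 * h0
    rw [h] at this
    exact this
  simp [psFun, h10, hx]

theorem psFun_twist (α β γ : MulChar F ℂ) (m : M2) :
    psFun (⇑(α * γ)) (⇑(β * γ)) m = γ m.det * psFun α β m := by
  rw [psFun, psFun, mul_add, Finset.mul_sum]
  congr 1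
  · by_cases h : m 1 0 = 0
    · rw [if_pos h, if_pos h, Matrix.det_fin_two, h, mul_zero, sub_zero, map_mul,
        MulChar.mul_apply, MulChar.mul_apply]
      ring
    · rw [if_neg h, if_neg h, mul_zero]
  · refine Finset.sum_congr rfl fun x _ => ?_
    by_cases h : rootQ m x = 0
    · rw [if_pos h, if_pos h, show m.det = (m 1 0 * x + m 1 1) * (m 0 0 - m 1 0 * x) by
        rw [Matrix.det_fin_two]; unfold rootQ at h; linear_combination m 1 0 * h,
        map_mul, MulChar.mul_apply, MulChar.mul_apply]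
      ring
    · rw [if_neg h, if_neg h, mul_zero]

end Values

theorem RG_twist (α β γ : MulChar F ℂ) (g : G2) :
    RG (α * γ) (β * γ) g = γ (g : M2).det * RG α β g := by
  rw [RG_apply, RG_apply, psFun_twist]

theorem RG_toGL (α β : MulChar F ℂ) (g : S2) :
    RG α β (SpecialLinearGroup.toGL g) = RS (α * β⁻¹) g := by
  have h := RG_twist (α * β⁻¹) 1 β (SpecialLinearGroup.toGL g)
  rw [inv_mul_cancel_right, one_mul, toGL_coe, detS, map_one, one_mul] at h
  rw [h, RG_apply, RS_apply, toGL_coe]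

end Cfsg.Agent.GL2
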