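/-
Finite central extensions of `SL₂(q)`.
-/
import Mathlib
import Cfsg.Agent.S0262
import Cfsg.Agent.Lib.Classical.SL2Two
import Cfsg.Agent.Lib.Struct.SchurTransfer

set_option autoImplicit false

open scoped commutatorElement Pointwise

namespace Cfsg.Agent.GL2.CentralExt

open Cfsg.Agent.Classical

section Groups

variable {P Q : Type*} [Group P] [Group Q]

theorem ker_inf_commutator_of_cyclic [IsCyclic Q] (f : P →* Q) (hc : f.ker ≤ Subgroup.center P) :
    f.ker ⊓ commutator P = ⊥ := by
  have h := commutative_of_cyclic_center_quotient f hc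
  rw [show commutator P = ⊥ by
    rw [commutator_def, Subgroup.commutator_eq_bot_iff_le_centralizer]
    exact fun x _ => Subgroup.mem_centralizer_iff.mpr fun y _ => h y x, inf_bot_eq]

/-- A generalised quaternion group has no proper central cover inside the commutator subgroup. -/
theorem ker_inf_commutator_of_quaternion {n : ℕ} [NeZero n] (f : P →* QuaternionGroup n) (hf : Function.Surjective f)
    (hc : f.ker ≤ Subgroup.center P) : f.ker ⊓ commutator P = ⊥ := by
  obtain ⟨A, hA⟩ := hf (QuaternionGroup.a 1)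
  obtain ⟨B, hB⟩ := hf (QuaternionGroup.xa 0)
  have hcen : ∀ w, f w = 1 → ∀ g, g * w = w * g := fun w hw => Subgroup.mem_center_iff.mp (hc hw)
  have hAn : f (A ^ n) = QuaternionGroup.a (n : ZMod (2 * n)) := by
    rw [map_pow, hA, QuaternionGroup.a_one_pow]
  set z := B * A * B⁻¹ * A with hzdef
  have hz : f z = 1 := by
    have hconj : f (B * A) = f (A⁻¹ * B) := by
      rw [map_mul, map_mul, map_inv, hA, hB, QuaternionGroup.xa_mul_a, eq_inv_mul_iff_mul_eq,
        QuaternionGroup.a_mul_xa]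
      ring_nf
    rw [hzdef, show B * A * B⁻¹ * A = (B * A) * (A⁻¹ * B)⁻¹ by group, map_mul, map_inv, hconj, mul_inv_cancel]
  have hBAB : B * A * B⁻¹ = z * A⁻¹ := by rw [hzdef]; group
  set w := (A ^ n)⁻¹ * (B * B) with hwdef
  have hw : f w = 1 := by
    rw [hwdef, map_mul, map_inv, map_mul, hAn, hB, QuaternionGroup.xa_mul_xa, sub_zero, add_zero, inv_mul_cancel]
  have hBAn : B * A ^ n * B⁻¹ = A ^ n := by
    have h1 : A ^ n = B * B * w⁻¹ := by rw [hwdef]; group
    rw [h1]
    calc B * (B * B * w⁻¹) * B⁻¹ = B * B * (B * w⁻¹) * B⁻¹ := by group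
      _ = B * B * (w⁻¹ * B) * B⁻¹ := by rw [hcen w⁻¹ (by rw [map_inv, hw, inv_one])]
      _ = B * B * w⁻¹ := by group
  have hzn : z ^ n = A ^ n * A ^ n := by
    have h1 : B * A ^ n * B⁻¹ = z ^ n * (A ^ n)⁻¹ := by
      rw [← conj_pow, hBAB, (show Commute z A⁻¹ from (hcen z hz A⁻¹).symm).mul_pow, inv_pow]
    rw [hBAn] at h1
    calc z ^ n = z ^ n * (A ^ n)⁻¹ * A ^ n := by group
      _ = A ^ n * A ^ n := by rw [← h1]
  set d := A * A * z⁻¹ with hddef
  have hdn : d ^ n = 1 := by
    rw [hddef, ((show Commute (A * A) z⁻¹ from hcen z⁻¹ (by rw [map_inv, hz, inv_one]) (A * A))).mul_pow,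
      (Commute.refl A).mul_pow, inv_pow, hzn, mul_inv_cancel]
  have hAd : A * d * A⁻¹ = d := by
    calc A * d * A⁻¹ = A * A * (A * z⁻¹) * A⁻¹ := by rw [hddef]; group
      _ = A * A * (z⁻¹ * A) * A⁻¹ := by rw [hcen z⁻¹ (by rw [map_inv, hz, inv_one])]
      _ = d := by rw [hddef]; group
  have hBd : B * d * B⁻¹ = d⁻¹ := by
    have hzc := hcen z hz
    calc B * d * B⁻¹ = (B * A * B⁻¹) * (B * A * B⁻¹) * (B * z⁻¹ * B⁻¹) := by rw [hddef]; group
      _ = (B * A * B⁻¹) * (B * A * B⁻¹) * z⁻¹ := by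
        congr 1
        rw [hcen z⁻¹ (by rw [map_inv, hz, inv_one]) B, mul_inv_cancel_right]
      _ = z * A⁻¹ * (z * A⁻¹) * z⁻¹ := by rw [hBAB]
      _ = z * (A⁻¹ * z) * (A⁻¹ * z⁻¹) := by group
      _ = z * (z * A⁻¹) * (z⁻¹ * A⁻¹) := by rw [hzc, hcen z⁻¹ (by rw [map_inv, hz, inv_one]) A⁻¹]
      _ = z * (z * (A⁻¹ * z⁻¹) * A⁻¹) := by group
      _ = z * (z * (z⁻¹ * A⁻¹) * A⁻¹) := by rw [hcen z⁻¹ (by rw [map_inv, hz, inv_one]) A⁻¹]
      _ = d⁻¹ := by rw [hddef]; group
  -- generation
  have hgen : ∀ g : P, ∃ (b : Bool) (i : ℕ) (u : P), f u = 1 ∧ g = (if b then B else 1) * A ^ i * u := by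
    intro g
    rcases hg : f g with j | j
    · refine ⟨false, j.val, (A ^ j.val)⁻¹ * g, ?_, by simp⟩
      rw [map_mul, map_inv, map_pow, hA, hg, QuaternionGroup.a_one_pow, ZMod.natCast_zmod_val, inv_mul_cancel]
    · refine ⟨true, j.val, (A ^ j.val)⁻¹ * B⁻¹ * g, ?_, by simp [mul_assoc]⟩
      rw [map_mul, map_mul, map_inv, map_inv, map_pow, hA, hg, hB, QuaternionGroup.a_one_pow, ZMod.natCast_zmod_val,
        ← show QuaternionGroup.xa 0 * QuaternionGroup.a j = (QuaternionGroup.xa j : QuaternionGroup n) by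
          rw [QuaternionGroup.xa_mul_a, zero_add]]
      group
  have htop : (⊤ : Subgroup P) ≤ Subgroup.closure ({A, B} ∪ (f.ker : Set P)) := by
    intro g _
    obtain ⟨b, i, u, hu, rfl⟩ := hgen g
    refine mul_mem (mul_mem ?_ (pow_mem (Subgroup.subset_closure (by simp)) i)) (Subgroup.subset_closure (Or.inr hu))
    cases b
    · exact one_mem _
    · exact Subgroup.subset_closure (by simp)
  haveI hDn : (Subgroup.zpowers d).Normal := by
    rw [← Subgroup.normalizer_eq_top_iff, eq_top_iff]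
    refine htop.trans ((Subgroup.closure_le _).mpr ?_)
    have key : ∀ g : P, (g * d * g⁻¹ = d ∨ g * d * g⁻¹ = d⁻¹) → g ∈ Subgroup.normalizer (Subgroup.zpowers d : Set P) := by
      intro g hg
      rw [Subgroup.mem_normalizer_iff]
      have h1 : (Subgroup.zpowers d).map (MulAut.conj g).toMonoidHom = Subgroup.zpowers d := by
        rw [MonoidHom.map_zpowers]
        show Subgroup.zpowers (g * d * g⁻¹) = _
        rcases hg with h | h <;> rw [h]
        exact Subgroup.zpowers_inv
      intro x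
      refine ⟨fun hx => h1.le ⟨x, hx, rfl⟩, fun hx => ?_⟩
      obtain ⟨y, hy, hy'⟩ := h1.ge hx
      rwa [← (MulAut.conj g).injective hy']
    rintro g ((rfl | rfl) | hg)
    · exact key _ (Or.inl hAd)
    · exact key _ (Or.inr hBd)
    · exact key _ (Or.inl (by rw [← hcen g hg, mul_inv_cancel_right]))
  have hAB : ⁅A, B⁆ = d := by
    rw [commutatorElement_def, show A * B * A⁻¹ * B⁻¹ = A * (B * A * B⁻¹)⁻¹ by group, hBAB, mul_inv_rev, inv_inv,
      ← mul_assoc]
  have hle : commutator P ≤ Subgroup.zpowers d := by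
    let π := QuotientGroup.mk' (Subgroup.zpowers d)
    have hcomm : ∀ g h : P, π g * π h = π h * π g := by
      have hAB' : Commute (π A) (π B) := by
        rw [← commutatorElement_eq_one_iff_commute, ← map_commutatorElement, hAB]
        exact (QuotientGroup.eq_one_iff d).mpr (Subgroup.mem_zpowers d)
      have hgens : ∀ x ∈ ({A, B} ∪ (f.ker : Set P)), ∀ y ∈ ({A, B} ∪ (f.ker : Set P)), Commute (π x) (π y) := by
        rintro x ((rfl | rfl) | hx) y ((rfl | rfl) | hy) <;>
          first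
            | exact Commute.refl _
            | exact hAB'
            | exact hAB'.symm
            | exact ((show Commute y _ from (hcen y hy _).symm).map π).symm
            | exact (show Commute x _ from (hcen x hx _).symm).map π
      intro g h
      have h1 : ∀ y ∈ ({A, B} ∪ (f.ker : Set P)), Commute (π g) (π y) := fun y hy => by
        induction htop (Subgroup.mem_top g) using Subgroup.closure_induction with
        | mem x hx => exact hgens x hx y hy
        | one => rw [map_one]; exact Commute.one_left _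
        | mul a b _ _ iha ihb => rw [map_mul]; exact iha.mul_left ihb
        | inv a _ iha => rw [map_inv]; exact iha.inv_left
      induction htop (Subgroup.mem_top h) using Subgroup.closure_induction with
      | mem x hx => exact h1 x hx
      | one => rw [map_one]; exact Commute.one_right _
      | mul a b _ _ iha ihb => rw [map_mul]; exact Commute.mul_right iha ihb
      | inv a _ iha => rw [map_inv]; exact Commute.inv_right iha
    rw [commutator_def, Subgroup.commutator_le]
    intro g _ h _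
    exact (QuotientGroup.eq_one_iff _).mp ((map_commutatorElement π g h).trans
      (commutatorElement_eq_one_iff_mul_comm.mpr (hcomm g h)))
  rw [Subgroup.eq_bot_iff_forall]
  rintro x ⟨hx, hxc⟩
  replace hx : f x = 1 := hx
  obtain ⟨k, rfl⟩ := Subgroup.mem_zpowers_iff.mp (hle hxc)
  have h1 : (QuaternionGroup.a 1 : QuaternionGroup n) ^ (2 * k) = 1 := by
    rw [← hA, ← map_zpow, zpow_mul, zpow_two, ← hx, hddef, map_zpow, map_zpow, map_mul _ (A * A), map_inv, hz,
      inv_one, mul_one]
  rw [← orderOf_dvd_iff_zpow_eq_one, QuaternionGroup.orderOf_a_one] at h1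
  obtain ⟨j, hj⟩ : (n : ℤ) ∣ k := by
    rw [Nat.cast_mul] at h1
    exact Int.dvd_of_mul_dvd_mul_left (by norm_num) h1
  rw [hj, zpow_mul, zpow_natCast, hdn, one_zpow]

end Groups

variable {F : Type*} [Field F]

local notation "S2" => Matrix.SpecialLinearGroup (Fin 2) F

/-- Upper unitriangular element. -/
def uS (t : F) : S2 := ⟨!![1, t; 0, 1], by simp [Matrix.det_fin_two]⟩

/-- Lower unitriangular element. -/
def lS (t : F) : S2 := ⟨!![1, 0; t, 1], by simp [Matrix.det_fin_two]⟩

theorem uS_mul (s t : F) : uS s * uS t = uS (s + t) := by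
  apply Subtype.ext
  show (!![1, s; 0, 1] * !![1, t; 0, 1] : Matrix (Fin 2) (Fin 2) F) = !![1, s + t; 0, 1]
  apply SL2.coord <;> simp [Matrix.mul_apply, Fin.sum_univ_two, add_comm]

theorem lS_mul (s t : F) : lS s * lS t = lS (s + t) := by
  apply Subtype.ext
  show (!![1, 0; s, 1] * !![1, 0; t, 1] : Matrix (Fin 2) (Fin 2) F) = !![1, 0; s + t, 1]
  apply SL2.coord <;> simp [Matrix.mul_apply, Fin.sum_univ_two, add_comm]

theorem uS_zero : uS (0 : F) = 1 := by
  apply Subtype.ext
  apply SL2.coord <;> simp [uS]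

variable (F) in
/-- The upper unitriangular subgroup. -/
def U0 : Subgroup S2 where
  carrier := Set.range uS
  one_mem' := ⟨0, uS_zero⟩
  mul_mem' := by rintro _ _ ⟨s, rfl⟩ ⟨t, rfl⟩; exact ⟨s + t, (uS_mul s t).symm⟩
  inv_mem' := by
    rintro _ ⟨s, rfl⟩
    exact ⟨-s, (inv_eq_of_mul_eq_one_right (by rw [uS_mul, add_neg_cancel, uS_zero])).symm⟩

theorem uS_injective : Function.Injective (uS (F := F)) := fun a b h => by
  simpa [uS] using congrArg (fun u : S2 => (u : Matrix (Fin 2) (Fin 2) F) 0 1) h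

variable [Fintype F]

theorem exists_sylow_U0 (p : ℕ) [Fact p.Prime] [CharP F p] : ∃ R : Sylow p S2, (R : Subgroup S2) = U0 F := by
  obtain ⟨n, hn, hq⟩ := SL2.exists_card_eq (F := F) p
  have hU : Nat.card (U0 F) = Fintype.card F := by
    rw [← Nat.card_eq_fintype_card]
    exact Nat.card_range_of_injective uS_injective
  have hidx : ¬ p ∣ (U0 F).index := by
    intro h
    have := (U0 F).card_mul_index
    rw [hU, SL2.card_SL2, mul_right_inj' Fintype.card_ne_zero] at this
    rw [this] at h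
    have hp2 := (Fact.out : p.Prime).two_le
    have h1 : p ∣ Fintype.card F ^ 2 := dvd_pow (hq ▸ dvd_pow_self p hn.ne') two_ne_zero
    have h2 : p ∣ Fintype.card F ^ 2 - (Fintype.card F ^ 2 - 1) := Nat.dvd_sub h1 h
    rw [Nat.sub_sub_self (Nat.one_le_pow _ _ Fintype.card_pos)] at h2
    exact (Fact.out : p.Prime).not_dvd_one h2
  exact ⟨IsPGroup.toSylow (IsPGroup.of_card (hU.trans hq)) hidx, IsPGroup.toSylow_coe _ _⟩

/-- A central extension of `SL₂(q)` splits off the commutator subgroup once it does so over a Sylow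
subgroup for the characteristic. -/
theorem ker_inf_commutator (p : ℕ) [Fact p.Prime] [CharP F p] {G : Type*} [Group G] [Finite G] (f : G →* S2) (hf : Function.Surjective f)
    (hc : f.ker ≤ Subgroup.center G) (hU : ∀ a b : G, f a ∈ U0 F → f b ∈ U0 F → a * b = b * a) :
    f.ker ⊓ commutator G = ⊥ := by
  classical
  by_contra hne
  obtain ⟨l, hl, hld⟩ := Nat.exists_prime_and_dvd (n := Nat.card ↥(f.ker ⊓ commutator G))
    (fun e => hne (Subgroup.card_eq_one.mp e))
  haveI := Fact.mk hl
  obtain ⟨⟨z, hzk, hzc⟩, hz⟩ := exists_prime_orderOf_dvd_card' (G := ↥(f.ker ⊓ commutator G)) l hld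
  rw [← Subgroup.orderOf_coe] at hz
  change orderOf z = l at hz
  suffices H : ∃ P : Sylow l G, ∀ y : (P : Subgroup G), f y = 1 → y ∈ commutator (P : Subgroup G) → y = 1 by
    obtain ⟨P, hP⟩ := H
    obtain ⟨y, hy, hy'⟩ := Struct.Schur.pow_index_mem_commutator (P : Subgroup G) (hc hzk) hzc
    have := hP y (by rw [hy', map_pow, show f z = 1 from hzk, one_pow]) hy
    rw [this, OneMemClass.coe_one] at hy'
    have h2 := orderOf_dvd_of_pow_eq_one hy'.symm
    rw [hz] at h2
    exact P.not_dvd_index h2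
  have hres : ∀ (P : Sylow l G) (R : Sylow l S2), (P : Subgroup G).map f = (R : Subgroup S2) →
      ∃ g : (P : Subgroup G) →* (R : Subgroup S2), Function.Surjective g ∧ g.ker ≤ Subgroup.center _ ∧
        ∀ y : (P : Subgroup G), f y = 1 → y ∈ g.ker := by
    intro P R h
    refine ⟨(f.comp (P : Subgroup G).subtype).codRestrict _ fun x => h.le ⟨x, x.2, rfl⟩, fun r => ?_,
      fun x hx => ?_, fun y hy => Subtype.ext hy⟩
    · obtain ⟨x, hx, hxr⟩ := h.ge r.2
      exact ⟨⟨x, hx⟩, Subtype.ext hxr⟩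
    · rw [Subgroup.mem_center_iff]
      exact fun y => Subtype.ext (Subgroup.mem_center_iff.mp (hc (congrArg Subtype.val hx)) y)
  obtain ⟨P⟩ : Nonempty (Sylow l G) := inferInstance
  let R := P.mapSurjective hf
  have hR : (P : Subgroup G).map f = (R : Subgroup S2) := rfl
  by_cases hlp : l = p
  · haveI : CharP F l := hlp ▸ ‹CharP F p›
    obtain ⟨R₀, hR₀⟩ := exists_sylow_U0 (F := F) l
    obtain ⟨s, hs⟩ := MulAction.exists_smul_eq S2 R R₀
    obtain ⟨t, rfl⟩ := hf s
    refine ⟨t • P, fun y _ hy' => ?_⟩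
    have hmem : ∀ x : ↥((t • P : Sylow l G) : Subgroup G), f x ∈ U0 F := by
      intro x
      rw [← hR₀, ← hs]
      obtain ⟨x₀, hx₀, he⟩ := ((Sylow.coe_subgroup_smul (g := t) (P := P)).le x.2 :
        (x : G) ∈ MulAut.conj t • (P : Subgroup G))
      rw [← he, Sylow.coe_subgroup_smul]
      exact ⟨f x₀, ⟨x₀, hx₀, rfl⟩, by simp⟩
    have hbot : commutator ↥((t • P : Sylow l G) : Subgroup G) = ⊥ := by
      rw [commutator_def, Subgroup.commutator_eq_bot_iff_le_centralizer]
      exact fun a _ => Subgroup.mem_centralizer_iff.mpr fun b _ => Subtype.ext (hU _ _ (hmem b) (hmem a))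
    rw [hbot] at hy'
    exact hy'
  refine ⟨P, fun y hy hy' => ?_⟩
  obtain ⟨g, hg, hgc, hgk⟩ := hres P R hR
  suffices g.ker ⊓ commutator (P : Subgroup G) = ⊥ from Subgroup.mem_bot.mp (this ▸ ⟨hgk y hy, hy'⟩)
  by_cases hl2 : l = 2
  · subst hl2
    have h2 : (2 : F) ≠ 0 := fun e => hlp ((Nat.prime_dvd_prime_iff_eq Fact.out Nat.prime_two).mp
      ((CharP.cast_eq_zero_iff F p 2).mp (by exact_mod_cast e))).symm
    obtain ⟨k, -, ⟨e⟩⟩ := SL2Two.sylow_quaternion h2 R
    have := ker_inf_commutator_of_quaternion (e.toMonoidHom.comp g) (e.surjective.comp hg)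
      (fun x hx => hgc (e.injective (hx.trans (map_one e).symm)))
    rw [eq_bot_iff] at this ⊢
    exact le_trans (inf_le_inf_right _ fun x (hx : g x = 1) => show e (g x) = 1 by rw [hx, map_one]) this
  · haveI := Cfsg.Agent.S0262.result p l hl2 hlp R
    exact ker_inf_commutator_of_cyclic g hgc

end Cfsg.Agent.GL2.CentralExt
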