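import Cfsg.Agent.Lib.Classical.SL2

/-!
# Conjugacy classes and centralizers of two by two invertible matrices
-/

set_option autoImplicit false
set_option linter.style.haveILetI false

open Matrix
open scoped MatrixGroups

namespace Cfsg.Agent.GL2

open Cfsg.Agent.Classical (card_units_eq)
open Cfsg.Agent.Classical.SL2 (coord mul_apply_GL exists_affine eq_of_nonscalar sq_eq)

variable {F : Type*} [Field F]

local notation "M2" => Matrix (Fin 2) (Fin 2) F

/-- The matrix is not a multiple of the identity. -/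
def Nonscalar (g : M2) : Prop := ¬ ∃ a : F, g = a • (1 : M2)

theorem det_ne_zero (g : GL (Fin 2) F) : (g : M2).det ≠ 0 :=
  ((Matrix.isUnit_iff_isUnit_det _).1 g.isUnit).ne_zero

theorem coe_mk {A : M2} (h : A.det ≠ 0) :
    ((GeneralLinearGroup.mkOfDetNeZero A h : GL (Fin 2) F) : M2) = A := rfl

theorem coe_det (g : GL (Fin 2) F) :
    ((GeneralLinearGroup.det g : Fˣ) : F) = (g : M2).det := rfl

theorem nonscalar_iff {g : M2} :
    Nonscalar g ↔ g 0 1 ≠ 0 ∨ g 1 0 ≠ 0 ∨ g 0 0 ≠ g 1 1 := by
  constructor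
  · intro h
    by_contra hc
    push Not at hc
    exact h ⟨g 0 0, by apply coord <;> simp [hc.1, hc.2.1, hc.2.2]⟩
  · rintro h ⟨a, rfl⟩
    simp at h

/-- A nonscalar matrix has a cyclic vector. -/
theorem exists_cyclic {g : M2} (hg : Nonscalar g) :
    ∃ P : M2, P.det ≠ 0 ∧ g * P = P * !![0, -g.det; 1, g.trace] := by
  rcases nonscalar_iff.mp hg with h | h | h
  · refine ⟨!![0, g 0 1; 1, g 1 1], by simp [Matrix.det_fin_two, h], ?_⟩
    apply coord <;> simp [Matrix.mul_apply, Fin.sum_univ_two, Matrix.det_fin_two,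
      Matrix.trace_fin_two] <;> ring
  · refine ⟨!![1, g 0 0; 0, g 1 0], by simp [Matrix.det_fin_two, h], ?_⟩
    apply coord <;> simp [Matrix.mul_apply, Fin.sum_univ_two, Matrix.det_fin_two,
      Matrix.trace_fin_two] <;> ring
  · by_cases hb : g 0 1 = 0
    · by_cases hc : g 1 0 = 0
      · refine ⟨!![1, g 0 0; 1, g 1 1],
          by simp [Matrix.det_fin_two, sub_ne_zero, Ne.symm h], ?_⟩
        apply coord <;> simp [Matrix.mul_apply, Fin.sum_univ_two, Matrix.det_fin_two,
          Matrix.trace_fin_two, hb, hc] <;> ring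
      · refine ⟨!![1, g 0 0; 0, g 1 0], by simp [Matrix.det_fin_two, hc], ?_⟩
        apply coord <;> simp [Matrix.mul_apply, Fin.sum_univ_two, Matrix.det_fin_two,
          Matrix.trace_fin_two] <;> ring
    · refine ⟨!![0, g 0 1; 1, g 1 1], by simp [Matrix.det_fin_two, hb], ?_⟩
      apply coord <;> simp [Matrix.mul_apply, Fin.sum_univ_two, Matrix.det_fin_two,
        Matrix.trace_fin_two] <;> ring

/-- The companion matrix. -/
noncomputable def comp (t : F) (d : Fˣ) : GL (Fin 2) F :=
  GeneralLinearGroup.mkOfDetNeZero !![0, -(d : F); 1, t] (by simp [Matrix.det_fin_two])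

theorem comp_coe (t : F) (d : Fˣ) : (comp t d : M2) = !![0, -(d : F); 1, t] := rfl

theorem comp_nonscalar (t : F) (d : Fˣ) : Nonscalar (comp t d : M2) :=
  nonscalar_iff.mpr (Or.inr (Or.inl (by simp [comp_coe])))

theorem comp_trace (t : F) (d : Fˣ) : (comp t d : M2).trace = t := by
  simp [comp_coe, Matrix.trace_fin_two]

theorem comp_det (t : F) (d : Fˣ) : (comp t d : M2).det = d := by
  simp [comp_coe, Matrix.det_fin_two]

theorem trace_eq_of_isConj {g h : GL (Fin 2) F} (hc : IsConj g h) :
    (g : M2).trace = (h : M2).trace := by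
  obtain ⟨c, rfl⟩ := isConj_iff.mp hc
  rw [GeneralLinearGroup.coe_mul, GeneralLinearGroup.coe_mul, Matrix.trace_mul_comm,
    ← Matrix.mul_assoc, ← GeneralLinearGroup.coe_mul, inv_mul_cancel, GeneralLinearGroup.coe_one,
    Matrix.one_mul]

theorem det_eq_of_isConj {g h : GL (Fin 2) F} (hc : IsConj g h) :
    (g : M2).det = (h : M2).det := by
  obtain ⟨c, rfl⟩ := isConj_iff.mp hc
  rw [← coe_det, ← coe_det, map_mul, map_mul, map_inv, mul_inv_cancel_comm]

theorem nonscalar_of_isConj {g h : GL (Fin 2) F} (hc : IsConj g h) (hg : Nonscalar (g : M2)) :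
    Nonscalar (h : M2) := by
  obtain ⟨c, rfl⟩ := isConj_iff.mp hc
  rintro ⟨a, ha⟩
  refine hg ⟨a, ?_⟩
  have : g = c⁻¹ * (c * g * c⁻¹) * c := by group
  rw [this, GeneralLinearGroup.coe_mul, GeneralLinearGroup.coe_mul, ha]
  simp [← GeneralLinearGroup.coe_mul]

/-- A nonscalar element is conjugate to its companion matrix. -/
theorem exists_conj_comp {g : GL (Fin 2) F} (hg : Nonscalar (g : M2)) :
    ∃ c : GL (Fin 2) F, c * comp (g : M2).trace (GeneralLinearGroup.det g) * c⁻¹ = g := by
  obtain ⟨P, hP, e⟩ := exists_cyclic hg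
  refine ⟨GeneralLinearGroup.mkOfDetNeZero P hP, mul_inv_eq_of_eq_mul (Units.ext ?_)⟩
  rw [GeneralLinearGroup.coe_mul, GeneralLinearGroup.coe_mul, comp_coe, coe_det, coe_mk, e]

theorem isConj_of_invariants {g h : GL (Fin 2) F} (hg : Nonscalar (g : M2))
    (hh : Nonscalar (h : M2)) (ht : (g : M2).trace = (h : M2).trace)
    (hd : (g : M2).det = (h : M2).det) : IsConj g h := by
  obtain ⟨a, ha⟩ := exists_conj_comp hg
  obtain ⟨b, hb⟩ := exists_conj_comp hh
  have e : GeneralLinearGroup.det g = GeneralLinearGroup.det h := Units.ext hd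
  rw [ht, e] at ha
  exact (isConj_iff.mpr ⟨a, ha⟩).symm.trans (isConj_iff.mpr ⟨b, hb⟩)

/-- Scalar element. -/
noncomputable def scal (a : Fˣ) : GL (Fin 2) F :=
  GeneralLinearGroup.mkOfDetNeZero ((a : F) • (1 : M2)) (by simp)

theorem scal_coe (a : Fˣ) : (scal a : M2) = (a : F) • (1 : M2) := rfl

theorem scal_comm (a : Fˣ) (g : GL (Fin 2) F) : scal a * g = g * scal a := by
  refine Units.ext ?_
  rw [GeneralLinearGroup.coe_mul, GeneralLinearGroup.coe_mul, scal_coe]
  simp

theorem eq_of_isConj_scal {a : Fˣ} {g : GL (Fin 2) F} (h : IsConj (scal a) g) : g = scal a := by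
  obtain ⟨c, rfl⟩ := isConj_iff.mp h
  rw [← scal_comm, mul_inv_cancel_right]

theorem exists_scal {g : GL (Fin 2) F} (hg : ¬ Nonscalar (g : M2)) : ∃ a : Fˣ, g = scal a := by
  obtain ⟨a, ha⟩ := not_not.mp hg
  refine ⟨Units.mk0 a (fun h => det_ne_zero g (by rw [ha, h]; simp)), Units.ext ?_⟩
  rw [scal_coe, Units.val_mk0, ha]

/-- Classes are scalars or pairs of trace and determinant. -/
theorem card_conjClasses [Fintype F] :
    Nat.card (ConjClasses (GL (Fin 2) F)) = Fintype.card F ^ 2 - 1 := by
  classical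
  let f : Fˣ ⊕ F × Fˣ → ConjClasses (GL (Fin 2) F) :=
    Sum.elim (fun a => ConjClasses.mk (scal a)) (fun p => ConjClasses.mk (comp p.1 p.2))
  have hns : ∀ a : Fˣ, ¬ Nonscalar (scal a : M2) := fun a h => h ⟨a, scal_coe a⟩
  have hf : Function.Bijective f := by
    refine ⟨fun x y h => ?_, fun C => ?_⟩
    · rcases x with a | ⟨t, d⟩ <;> rcases y with a' | ⟨t', d'⟩ <;>
        simp only [f, Sum.elim_inl, Sum.elim_inr, ConjClasses.mk_eq_mk_iff_isConj] at h
      · have e := congrArg (fun u : GL (Fin 2) F => (u : M2) 0 0) (eq_of_isConj_scal h)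
        simp [scal_coe] at e
        rw [Units.ext e]
      · exact absurd (nonscalar_of_isConj h.symm (comp_nonscalar t' d')) (hns a)
      · exact absurd (nonscalar_of_isConj h (comp_nonscalar t d)) (hns a')
      · have e1 := trace_eq_of_isConj h
        have e2 := det_eq_of_isConj h
        rw [comp_trace, comp_trace] at e1
        rw [comp_det, comp_det] at e2
        rw [e1, Units.ext e2]
    · obtain ⟨g, rfl⟩ := ConjClasses.exists_rep C
      by_cases hg : Nonscalar (g : M2)
      · obtain ⟨c, hc⟩ := exists_conj_comp hg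
        exact ⟨Sum.inr ((g : M2).trace, GeneralLinearGroup.det g),
          ConjClasses.mk_eq_mk_iff_isConj.mpr (isConj_iff.mpr ⟨c, hc⟩)⟩
      · obtain ⟨a, rfl⟩ := exists_scal hg
        exact ⟨Sum.inl a, rfl⟩
  rw [← Nat.card_eq_of_bijective f hf, Nat.card_sum, Nat.card_prod, card_units_eq,
    Nat.card_eq_fintype_card]
  have : 1 ≤ Fintype.card F := Fintype.card_pos
  have : 1 ≤ Fintype.card F ^ 2 := Nat.one_le_pow _ _ Fintype.card_pos
  rw [Nat.mul_sub, mul_one, ← pow_two]
  have : Fintype.card F ≤ Fintype.card F ^ 2 := Nat.le_self_pow (by norm_num) _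
  omega

/-- Roots of the characteristic equation. -/
def eig (g : M2) : Set F := {l | l * l - g.trace * l + g.det = 0}

theorem det_sub_smul (g : M2) (l : F) :
    (g - l • 1).det = l * l - g.trace * l + g.det := by
  simp [Matrix.det_fin_two, Matrix.trace_fin_two]
  ring

theorem mem_eig_iff (g : M2) (l : F) :
    l ∈ eig g ↔ ∃ v : Fin 2 → F, v ≠ 0 ∧ g.mulVec v = l • v := by
  show l * l - g.trace * l + g.det = 0 ↔ _
  rw [← det_sub_smul, ← Matrix.exists_mulVec_eq_zero_iff]
  refine exists_congr fun v => and_congr_right fun _ => ?_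
  rw [Matrix.sub_mulVec, sub_eq_zero, Matrix.smul_mulVec, Matrix.one_mulVec]

theorem eig_empty_iff (g : M2) :
    eig g = ∅ ↔ ∀ (c : F) (v : Fin 2 → F), v ≠ 0 → g.mulVec v ≠ c • v := by
  rw [Set.eq_empty_iff_forall_notMem]
  simp only [mem_eig_iff, not_exists, not_and]

theorem eig_upper {g : M2} (h : g 1 0 = 0) : eig g = {g 0 0, g 1 1} := by
  ext l
  show l * l - g.trace * l + g.det = 0 ↔ _
  have e : l * l - g.trace * l + g.det = (l - g 0 0) * (l - g 1 1) := by
    rw [Matrix.trace_fin_two, Matrix.det_fin_two, h]; ring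
  rw [e, mul_eq_zero, sub_eq_zero, sub_eq_zero, Set.mem_insert_iff, Set.mem_singleton_iff]

theorem card_eig_upper_ne {g : M2} (h : g 1 0 = 0) (hne : g 0 0 ≠ g 1 1) :
    Nat.card (eig g) = 2 := by
  rw [eig_upper h, Nat.card_coe_set_eq, Set.ncard_pair hne]

theorem card_eig_upper_eq {g : M2} (h : g 1 0 = 0) (he : g 0 0 = g 1 1) :
    Nat.card (eig g) = 1 := by
  rw [eig_upper h, he, Set.insert_eq_of_mem (Set.mem_singleton _), Nat.card_coe_set_eq,
    Set.ncard_singleton]

theorem det_affine (g : M2) (x y : F) :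
    (x • (1 : M2) + y • g).det = x * x + g.trace * x * y + g.det * (y * y) := by
  simp [Matrix.det_fin_two, Matrix.trace_fin_two]
  ring

/-- The units of the algebra generated by a nonscalar element. -/
noncomputable def centEquiv (g : GL (Fin 2) F) (hg : Nonscalar (g : M2)) :
    Subgroup.centralizer ({g} : Set (GL (Fin 2) F)) ≃
      {p : F × F // p.1 * p.1 + (g : M2).trace * p.1 * p.2 + (g : M2).det * (p.2 * p.2) ≠ 0} := by
  refine (Equiv.ofBijective
    (fun p : {p : F × F // p.1 * p.1 + (g : M2).trace * p.1 * p.2 +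
        (g : M2).det * (p.2 * p.2) ≠ 0} =>
      (⟨GeneralLinearGroup.mkOfDetNeZero (p.1.1 • (1 : M2) + p.1.2 • (g : M2))
          (by rw [det_affine]; exact p.2),
        Subgroup.mem_centralizer_singleton_iff.mpr (Units.ext (by
          rw [GeneralLinearGroup.coe_mul, GeneralLinearGroup.coe_mul, coe_mk]
          simp [mul_add, add_mul]))⟩ : Subgroup.centralizer ({g} : Set (GL (Fin 2) F))))
    ⟨fun p p' h => ?_, fun c => ?_⟩).symm
  · have e := congrArg (fun u : Subgroup.centralizer ({g} : Set (GL (Fin 2) F)) =>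
      ((u : GL (Fin 2) F) : M2)) h
    simp only [coe_mk] at e
    obtain ⟨e1, e2⟩ := eq_of_nonscalar hg e
    exact Subtype.ext (Prod.ext e1 e2)
  · have hc := congrArg Units.val (Subgroup.mem_centralizer_singleton_iff.mp c.2)
    rw [GeneralLinearGroup.coe_mul, GeneralLinearGroup.coe_mul] at hc
    obtain ⟨x, y, e⟩ := exists_affine hg hc.symm
    refine ⟨⟨(x, y), ?_⟩, Subtype.ext (Units.ext ?_)⟩
    · rw [← det_affine, ← e]
      exact det_ne_zero _
    · exact e.symm

theorem card_centralizer [Fintype F] {g : GL (Fin 2) F} (hg : Nonscalar (g : M2)) :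
    Nat.card (Subgroup.centralizer ({g} : Set (GL (Fin 2) F))) + 1 +
      (Fintype.card F - 1) * Nat.card (eig (g : M2)) = Fintype.card F ^ 2 := by
  classical
  set t := (g : M2).trace with ht
  set d := (g : M2).det with hd
  have hd0 : d ≠ 0 := det_ne_zero g
  let Z := {p : F × F // p.1 * p.1 + t * p.1 * p.2 + d * (p.2 * p.2) = 0}
  let e : Z ≃ Option (Fˣ × eig (g : M2)) :=
    { toFun := fun p => if h : p.1.2 = 0 then none else some (Units.mk0 p.1.2 h,
        ⟨-(p.1.1 / p.1.2), by
          show -(p.1.1 / p.1.2) * -(p.1.1 / p.1.2) - t * -(p.1.1 / p.1.2) + d = 0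
          have := p.2
          field_simp
          linear_combination this⟩)
      invFun := fun o => match o with
        | none => ⟨(0, 0), by simp⟩
        | some (y, l) => ⟨(-((l : F) * y), y), by
            have h : (l : F) * l - t * l + d = 0 := l.2
            show -((l : F) * y) * -((l : F) * y) + t * -((l : F) * y) * y + d * ((y : F) * y) = 0
            linear_combination ((y : F) * y) * h⟩
      left_inv := fun p => by
        by_cases h : p.1.2 = 0
        · have hx : p.1.1 = 0 := by
            have := p.2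
            rw [h] at this
            simpa using this
          simp only [h, dite_true]
          exact Subtype.ext (Prod.ext hx.symm h.symm)
        · simp only [h, dite_false]
          refine Subtype.ext (Prod.ext ?_ rfl)
          show -(-(p.1.1 / p.1.2) * p.1.2) = p.1.1
          field_simp
      right_inv := fun o => by
        rcases o with _ | ⟨y, l⟩
        · simp
        · simp only [y.ne_zero, dite_false]
          refine congrArg some (Prod.ext (Units.ext rfl) (Subtype.ext ?_))
          show -(-((l : F) * y) / y) = (l : F)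
          field_simp }
  have hsum : Nat.card {p : F × F // ¬ (p.1 * p.1 + t * p.1 * p.2 + d * (p.2 * p.2) = 0)} +
      Nat.card Z = Nat.card (F × F) := by
    rw [add_comm, ← Nat.card_sum]
    exact Nat.card_congr (Equiv.sumCompl _)
  rw [Nat.card_congr e, Finite.card_option, Nat.card_prod, card_units_eq, Nat.card_prod,
    Nat.card_eq_fintype_card (α := F), ← pow_two] at hsum
  rw [Nat.card_congr (centEquiv g hg)]
  simp only [← ht, ← hd, ne_eq]
  omega

theorem card_centralizer_split [Fintype F] {g : GL (Fin 2) F} (h : (g : M2) 1 0 = 0)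
    (hne : (g : M2) 0 0 ≠ (g : M2) 1 1) :
    Nat.card (Subgroup.centralizer ({g} : Set (GL (Fin 2) F))) = (Fintype.card F - 1) ^ 2 := by
  have e := card_centralizer (nonscalar_iff.mpr (Or.inr (Or.inr hne)) : Nonscalar (g : M2))
  rw [card_eig_upper_ne h hne] at e
  obtain ⟨m, hm⟩ : ∃ m, Fintype.card F = m + 1 :=
    ⟨Fintype.card F - 1, (Nat.sub_add_cancel Fintype.card_pos).symm⟩
  rw [hm] at e ⊢
  simp only [Nat.add_sub_cancel] at e ⊢
  ring_nf at e ⊢
  omega

theorem nonscalar_of_eig_empty {g : M2} (h : eig g = ∅) : Nonscalar g := by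
  rintro ⟨a, rfl⟩
  have : a ∈ eig (a • (1 : M2)) := by
    show a * a - _ * a + _ = 0
    simp [Matrix.trace_fin_two, Matrix.det_fin_two]
    ring
  rw [h] at this
  exact this

theorem card_centralizer_elliptic [Fintype F] {g : GL (Fin 2) F} (h : eig (g : M2) = ∅) :
    Nat.card (Subgroup.centralizer ({g} : Set (GL (Fin 2) F))) = Fintype.card F ^ 2 - 1 := by
  have e := card_centralizer (nonscalar_of_eig_empty h)
  rw [h] at e
  simp at e
  omega

end Cfsg.Agent.GL2
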