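import Cfsg.Agent.Lib.GL2.SLValues
import Mathlib.RingTheory.IntegralDomain
import Mathlib.Algebra.Algebra.Subalgebra.Lattice
import Mathlib.GroupTheory.FiniteAbelian.Duality

/-!
# Non-split tori of the special linear group of degree two
-/

set_option autoImplicit false
set_option linter.unusedSectionVars false
set_option linter.style.haveILetI false

open Matrix
open scoped MatrixGroups ComplexConjugate

namespace Cfsg.Agent.GL2

open Cfsg.Agent.Classical.SL2 (coord exists_affine eq_of_nonscalar)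

variable {F : Type*} [Field F] [Fintype F] [DecidableEq F]

local notation "M2" => Matrix (Fin 2) (Fin 2) F
local notation "S2" => Matrix.SpecialLinearGroup (Fin 2) F
local notation "G2" => GL (Fin 2) F

theorem bS_hom (a b : Fˣ) : bS (a * b) (0 : F) = bS a 0 * bS b 0 := by
  refine Subtype.ext ?_
  rw [coe_mulS, bS_coe, bS_coe, bS_coe]
  apply coord <;> simp [Matrix.mul_apply, Fin.sum_univ_two, mul_comm]

theorem bS_pow (a : Fˣ) (n : ℕ) : bS a (0 : F) ^ n = bS (a ^ n) 0 := by
  induction n with
  | zero => rw [pow_zero, pow_zero, bS_one, uS_zero]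
  | succ n ih => rw [pow_succ, pow_succ, ih, bS_hom]

theorem uS_pow (b : F) (n : ℕ) : uS b ^ n = uS ((n : F) * b) := by
  induction n with
  | zero => rw [pow_zero, Nat.cast_zero, zero_mul, uS_zero]
  | succ n ih =>
    rw [pow_succ, ih]
    refine Subtype.ext ?_
    rw [coe_mulS, uS_coe, uS_coe, uS_coe]
    apply coord <;> simp [Matrix.mul_apply, Fin.sum_univ_two]
    ring

theorem eig_congr {g h : M2} (ht : g.trace = h.trace) (hd : g.det = h.det) : eig g = eig h := by
  ext l
  show l * l - g.trace * l + g.det = 0 ↔ l * l - h.trace * l + h.det = 0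
  rw [ht, hd]

theorem eig_isConjS {g h : S2} (hc : IsConj g h) : eig (g : M2) = eig (h : M2) :=
  eig_congr (trace_isConjS hc) ((detS g).trans (detS h).symm)

/-- An element with an eigenvalue and trace other than two signs is split. -/
theorem exists_split {g : S2} (hns : Nonscalar (g : M2))
    (ht : (g : M2).trace * (g : M2).trace ≠ 4) (he : eig (g : M2) ≠ ∅) :
    ∃ a : Fˣ, (a : F) ^ 2 ≠ 1 ∧ IsConj (bS a 0) g := by
  obtain ⟨l, hl⟩ := Set.nonempty_iff_ne_empty.mpr he
  change l * l - (g : M2).trace * l + (g : M2).det = 0 at hl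
  rw [detS] at hl
  have hl0 : l ≠ 0 := fun h => by rw [h] at hl; simp at hl
  have hinv : l + l⁻¹ = (g : M2).trace := by
    field_simp
    linear_combination hl
  have h2 : l ^ 2 ≠ 1 := fun h => ht (by
    rw [← hinv]; field_simp; linear_combination (l ^ 2 - 1) * h)
  refine ⟨Units.mk0 l hl0, h2, isConj_of_trace ?_ hns ?_ ?_⟩
  · refine nonscalar_iff.mpr (Or.inr (Or.inr ?_))
    intro e
    apply h2
    simp [bS_coe] at e
    field_simp at e
    linear_combination e
  · simpa [bS_coe, Matrix.trace_fin_two] using hinv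
  · intro e; apply ht
    simpa [bS_coe, Matrix.trace_fin_two, hinv] using e

section Torus

variable {C : Subgroup (Matrix.SpecialLinearGroup (Fin 2) F)}

theorem torus_pow (hcard : Nat.card C = Fintype.card F + 1) {c : S2} (hc : c ∈ C) :
    c ^ (Fintype.card F + 1) = 1 := by
  have := congrArg Subtype.val (pow_card_eq_one' (x := (⟨c, hc⟩ : C)))
  rwa [hcard] at this

theorem torus_elliptic (hodd : ringChar F ≠ 2) (hcard : Nat.card C = Fintype.card F + 1)
    {c : S2} (hc : c ∈ C) (hns : Nonscalar (c : M2)) : eig (c : M2) = ∅ := by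
  by_contra he
  have hq0 : ((Fintype.card F : ℕ) : F) = 0 := FiniteField.cast_card_eq_zero F
  have hp := torus_pow hcard hc
  by_cases ht : (c : M2).trace * (c : M2).trace = 4
  · obtain ⟨z, b, hb, -, hcj⟩ := exists_zu hns ht
    obtain ⟨x, hx⟩ := isConj_iff.mp hcj
    have h1 : (zS z * uS b) ^ (Fintype.card F + 1) = 1 := by
      rw [← hx, conj_pow, mul_inv_eq_one, mul_eq_left] at hp
      exact hp
    rw [(show Commute (zS z) (uS b) from zS_comm z _).mul_pow, uS_pow, Nat.cast_succ, hq0,
      zero_add, one_mul] at h1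
    have hz2 : zS z ^ 2 = (1 : S2) := Subtype.ext (by
      rw [pow_two, coe_mulS, zS_coe, coe_oneS]
      apply coord <;> simp [Matrix.mul_apply, Fin.sum_univ_two, z.2])
    obtain ⟨k, hk⟩ : Even (Fintype.card F + 1) :=
      (Nat.odd_iff.mpr (FiniteField.odd_card_of_char_ne_two hodd)).add_one
    rw [hk, ← two_mul, pow_mul, hz2, one_pow, one_mul] at h1
    exact hb (by simpa [uS] using congrArg (fun s : S2 => (s : M2) 0 1) h1)
  · obtain ⟨a, ha, hcj⟩ := exists_split hns ht he
    obtain ⟨x, hx⟩ := isConj_iff.mp hcj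
    have h1 : bS a 0 ^ (Fintype.card F + 1) = (1 : S2) := by
      rw [← hx, conj_pow, mul_inv_eq_one, mul_eq_left] at hp
      exact hp
    rw [bS_pow] at h1
    have h2 := congrArg (fun s : S2 => (s : M2) 0 0) h1
    simp [bS_coe] at h2
    apply ha
    have hq : 1 ≤ Fintype.card F := Fintype.card_pos
    have h3 := FiniteField.pow_card_sub_one_eq_one (a : F) a.ne_zero
    rw [show Fintype.card F + 1 = Fintype.card F - 1 + 2 by omega, pow_add, h3, one_mul] at h2
    exact h2

theorem torus_centralizer (hodd : ringChar F ≠ 2) [hC : IsCyclic C]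
    (hcard : Nat.card C = Fintype.card F + 1) {c : S2} (hc : c ∈ C)
    (hns : Nonscalar (c : M2)) : Subgroup.centralizer ({c} : Set S2) = C := by
  refine (Subgroup.eq_of_le_of_card_ge (fun x hx => ?_) ?_).symm
  · rw [Subgroup.mem_centralizer_singleton_iff]
    exact congrArg Subtype.val
      ((IsCyclic.commGroup (α := C)).mul_comm (⟨x, hx⟩ : C) ⟨c, hc⟩)
  · rw [card_centralizer_ellS (torus_elliptic hodd hcard hc hns) hodd, hcard]

theorem sq_nonscalar_of_elliptic {c : S2} (hodd : ringChar F ≠ 2) (he : eig (c : M2) = ∅) :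
    c⁻¹ ≠ c := by
  intro h
  obtain ⟨hns, -⟩ := elliptic_regular he hodd
  have h2 : (2 : F) ≠ 0 := by
    rcases two_cases (F := F) with ⟨h', -⟩ | ⟨-, h'⟩
    · exact absurd h' hodd
    · exact h'
  have e := congrArg (fun s : S2 => (s : M2)) h
  rw [show ((c⁻¹ : S2) : M2) = (c : M2).adjugate from rfl, Matrix.adjugate_fin_two] at e
  have e00 := congrFun (congrFun e 0) 0
  have e01 := congrFun (congrFun e 0) 1
  have e10 := congrFun (congrFun e 1) 0
  simp at e00 e01 e10
  rcases nonscalar_iff.mp hns with h' | h' | h'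
  · exact h' (by
      have : (2 : F) * (c : M2) 0 1 = 0 := by linear_combination -e01
      exact (mul_eq_zero.mp this).resolve_left h2)
  · exact h' (by
      have : (2 : F) * (c : M2) 1 0 = 0 := by linear_combination -e10
      exact (mul_eq_zero.mp this).resolve_left h2)
  · exact h' e00.symm

/-- The elements commuting with a regular element and having the same trace. -/
theorem eq_or_eq_inv {c d : S2} (hns : Nonscalar (c : M2))
    (ht : (c : M2).trace * (c : M2).trace ≠ 4) (h2 : (2 : F) ≠ 0) (hcomm : c * d = d * c)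
    (htr : (d : M2).trace = (c : M2).trace) : d = c ∨ d = c⁻¹ := by
  obtain ⟨x, y, e⟩ := exists_affine hns
    (show (c : M2) * (d : M2) = (d : M2) * (c : M2) by rw [← coe_mulS, hcomm, coe_mulS])
  have hd := detS d
  rw [e, det_affine, detS c, one_mul] at hd
  rw [e] at htr
  simp [Matrix.trace_fin_two] at htr
  rw [Matrix.trace_fin_two] at hd ht
  set t := (c : M2) 0 0 + (c : M2) 1 1 with hT
  have hx : 2 * x = t - y * t := by rw [hT]; linear_combination htr
  have hy : (1 - y * y) * (t * t - 4) = 0 := by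
    linear_combination 4 * hd - (2 * x + t + y * t) * hx
  have hy' : (y - 1) * (y + 1) = 0 := by
    linear_combination -(mul_eq_zero.mp hy).resolve_right (sub_ne_zero.mpr ht)
  rcases mul_eq_zero.mp hy' with h | h
  · left
    have hy1 : y = 1 := sub_eq_zero.mp h
    subst hy1
    refine Subtype.ext ?_
    rw [e]
    have hx0 : x = 0 := (mul_eq_zero.mp (show 2 * x = 0 by linear_combination hx)).resolve_left h2
    simp [hx0]
  · right
    have hy1 : y = -1 := eq_neg_of_add_eq_zero_left h
    subst hy1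
    have hxt' : x = t := mul_left_cancel₀ h2 (by linear_combination hx)
    refine Subtype.ext ?_
    rw [e, show ((c⁻¹ : S2) : M2) = (c : M2).adjugate from rfl, Matrix.adjugate_fin_two, hxt', hT]
    apply coord <;> simp

end Torus

/-- The centralizer of an elliptic element is cyclic. -/
theorem isCyclic_centralizer {g : S2} (he : eig (g : M2) = ∅) :
    IsCyclic (Subgroup.centralizer ({g} : Set S2)) := by
  have hns := nonscalar_of_eig_empty he
  let K := Algebra.adjoin F ({(g : M2)} : Set M2)
  letI : CommRing K :=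
    { (inferInstance : Ring K) with
      mul_comm := (Algebra.isMulCommutative_adjoin_singleton F (g : M2)).is_comm.comm }
  have haff : ∀ a : K, ∃ x y : F, (a : M2) = x • (1 : M2) + y • (g : M2) := fun a =>
    exists_affine hns (congrArg Subtype.val
      ((Algebra.isMulCommutative_adjoin_singleton F (g : M2)).is_comm.comm
        (⟨(g : M2), Algebra.subset_adjoin rfl⟩ : K) a))
  haveI : NoZeroDivisors K := by
    refine ⟨fun {a b} hab => ?_⟩
    have h := congrArg (fun k : K => ((k : M2)).det) hab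
    simp only [Subalgebra.coe_mul, Matrix.det_mul, ZeroMemClass.coe_zero,
      Matrix.det_zero] at h
    have key : ∀ c : K, (c : M2).det = 0 → c = 0 := by
      intro c hc
      obtain ⟨x, y, e⟩ := haff c
      rw [e, det_affine, detS, one_mul] at hc
      by_cases hy : y = 0
      · subst hy
        have hx : x * x = 0 := by linear_combination hc
        rw [mul_self_eq_zero] at hx
        exact Subtype.ext (by rw [e, hx]; simp)
      · exfalso
        have : -(x / y) ∈ eig (g : M2) := by
          show _ * _ - _ * _ + _ = 0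
          rw [detS]
          field_simp
          linear_combination hc
        rw [he] at this
        exact this
    rcases mul_eq_zero.mp h with h | h
    · exact Or.inl (key a h)
    · exact Or.inr (key b h)
  haveI : Nontrivial K := ⟨⟨1, 0, fun h => by
    have := congrArg (fun k : K => (k : M2) 0 0) h
    simp at this⟩⟩
  haveI : IsDomain K := NoZeroDivisors.to_isDomain K
  have hmem : ∀ c : Subgroup.centralizer ({g} : Set S2), ((c : S2) : M2) ∈ K := fun c => by
    have hc := Subgroup.mem_centralizer_singleton_iff.mp c.2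
    obtain ⟨x, y, e⟩ := exists_affine hns
      (show (g : M2) * ((c : S2) : M2) = ((c : S2) : M2) * (g : M2) by
        rw [← coe_mulS, ← hc, coe_mulS])
    rw [e]
    exact add_mem (Subalgebra.smul_mem K (one_mem K) x)
      (Subalgebra.smul_mem K (Algebra.subset_adjoin rfl) y)
  let φ : Subgroup.centralizer ({g} : Set S2) →* K :=
    { toFun := fun c => ⟨((c : S2) : M2), hmem c⟩
      map_one' := Subtype.ext rfl
      map_mul' := fun a b => Subtype.ext rfl }
  exact isCyclic_of_injective_ringHom φ fun a b h =>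
    Subtype.ext (Subtype.ext (congrArg (fun k : K => (k : M2)) h))

/-- The central involution. -/
def z1 : S2 := zS ⟨-1, by ring⟩

theorem z1_coe : ((z1 : S2) : M2) = -1 := by
  rw [z1, zS_coe]; apply coord <;> simp

theorem z1_ne_one (hodd : ringChar F ≠ 2) : (z1 : S2) ≠ 1 := fun h => by
  have := congrArg (fun s : S2 => (s : M2) 0 0) h
  simp [z1, zS] at this
  exact Ring.neg_one_ne_one_of_char_ne_two hodd this

theorem scalar_cases {g : S2} (hg : ¬ Nonscalar (g : M2)) : g = 1 ∨ g = z1 := by
  obtain ⟨z, rfl⟩ := exists_zS hg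
  rcases mul_self_eq_one_iff.mp z.2 with h | h
  · exact Or.inl (Subtype.ext (by rw [zS_coe, coe_oneS, h]; apply coord <;> simp))
  · exact Or.inr (congrArg zS (Subtype.ext h))

theorem z1_scalar : ¬ Nonscalar ((z1 : S2) : M2) := zS_scalar _

theorem z1_mem_center : (z1 : S2) ∈ Subgroup.center S2 :=
  Subgroup.mem_center_iff.mpr fun g => (zS_comm _ g).symm

theorem scalar_of_mem_center {g : S2} (hg : g ∈ Subgroup.center S2) : ¬ Nonscalar (g : M2) := by
  intro hns
  have h := Subgroup.mem_center_iff.mp hg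
  have key : ∀ b : S2, (b : M2) * (g : M2) = (g : M2) * (b : M2) := fun b => by
    rw [← coe_mulS, h b, coe_mulS]
  have e1 := key (uS 1)
  have e2 := key (lS 1)
  rw [uS_coe] at e1
  rw [lS_coe] at e2
  have a := congrFun (congrFun e1 0) 0
  have b := congrFun (congrFun e1 0) 1
  have c := congrFun (congrFun e2 0) 0
  simp [Matrix.mul_apply, Matrix.vecMul, dotProduct, Fin.sum_univ_two] at a b c
  rcases nonscalar_iff.mp hns with h' | h' | h'
  · exact h' (by linear_combination c)
  · exact h' (by linear_combination a)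
  · exact h' (by linear_combination -b)

section Facts

variable {C : Subgroup (Matrix.SpecialLinearGroup (Fin 2) F)}

theorem z1_mem_torus (hodd : ringChar F ≠ 2) [IsCyclic C]
    (hcard : Nat.card C = Fintype.card F + 1) : (z1 : S2) ∈ C := by
  haveI : Fact (Nat.Prime 2) := ⟨Nat.prime_two⟩
  obtain ⟨x, hx⟩ := exists_prime_orderOf_dvd_card' (G := C) 2 (by
    rw [hcard]
    exact ((Nat.odd_iff.mpr (FiniteField.odd_card_of_char_ne_two hodd)).add_one).two_dvd)
  have hx2 : (x : S2) * x = 1 := by
    have := congrArg Subtype.val ((orderOf_dvd_iff_pow_eq_one.mp hx.dvd : x ^ 2 = 1))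
    simpa [pow_two] using this
  by_cases hns : Nonscalar ((x : S2) : M2)
  · exact absurd (inv_eq_of_mul_eq_one_right hx2)
      (sq_nonscalar_of_elliptic hodd (torus_elliptic hodd hcard x.2 hns))
  · rcases scalar_cases hns with h | h
    · exfalso
      rw [show x = 1 from Subtype.ext h, orderOf_one] at hx
      omega
    · exact h ▸ x.2

/-- The conjugates of a noncentral element of a torus inside the torus. -/
theorem conj_mem_torus (hodd : ringChar F ≠ 2) [IsCyclic C]
    (hcard : Nat.card C = Fintype.card F + 1) {c : S2} (hc : c ∈ C) (hns : Nonscalar (c : M2))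
    {x : S2} (hx : x * c * x⁻¹ ∈ C) : x * c * x⁻¹ = c ∨ x * c * x⁻¹ = c⁻¹ := by
  obtain ⟨-, ht⟩ := elliptic_regular (torus_elliptic hodd hcard hc hns) hodd
  have h2 : (2 : F) ≠ 0 := by
    rcases two_cases (F := F) with ⟨h', -⟩ | ⟨-, h'⟩
    · exact absurd h' hodd
    · exact h'
  rw [← torus_centralizer hodd hcard hc hns, Subgroup.mem_centralizer_singleton_iff] at hx
  exact eq_or_eq_inv hns ht h2 hx.symm (trace_isConjS (isConj_iff.mpr ⟨x, rfl⟩)).symm

theorem exists_conj_inv (hodd : ringChar F ≠ 2) {c : S2} (he : eig (c : M2) = ∅) :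
    ∃ x : S2, x * c * x⁻¹ = c⁻¹ := by
  obtain ⟨hns, ht⟩ := elliptic_regular he hodd
  have etr : ((c⁻¹ : S2) : M2).trace = (c : M2).trace := by
    rw [show ((c⁻¹ : S2) : M2) = (c : M2).adjugate from rfl, Matrix.adjugate_fin_two]
    simp [Matrix.trace_fin_two]; ring
  refine isConj_iff.mp (isConj_of_trace hns ?_ etr.symm ht)
  exact nonscalar_of_eig_empty
    ((eig_congr etr ((detS c⁻¹).trans (detS c).symm)).trans he)

end Facts

section Dual

variable {A : Type*} [Group A] [Finite A] [IsCyclic A]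

theorem finite_dual : Finite (A →* ℂˣ) := by
  letI := IsCyclic.commGroup (α := A)
  haveI : NeZero (Monoid.exponent A) := ⟨Monoid.exponent_ne_zero_of_finite⟩
  exact Finite.of_equiv A
    (CommGroup.monoidHom_mulEquiv_of_hasEnoughRootsOfUnity A ℂ).some.symm.toEquiv

theorem exists_dual_ne_one {a : A} (ha : a ≠ 1) : ∃ θ : A →* ℂˣ, θ a ≠ 1 := by
  letI := IsCyclic.commGroup (α := A)
  haveI : NeZero (Monoid.exponent A) := ⟨Monoid.exponent_ne_zero_of_finite⟩
  exact CommGroup.exists_apply_ne_one_of_hasEnoughRootsOfUnity A ℂ ha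

theorem card_dual : Nat.card (A →* ℂˣ) = Nat.card A := by
  letI := IsCyclic.commGroup (α := A)
  haveI : NeZero (Monoid.exponent A) := ⟨Monoid.exponent_ne_zero_of_finite⟩
  exact Nat.card_congr (CommGroup.monoidHom_mulEquiv_of_hasEnoughRootsOfUnity A ℂ).some.toEquiv

theorem sum_dual [Fintype (A →* ℂˣ)] [DecidableEq A] (a : A) :
    ∑ θ : A →* ℂˣ, (θ a : ℂ) = if a = 1 then (Nat.card A : ℂ) else 0 := by
  split_ifs with h
  · subst h
    simp [← card_dual (A := A), Nat.card_eq_fintype_card]
  · obtain ⟨χ, hχ⟩ := exists_dual_ne_one h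
    refine eq_zero_of_mul_eq_self_left (b := ((χ a : ℂˣ) : ℂ))
      (fun e => hχ (Units.val_eq_one.mp e)) ?_
    rw [Finset.mul_sum]
    exact Fintype.sum_equiv (Equiv.mulLeft χ) _ _ fun θ => by simp

theorem eq_of_sq_eq_one {θ η : A →* ℂˣ} (hθ : θ ^ 2 = 1) (hθ1 : θ ≠ 1) (hη : η ^ 2 = 1)
    (hη1 : η ≠ 1) : θ = η := by
  obtain ⟨g, hg⟩ := IsCyclic.exists_generator (α := A)
  have key : ∀ φ : A →* ℂˣ, φ ^ 2 = 1 → φ ≠ 1 → φ g = -1 := by
    intro φ h h1
    have h2 : ((φ g : ℂˣ) : ℂ) ^ 2 = 1 := by
      rw [← Units.val_pow_eq_pow_val]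
      exact congrArg Units.val (DFunLike.congr_fun h g)
    rcases sq_eq_one_iff.mp h2 with e | e
    · exact absurd (MonoidHom.ext fun x => by
        obtain ⟨k, rfl⟩ := Subgroup.mem_zpowers_iff.mp (hg x)
        rw [map_zpow, Units.val_eq_one.mp e, _root_.one_zpow]; rfl) h1
    · exact Units.ext (by simpa using e)
  refine MonoidHom.ext fun x => ?_
  obtain ⟨k, rfl⟩ := Subgroup.mem_zpowers_iff.mp (hg x)
  rw [map_zpow, map_zpow, key θ hθ hθ1, key η hη hη1]

theorem exists_sgn {n : ℕ} (hn : Nat.card A = 2 * n) :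
    ∃ θ : A →* ℂˣ, θ ^ 2 = 1 ∧ θ ≠ 1 ∧
      ∀ a : A, (a ^ n = 1 → θ a = 1) ∧ (a ^ n ≠ 1 → θ a = -1) := by
  haveI := finite_dual (A := A)
  haveI : Fact (Nat.Prime 2) := ⟨Nat.prime_two⟩
  obtain ⟨θ, hθ⟩ := exists_prime_orderOf_dvd_card' (G := A →* ℂˣ) 2
    (by rw [card_dual, hn]; exact dvd_mul_right 2 n)
  have h2 : θ ^ 2 = 1 := hθ ▸ pow_orderOf_eq_one θ
  have h1 : θ ≠ 1 := fun h => by rw [h, orderOf_one] at hθ; omega
  refine ⟨θ, h2, h1, fun a => ?_⟩
  obtain ⟨g, hg⟩ := IsCyclic.exists_generator (α := A)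
  have hgo : orderOf g = 2 * n := by rw [orderOf_eq_card_of_forall_mem_zpowers hg, hn]
  have hgθ : θ g = -1 := by
    have h3 : ((θ g : ℂˣ) : ℂ) ^ 2 = 1 := by
      rw [← Units.val_pow_eq_pow_val]
      exact congrArg Units.val (DFunLike.congr_fun h2 g)
    rcases sq_eq_one_iff.mp h3 with e | e
    · exact absurd (MonoidHom.ext fun x => by
        obtain ⟨k, rfl⟩ := Subgroup.mem_zpowers_iff.mp (hg x)
        rw [map_zpow, Units.val_eq_one.mp e, _root_.one_zpow]; rfl) h1
    · exact Units.ext (by simpa using e)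
  obtain ⟨k, rfl⟩ := (mem_powers_iff_mem_zpowers.mpr (hg a) : a ∈ Submonoid.powers g)
  have hpos : 0 < n := by have := Nat.card_pos (α := A); omega
  have hiff : (g ^ k) ^ n = 1 ↔ Even k := by
    rw [← pow_mul, ← orderOf_dvd_iff_pow_eq_one, hgo, mul_comm k n, mul_comm 2 n,
      Nat.mul_dvd_mul_iff_left hpos, even_iff_two_dvd]
  show ((g ^ k) ^ n = 1 → θ (g ^ k) = 1) ∧ ((g ^ k) ^ n ≠ 1 → θ (g ^ k) = -1)
  rw [Ne, hiff, map_pow, hgθ]
  exact ⟨fun h => h.neg_one_pow, fun h => (Nat.not_even_iff_odd.mp h).neg_one_pow⟩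

end Dual

end Cfsg.Agent.GL2
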