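import Cfsg.Agent.Lib.GL2.Gauss
import Cfsg.Agent.Lib.GL2.Torus

/-!
# Cuspidal characters of the special linear group of degree two on a non-split torus
-/

set_option autoImplicit false
set_option linter.unusedSectionVars false
set_option linter.style.haveILetI false

open Matrix
open scoped MatrixGroups ComplexConjugate

namespace Cfsg.Agent.GL2

open Cfsg.Agent.Classical.SL2 (coord card_SL2)
open Cfsg.Agent.Char

variable {F : Type*} [Field F] [Fintype F] [DecidableEq F]

local notation "M2" => Matrix (Fin 2) (Fin 2) F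
local notation "S2" => Matrix.SpecialLinearGroup (Fin 2) F

/-- A class function living on scalar and central times unipotent elements. -/
noncomputable def AF (α : MulChar F ℂ) : S2 → ℂ := (StS - 1) * RS α

/-- The virtual character attached to a character of a torus. -/
noncomputable def psi (C : Subgroup (Matrix.SpecialLinearGroup (Fin 2) F)) (θ : C →* ℂˣ)
    (α : MulChar F ℂ) : S2 → ℂ := AF α - Cfsg.indFun C (fun c => (θ c : ℂ))

theorem StS_apply (g : S2) :
    StS g = psFun (⇑(1 : MulChar F ℂ)) (⇑(1 : MulChar F ℂ)) (g : M2) - 1 := by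
  show RS 1 g - 1 = _
  rw [RS_apply]

theorem AF_scalar (α : MulChar F ℂ) (z : {z : F // z * z = 1}) :
    AF α (zS z) = ((Fintype.card F : ℂ) ^ 2 - 1) * α z.1 := by
  have h1 : (1 : MulChar F ℂ) z.1 = 1 := MulChar.one_apply (isUnit_iff_ne_zero.mpr (z_ne_zero z))
  show (StS (zS z) - 1) * RS α (zS z) = _
  rw [StS_apply, RS_apply, psFun_scalar _ _ (by simp [zS]) (by simp [zS]) (by simp [zS]),
    psFun_scalar _ _ (by simp [zS]) (by simp [zS]) (by simp [zS])]
  simp only [zS_coe, Matrix.of_apply, Matrix.cons_val', Matrix.cons_val_zero,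
    Matrix.cons_val_fin_one, h1]
  ring

theorem AF_zu (α : MulChar F ℂ) (z : {z : F // z * z = 1}) {b : F} (hb : b ≠ 0) :
    AF α (zS z * uS b) = -α z.1 := by
  have h1 : (1 : MulChar F ℂ) z.1 = 1 := MulChar.one_apply (isUnit_iff_ne_zero.mpr (z_ne_zero z))
  have hz := z_ne_zero z
  show (StS (zS z * uS b) - 1) * RS α (zS z * uS b) = _
  rw [StS_apply, RS_apply, zu_coe, psFun_upper_eq _ _ (by simp) (by simp) (by simp [hb, hz]),
    psFun_upper_eq _ _ (by simp) (by simp) (by simp [hb, hz])]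
  simp only [Matrix.of_apply, Matrix.cons_val', Matrix.cons_val_zero, Matrix.cons_val_one,
    Matrix.cons_val_fin_one, h1]
  ring

theorem isClassFunction_AF (α : MulChar F ℂ) : Cfsg.IsClassFunction S2 (AF α) := fun g x => by
  show (StS (x * g * x⁻¹) - 1) * RS α (x * g * x⁻¹) = (StS g - 1) * RS α g
  rw [isClassFunction_RS α g x,
    IsCharacter.isClassFunction (IsIrrCharacter.isCharacter isIrr_StS) g x]

theorem AF_regular (α : MulChar F ℂ) {g : S2} (hns : Nonscalar (g : M2))
    (ht : (g : M2).trace * (g : M2).trace ≠ 4) : AF α g = 0 := by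
  by_cases he : eig (g : M2) = ∅
  · show (StS g - 1) * RS α g = 0
    rw [RS_apply, psFun_elliptic _ _ he, mul_zero]
  · obtain ⟨a, ha, hc⟩ := exists_split hns ht he
    rw [← IsClassFunction.apply_isConj (isClassFunction_AF α) hc]
    show (StS (bS a 0) - 1) * RS α (bS a 0) = 0
    have hne : (a : F) ≠ ((a⁻¹ : Fˣ) : F) := fun e => ha (by
      rw [pow_two]; nth_rw 2 [e]; simp)
    rw [StS_apply, psFun_upper_ne _ _ (by simp [bS_coe]) (by simpa [bS_coe] using hne)]
    simp only [bS_coe, Matrix.of_apply, Matrix.cons_val', Matrix.cons_val_zero, Matrix.cons_val_one,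
      Matrix.cons_val_fin_one, MulChar.one_apply_coe]
    norm_num

theorem sum_signs [Fintype {z : F // z * z = 1}] (hodd : ringChar F ≠ 2)
    (h : {z : F // z * z = 1} → ℂ) :
    ∑ z, h z = h ⟨1, one_mul 1⟩ + h ⟨-1, by ring⟩ := by
  classical
  have hne : (⟨1, one_mul 1⟩ : {z : F // z * z = 1}) ≠ ⟨-1, by ring⟩ := fun e =>
    Ring.neg_one_ne_one_of_char_ne_two hodd (congrArg Subtype.val e).symm
  rw [show (Finset.univ : Finset {z : F // z * z = 1}) = {⟨1, one_mul 1⟩, ⟨-1, by ring⟩} from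
    (Finset.eq_univ_of_forall fun z => by
      rcases mul_self_eq_one_iff.mp z.2 with e | e <;> simp [Subtype.ext_iff, e]).symm,
    Finset.sum_pair hne]

theorem zS_one : zS (⟨1, one_mul 1⟩ : {z : F // z * z = 1}) = 1 :=
  Subtype.ext (by rw [zS_coe, coe_oneS]; apply coord <;> simp)

theorem card_SL2_cast : (Nat.card S2 : ℂ) = (Fintype.card F : ℂ) * ((Fintype.card F : ℂ) ^ 2 - 1) := by
  rw [card_SL2, Nat.cast_mul, Nat.cast_sub (Nat.one_le_pow _ _ Fintype.card_pos)]
  simp

theorem card_sq_sub_one_ne_zero : (Fintype.card F : ℂ) ^ 2 - 1 ≠ 0 := fun h => by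
  have : (Fintype.card F) ^ 2 = 1 := by exact_mod_cast sub_eq_zero.mp h
  have := Fintype.one_lt_card (α := F)
  simp at *
  omega

theorem inner_AF (α : MulChar F ℂ) (hodd : ringChar F ≠ 2) {e : Fˣ} (he : Covers e)
    (hens : ¬ IsSquare (e : F)) {χ : S2 → ℂ} (hχ : Cfsg.IsClassFunction S2 χ) :
    (Fintype.card F : ℂ) * Cfsg.classInner (AF α) χ =
      (conj (χ 1) - (conj (χ (uS 1)) + conj (χ (uS (e : F)))) / 2) +
        α (-1) * (conj (χ z1) - (conj (χ (z1 * uS 1)) + conj (χ (z1 * uS (e : F)))) / 2) := by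
  classical
  haveI := Fintype.ofFinite {z : F // z * z = 1}
  set f : S2 → ℂ := fun g => if Nonscalar (g : M2) then AF α g * conj (χ g) else 0 with hf
  have hfc : Cfsg.IsClassFunction S2 f := fun g x => by
    have h1 := isClassFunction_AF α g x
    have h2 := hχ g x
    have hc : IsConj g (x * g * x⁻¹) := isConj_iff.mpr ⟨x, rfl⟩
    have hiff : Nonscalar ((x * g * x⁻¹ : S2) : M2) ↔ Nonscalar (g : M2) :=
      ⟨nonscalar_isConjS hc.symm, nonscalar_isConjS hc⟩
    simp only [hf, hiff, h1, h2]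
  have hne1 : (1 : F) ≠ (e : F) := fun h => hens (h ▸ IsSquare.one)
  have hsum := sum_zu hfc ({1, (e : F)} : Finset F) (fun r hr => by
      rcases Finset.mem_insert.mp hr with rfl | hr
      · exact one_ne_zero
      · rw [Finset.mem_singleton] at hr; subst hr; exact e.ne_zero)
    (fun b hb => by
      rcases he b hb with h | h
      · exact ⟨1, by simp, by rwa [one_mul]⟩
      · exact ⟨(e : F), by simp, h⟩)
    (fun r hr r' hr' h => by
      simp only [Finset.mem_insert, Finset.mem_singleton] at hr hr'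
      rcases hr with rfl | rfl <;> rcases hr' with rfl | rfl
      · rfl
      · exact absurd (by simpa using h) hens
      · exact absurd (by simpa using h) hens
      · rfl)
    (fun g hg => by
      simp only [hf, ne_eq, ite_eq_right_iff, Classical.not_imp] at hg
      refine ⟨hg.1, ?_⟩
      by_contra ht
      exact hg.2 (by rw [AF_regular α hg.1 ht, zero_mul]))
  have hsplit : ∑ g : S2, AF α g * conj (χ g) =
      (∑ z : {z : F // z * z = 1}, AF α (zS z) * conj (χ (zS z))) + ∑ g : S2, f g := by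
    rw [← Finset.sum_filter_add_sum_filter_not Finset.univ (fun g : S2 => ¬ Nonscalar (g : M2))]
    congr 1
    · refine (Finset.sum_bij (fun z _ => zS z) (fun z _ => ?_) (fun a _ b _ h => zS_injective h)
        (fun g hg => ?_) fun z _ => rfl).symm
      · simp [zS_scalar z]
      · obtain ⟨z, hz⟩ := exists_zS (Finset.mem_filter.mp hg).2
        exact ⟨z, Finset.mem_univ _, hz.symm⟩
    · rw [Finset.sum_filter]
      refine Fintype.sum_congr _ _ fun g => ?_
      by_cases h : Nonscalar (g : M2) <;> simp [hf, h]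
  have hval : ∀ z : {z : F // z * z = 1}, ∑ r ∈ ({1, (e : F)} : Finset F), f (zS z * uS r) =
      -α z.1 * (conj (χ (zS z * uS 1)) + conj (χ (zS z * uS (e : F)))) := by
    intro z
    rw [Finset.sum_pair hne1]
    simp only [hf, if_pos (zu_nonscalar z (one_ne_zero (α := F))),
      if_pos (zu_nonscalar z e.ne_zero), AF_zu α z one_ne_zero, AF_zu α z e.ne_zero]
    ring
  rw [Fintype.sum_congr _ _ hval, sum_signs hodd, zS_one, one_mul, one_mul,
    ← Nat.card_eq_fintype_card (α := {z : F // z * z = 1}), card_sq_one_odd hodd] at hsum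
  rw [sum_signs hodd, zS_one, show AF α (1 : S2) = _ from zS_one (F := F) ▸ AF_scalar α _,
    AF_scalar] at hsplit
  simp only [map_one] at hsum hsplit
  push_cast at hsum
  rw [show zS (⟨-1, by ring⟩ : {z : F // z * z = 1}) = (z1 : S2) from rfl] at hsum hsplit
  rw [Cfsg.classInner, hsplit]
  have hq := card_ne_zero_C (F := F)
  have hq2 := card_sq_sub_one_ne_zero (F := F)
  rw [card_SL2_cast] at hsum ⊢
  field_simp
  apply mul_left_cancel₀ hq
  linear_combination hsum

theorem z1_sq : (z1 : S2) * z1 = 1 := by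
  refine Subtype.ext ?_
  rw [coe_mulS, z1_coe, coe_oneS]; simp

/-- The central character at the central involution. -/
theorem exists_omega {χ : S2 → ℂ} (hχ : Cfsg.IsIrrCharacter S2 χ) :
    ∃ ω : ℂ, (ω = 1 ∨ ω = -1) ∧ conj ω = ω ∧ ∀ g, χ (z1 * g) = ω * χ g := by
  obtain ⟨ω, -, h⟩ := IsIrrCharacter.central_apply hχ z1_mem_center
  have h2 := h z1
  rw [z1_sq] at h2
  have h1 := h 1
  rw [mul_one] at h1
  rw [h1, ← mul_assoc] at h2
  have : ω * ω = 1 := (mul_eq_right₀ (IsIrrCharacter.apply_one_ne_zero hχ)).mp h2.symm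
  rcases mul_self_eq_one_iff.mp this with rfl | rfl
  · exact ⟨1, Or.inl rfl, map_one _, h⟩
  · exact ⟨-1, Or.inr rfl, by simp, h⟩

theorem inner_AF_irr (α : MulChar F ℂ) (hodd : ringChar F ≠ 2) {e : Fˣ} (he : Covers e)
    (hens : ¬ IsSquare (e : F)) {χ : S2 → ℂ} (hχ : Cfsg.IsClassFunction S2 χ) {ω : ℂ}
    (hω : conj ω = ω) (hz : ∀ g, χ (z1 * g) = ω * χ g) :
    (Fintype.card F : ℂ) * Cfsg.classInner (AF α) χ =
      (1 + α (-1) * ω) * (conj (χ 1) - (conj (χ (uS 1)) + conj (χ (uS (e : F)))) / 2) := by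
  rw [inner_AF α hodd he hens hχ, show χ z1 = ω * χ 1 by rw [← hz, mul_one], hz, hz, map_mul,
    map_mul, map_mul, hω]
  ring

theorem exists_char_sign (hodd : ringChar F ≠ 2) {ω : ℂ} (hω : ω = 1 ∨ ω = -1) :
    ∃ α : MulChar F ℂ, α (-1) = ω := by
  rcases hω with rfl | rfl
  · exact ⟨1, MulChar.one_apply isUnit_one.neg⟩
  · haveI : NeZero (Monoid.exponent Fˣ) := ⟨Monoid.exponent_ne_zero_of_finite⟩
    obtain ⟨α, hα⟩ := MulChar.exists_apply_ne_one_of_hasEnoughRootsOfUnity F ℂ (a := (-1 : F))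
      (Ring.neg_one_ne_one_of_char_ne_two hodd)
    refine ⟨α, (mul_self_eq_one_iff.mp ?_).resolve_left hα⟩
    rw [← map_mul, neg_one_mul, neg_neg, map_one]

theorem isGen_psi (C : Subgroup S2) (θ : C →* ℂˣ) (α : MulChar F ℂ) :
    Cfsg.IsGeneralizedCharacter S2 (psi C θ α) :=
  isGeneralizedCharacter_sub
    (isGeneralizedCharacter_mul
      (isGeneralizedCharacter_sub (IsIrrCharacter.isGeneralized isIrr_StS)
        isGeneralizedCharacter_one)
      (IsCharacter.isGeneralized (isCharacter_RS α)))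
    (isGeneralizedCharacter_indFun C (IsIrrCharacter.isGeneralized (isIrrCharacter_monoidHom θ)))

theorem isClassFunction_psi (C : Subgroup S2) (θ : C →* ℂˣ) (α : MulChar F ℂ) :
    Cfsg.IsClassFunction S2 (psi C θ α) :=
  IsGeneralizedCharacter.isClassFunction (isGen_psi C θ α)

theorem inner_psi (C : Subgroup S2) [Fintype C] (θ : C →* ℂˣ) (α : MulChar F ℂ) {χ : S2 → ℂ}
    (hχ : Cfsg.IsClassFunction S2 χ) :
    Cfsg.classInner (psi C θ α) χ =
      Cfsg.classInner (AF α) χ - Cfsg.classInner (fun c : C => (θ c : ℂ)) (fun c : C => χ c) := by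
  rw [psi, classInner_sub_left, classInner_indFun C _ hχ]

section Values

variable {C : Subgroup (Matrix.SpecialLinearGroup (Fin 2) F)}

theorem ind_scalar (θ : C → ℂ) {g : S2} (hg : g ∈ Subgroup.center S2) (hgC : g ∈ C) :
    Cfsg.indFun C θ g = (Nat.card S2 : ℂ) / (Nat.card C : ℂ) * θ ⟨g, hgC⟩ := by
  rw [indFun_apply]
  have e : ∀ x : S2, x⁻¹ * g * x = g := fun x => by
    rw [mul_assoc, ← Subgroup.mem_center_iff.mp hg x, inv_mul_cancel_left]
  simp only [e, extendByZero_of_mem C θ hgC, Finset.sum_const, Finset.card_univ, nsmul_eq_mul,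
    Nat.card_eq_fintype_card]
  ring

theorem ind_zero (θ : C → ℂ) {g : S2} (h : ∀ x : S2, x⁻¹ * g * x ∉ C) :
    Cfsg.indFun C θ g = 0 := by
  rw [indFun_apply, Finset.sum_eq_zero fun x _ => extendByZero_of_notMem C θ (h x), mul_zero]

theorem ind_elliptic (θ : C → ℂ) (hodd : ringChar F ≠ 2) [IsCyclic C]
    (hcard : Nat.card C = Fintype.card F + 1) {c : S2} (hc : c ∈ C) (hns : Nonscalar (c : M2)) :
    Cfsg.indFun C θ c = θ ⟨c, hc⟩ + θ ⟨c⁻¹, inv_mem hc⟩ := by
  classical
  have hne := sq_nonscalar_of_elliptic hodd (torus_elliptic hodd hcard hc hns)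
  obtain ⟨x₀, hx₀⟩ := exists_conj_inv hodd (torus_elliptic hodd hcard hc hns)
  have hterm : ∀ x : S2, Cfsg.extendByZero C θ (x⁻¹ * c * x) =
      (if x⁻¹ * c * x = c then θ ⟨c, hc⟩ else 0) +
        (if x⁻¹ * c * x = c⁻¹ then θ ⟨c⁻¹, inv_mem hc⟩ else 0) := by
    intro x
    by_cases hm : x⁻¹ * c * x ∈ C
    · have := conj_mem_torus hodd hcard hc hns (x := x⁻¹) (by rwa [inv_inv])
      rw [inv_inv] at this
      rw [extendByZero_of_mem C θ hm]
      rcases this with h | h
      · rw [if_pos h, if_neg (fun h' => hne (h'.symm.trans h)), add_zero]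
        congr 1; exact Subtype.ext h
      · rw [if_neg (fun h' => hne (h.symm.trans h')), if_pos h, zero_add]
        congr 1; exact Subtype.ext h
    · rw [extendByZero_of_notMem C θ hm, if_neg (fun h => hm (by rw [h]; exact hc)),
        if_neg (fun h => hm (by rw [h]; exact inv_mem hc)), add_zero]
  have hcnt : (Finset.univ.filter fun x : S2 => x⁻¹ * c * x = c).card = Nat.card C := by
    conv_rhs => rw [← torus_centralizer hodd hcard hc hns]
    rw [Nat.card_eq_fintype_card]
    refine (Fintype.card_of_subtype _ fun x => ?_).symm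
    rw [Finset.mem_filter, Subgroup.mem_centralizer_singleton_iff, mul_assoc, inv_mul_eq_iff_eq_mul]
    exact ⟨fun h => h.2.symm, fun h => ⟨Finset.mem_univ _, h.symm⟩⟩
  have hcnt2 : (Finset.univ.filter fun x : S2 => x⁻¹ * c * x = c⁻¹).card = Nat.card C := by
    rw [← hcnt]
    refine (Finset.card_bij (fun x _ => x * x₀⁻¹) (fun x hx => ?_) (fun a _ b _ h => mul_right_cancel h)
      fun y hy => ⟨y * x₀, ?_, mul_inv_cancel_right _ _⟩).symm
    · rw [Finset.mem_filter] at hx ⊢
      refine ⟨Finset.mem_univ _, ?_⟩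
      rw [show (x * x₀⁻¹)⁻¹ * c * (x * x₀⁻¹) = x₀ * (x⁻¹ * c * x) * x₀⁻¹ by group, hx.2, hx₀]
    · rw [Finset.mem_filter] at hy ⊢
      refine ⟨Finset.mem_univ _, ?_⟩
      rw [show (y * x₀)⁻¹ * c * (y * x₀) = x₀⁻¹ * (y⁻¹ * c * y) * x₀ by group, hy.2, ← hx₀]
      group
  have hC0 : (Nat.card C : ℂ) ≠ 0 := Nat.cast_ne_zero.mpr Nat.card_pos.ne'
  rw [indFun_apply, Fintype.sum_congr _ _ hterm, Finset.sum_add_distrib, ← Finset.sum_filter,
    ← Finset.sum_filter, Finset.sum_const, Finset.sum_const, hcnt, hcnt2, nsmul_eq_mul,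
    nsmul_eq_mul]
  field_simp

theorem torus_not_conj (hodd : ringChar F ≠ 2) (hcard : Nat.card C = Fintype.card F + 1) {g : S2}
    (hns : Nonscalar (g : M2)) (he : eig (g : M2) ≠ ∅) (x : S2) : x⁻¹ * g * x ∉ C := by
  intro hm
  have hc : IsConj g (x⁻¹ * g * x) := isConj_iff.mpr ⟨x⁻¹, by group⟩
  exact he ((eig_isConjS hc).trans (torus_elliptic hodd hcard hm (nonscalar_isConjS hc hns)))

theorem psi_torus (θ : C →* ℂˣ) (α : MulChar F ℂ) (hodd : ringChar F ≠ 2) [IsCyclic C]
    (hcard : Nat.card C = Fintype.card F + 1) {c : S2} (hc : c ∈ C) (hns : Nonscalar (c : M2)) :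
    psi C θ α c = -((θ ⟨c, hc⟩ : ℂ) + ((θ ⟨c, hc⟩)⁻¹ : ℂˣ).val) := by
  show AF α c - Cfsg.indFun C (fun c => (θ c : ℂ)) c = _
  rw [AF_regular α hns (elliptic_regular (torus_elliptic hodd hcard hc hns) hodd).2,
    ind_elliptic _ hodd hcard hc hns, zero_sub, ← map_inv θ]
  rfl

theorem psi_split (θ : C →* ℂˣ) (α : MulChar F ℂ) (hodd : ringChar F ≠ 2)
    (hcard : Nat.card C = Fintype.card F + 1) {g : S2} (hns : Nonscalar (g : M2))
    (ht : (g : M2).trace * (g : M2).trace ≠ 4) (he : eig (g : M2) ≠ ∅) : psi C θ α g = 0 := by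
  show AF α g - Cfsg.indFun C (fun c => (θ c : ℂ)) g = _
  rw [AF_regular α hns ht, ind_zero _ (torus_not_conj hodd hcard hns he), sub_zero]

theorem psi_zu (θ : C →* ℂˣ) (α : MulChar F ℂ) (hodd : ringChar F ≠ 2)
    (hcard : Nat.card C = Fintype.card F + 1) (z : {z : F // z * z = 1}) {b : F} (hb : b ≠ 0) :
    psi C θ α (zS z * uS b) = -α z.1 := by
  show AF α (zS z * uS b) - Cfsg.indFun C (fun c => (θ c : ℂ)) (zS z * uS b) = _
  rw [AF_zu α z hb, ind_zero _ (torus_not_conj hodd hcard (zu_nonscalar z hb) ?_), sub_zero]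
  intro h
  have : z.1 ∈ eig ((zS z * uS b : S2) : M2) := by
    rw [zu_coe, eig_upper (by simp)]
    exact Or.inl (by simp)
  rw [h] at this
  exact this

theorem psi_uS (θ : C →* ℂˣ) (α : MulChar F ℂ) (hodd : ringChar F ≠ 2)
    (hcard : Nat.card C = Fintype.card F + 1) {b : F} (hb : b ≠ 0) :
    psi C θ α (uS b) = -1 := by
  have := psi_zu θ α hodd hcard ⟨1, one_mul 1⟩ hb
  rwa [zS_one, one_mul, map_one] at this

theorem psi_one (θ : C →* ℂˣ) (α : MulChar F ℂ) (hcard : Nat.card C = Fintype.card F + 1) :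
    psi C θ α 1 = (Fintype.card F : ℂ) - 1 := by
  show AF α 1 - Cfsg.indFun C (fun c => (θ c : ℂ)) 1 = _
  rw [show AF α (1 : S2) = _ from zS_one (F := F) ▸ AF_scalar α _,
    ind_scalar _ (Subgroup.one_mem _) (Subgroup.one_mem C)]
  rw [show (⟨1, C.one_mem⟩ : C) = 1 from rfl, map_one, map_one, Units.val_one, card_SL2_cast, hcard]
  have : ((Fintype.card F + 1 : ℕ) : ℂ) ≠ 0 := Nat.cast_ne_zero.mpr (by omega)
  push_cast at this ⊢
  field_simp
  ring

theorem psi_z1 (θ : C →* ℂˣ) (α : MulChar F ℂ) (hcard : Nat.card C = Fintype.card F + 1)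
    (hz : (z1 : S2) ∈ C) (hα : α (-1) = (θ ⟨z1, hz⟩ : ℂ)) :
    psi C θ α z1 = ((Fintype.card F : ℂ) - 1) * (θ ⟨z1, hz⟩ : ℂ) := by
  show AF α z1 - Cfsg.indFun C (fun c => (θ c : ℂ)) z1 = _
  rw [show AF α (z1 : S2) = _ from AF_scalar α _, ind_scalar _ z1_mem_center hz, hα,
    card_SL2_cast, hcard]
  have : ((Fintype.card F + 1 : ℕ) : ℂ) ≠ 0 := Nat.cast_ne_zero.mpr (by omega)
  push_cast at this ⊢
  field_simp
  ring

theorem norm_psi (θ : C →* ℂˣ) (α : MulChar F ℂ) (hodd : ringChar F ≠ 2) [IsCyclic C]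
    [Fintype C] (hcard : Nat.card C = Fintype.card F + 1) (hz : (z1 : S2) ∈ C)
    (hα : α (-1) = (θ ⟨z1, hz⟩ : ℂ)) :
    ((Fintype.card F : ℂ) + 1) * Cfsg.classInner (psi C θ α) (psi C θ α) =
      ((Fintype.card F : ℂ) + 1) + ∑ c : C, (θ c : ℂ) ^ 2 := by
  classical
  obtain ⟨e, he, hens'⟩ := exists_covers (F := F)
  have hens := hens' hodd
  set zc : C := ⟨z1, hz⟩ with hzc
  set ω : ℂ := (θ zc : ℂ) with hω
  have hω2 : ω * ω = 1 := by
    rw [hω, ← Units.val_mul, ← map_mul, show zc * zc = 1 from Subtype.ext z1_sq, map_one,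
      Units.val_one]
  have hωc : conj ω = ω := by
    rcases mul_self_eq_one_iff.mp hω2 with h | h <;> simp [h]
  have hq1 : ((Fintype.card F : ℂ) + 1) ≠ 0 := by
    have : ((Fintype.card F + 1 : ℕ) : ℂ) ≠ 0 := Nat.cast_ne_zero.mpr (by omega)
    simpa using this
  have hAA : Cfsg.classInner (AF α) (AF α) = 2 * (Fintype.card F : ℂ) := by
    apply mul_left_cancel₀ (card_ne_zero_C (F := F))
    rw [inner_AF α hodd he hens (isClassFunction_AF α),
      show AF α (1 : S2) = _ from zS_one (F := F) ▸ AF_scalar α _,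
      show AF α (z1 : S2) = _ from AF_scalar α _,
      show AF α (uS 1) = _ from one_mul (uS (1 : F)) ▸ zS_one (F := F) ▸ AF_zu α _ one_ne_zero,
      show AF α (uS (e : F)) = _ from one_mul (uS (e : F)) ▸ zS_one (F := F) ▸ AF_zu α _ e.ne_zero,
      show AF α (z1 * uS 1) = _ from AF_zu α _ one_ne_zero,
      show AF α (z1 * uS (e : F)) = _ from AF_zu α _ e.ne_zero]
    simp only [map_mul, map_sub, map_neg, map_pow, map_natCast, map_one, hα, hωc]
    linear_combination (Fintype.card F : ℂ) ^ 2 * hω2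
  have hsupp : ∀ c : C, c ≠ 1 → c ≠ zc → Nonscalar ((c : S2) : M2) := fun c h1 h2 => by
    by_contra h
    rcases scalar_cases h with e | e
    · exact h1 (Subtype.ext e)
    · exact h2 (Subtype.ext e)
  have h1z : (1 : C) ≠ zc := fun h => z1_ne_one hodd (congrArg Subtype.val h).symm
  have split2 : ∀ f : C → ℂ, ∑ c : C, f c =
      f 1 + f zc + ∑ c ∈ ((Finset.univ.erase (1 : C)).erase zc), f c := fun f => by
    rw [← Finset.add_sum_erase _ _ (Finset.mem_univ (1 : C)),
      ← Finset.add_sum_erase _ _ (Finset.mem_erase.mpr ⟨h1z.symm, Finset.mem_univ zc⟩)]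
    ring
  have hθA : ((Fintype.card F : ℂ) + 1) *
      Cfsg.classInner (fun c : C => (θ c : ℂ)) (fun c : C => AF α c) =
      2 * ((Fintype.card F : ℂ) ^ 2 - 1) := by
    rw [Cfsg.classInner, hcard, split2, Finset.sum_eq_zero fun c hc => ?_]
    · rw [show AF α ((1 : C) : S2) = _ from zS_one (F := F) ▸ AF_scalar α _,
        show AF α ((zc : C) : S2) = _ from AF_scalar α _]
      simp only [map_mul, map_sub, map_pow, map_natCast, map_one, hα, Units.val_one, hωc]
      push_cast
      field_simp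
      linear_combination ((Fintype.card F : ℂ) ^ 2 - 1) * hω2
    · obtain ⟨hc2, hc1⟩ : c ≠ zc ∧ c ≠ 1 :=
        ⟨(Finset.mem_erase.mp hc).1, (Finset.mem_erase.mp (Finset.mem_erase.mp hc).2).1⟩
      have hns := hsupp c hc1 hc2
      rw [AF_regular α hns (elliptic_regular (torus_elliptic hodd hcard c.2 hns) hodd).2, map_zero,
        mul_zero]
  have hθI : ((Fintype.card F : ℂ) + 1) * Cfsg.classInner (fun c : C => (θ c : ℂ))
      (fun c : C => Cfsg.indFun C (fun c => (θ c : ℂ)) c) =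
      2 * ((Fintype.card F : ℂ) * ((Fintype.card F : ℂ) - 1)) + ((Fintype.card F : ℂ) - 3) +
        ∑ c : C, (θ c : ℂ) ^ 2 := by
    have hidx : (Nat.card S2 : ℂ) / (Nat.card C : ℂ) =
        (Fintype.card F : ℂ) * ((Fintype.card F : ℂ) - 1) := by
      rw [card_SL2_cast, hcard]; push_cast; field_simp; ring
    have hrest : ∀ c ∈ ((Finset.univ.erase (1 : C)).erase zc),
        (θ c : ℂ) * conj (Cfsg.indFun C (fun c => (θ c : ℂ)) c) = 1 + (θ c : ℂ) ^ 2 := by
      intro c hc
      obtain ⟨hc2, hc1⟩ : c ≠ zc ∧ c ≠ 1 :=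
        ⟨(Finset.mem_erase.mp hc).1, (Finset.mem_erase.mp (Finset.mem_erase.mp hc).2).1⟩
      have hch := IsIrrCharacter.isCharacter (isIrrCharacter_monoidHom θ)
      have hc1' : conj (θ c : ℂ) = (θ c⁻¹ : ℂ) := (IsCharacter.map_inv hch c).symm
      have hc2' : conj (θ c⁻¹ : ℂ) = (θ c : ℂ) := by
        rw [← IsCharacter.map_inv hch c⁻¹, inv_inv]
      rw [ind_elliptic _ hodd hcard c.2 (hsupp c hc1 hc2)]
      show (θ c : ℂ) * conj ((θ c : ℂ) + (θ c⁻¹ : ℂ)) = _
      rw [map_add, hc1', hc2', mul_add, ← Units.val_mul, ← map_mul, mul_inv_cancel, map_one,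
        Units.val_one, pow_two]
    have hsq := split2 fun c => (θ c : ℂ) ^ 2
    have hcount : ((((Finset.univ : Finset C).erase 1).erase zc).card : ℂ) =
        (Fintype.card F : ℂ) - 1 := by
      rw [Finset.card_erase_of_mem (Finset.mem_erase.mpr ⟨h1z.symm, Finset.mem_univ zc⟩),
        Finset.card_erase_of_mem (Finset.mem_univ _), Finset.card_univ,
        ← Nat.card_eq_fintype_card, hcard,
        show Fintype.card F + 1 - 1 - 1 = Fintype.card F - 1 by omega,
        Nat.cast_sub Fintype.card_pos, Nat.cast_one]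
    rw [Finset.sum_congr rfl (fun c _ => rfl)] at hsq
    rw [Cfsg.classInner, hcard, split2, Finset.sum_congr rfl hrest, Finset.sum_add_distrib,
      Finset.sum_const, nsmul_eq_mul, hcount, mul_one]
    rw [show Cfsg.indFun C (fun c => (θ c : ℂ)) ((1 : C) : S2) = _ from
        ind_scalar _ (Subgroup.one_mem _) (Subgroup.one_mem C),
      show Cfsg.indFun C (fun c => (θ c : ℂ)) ((zc : C) : S2) = _ from
        ind_scalar _ z1_mem_center hz, hidx]
    simp only [show (⟨1, C.one_mem⟩ : C) = 1 from rfl, map_one, Units.val_one, map_mul, map_sub,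
      map_natCast, ← hzc, ← hω, hωc]
    simp only [map_one, Units.val_one, ← hω] at hsq
    push_cast
    field_simp
    linear_combination ((Fintype.card F : ℂ) * ((Fintype.card F : ℂ) - 1) - 1) * hω2 - hsq
  have hcfI := isClassFunction_indFun C (fun c => (θ c : ℂ))
  have h1 : Cfsg.classInner (psi C θ α) (psi C θ α) = Cfsg.classInner (AF α) (AF α) -
      conj (Cfsg.classInner (fun c : C => (θ c : ℂ)) (fun c : C => AF α c)) -
      (Cfsg.classInner (fun c : C => (θ c : ℂ)) (fun c : C => AF α c) -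
        Cfsg.classInner (fun c : C => (θ c : ℂ))
          (fun c : C => Cfsg.indFun C (fun c => (θ c : ℂ)) c)) := by
    rw [psi, classInner_sub_left, classInner_sub_right, classInner_sub_right,
      ← classInner_conj_symm (Cfsg.indFun C _) (AF α), classInner_indFun C _ (isClassFunction_AF α),
      classInner_indFun C _ hcfI]
  have hconj := congrArg conj hθA
  simp only [map_mul, map_add, map_sub, map_pow, map_natCast, map_one, map_ofNat] at hconj
  rw [h1, hAA]
  linear_combination hθI - hθA - hconj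

/-- The virtual character of a character with nontrivial square is irreducible. -/
theorem isIrr_psi (θ : C →* ℂˣ) (α : MulChar F ℂ) (hodd : ringChar F ≠ 2) [IsCyclic C]
    (hcard : Nat.card C = Fintype.card F + 1) (hz : (z1 : S2) ∈ C)
    (hα : α (-1) = (θ ⟨z1, hz⟩ : ℂ)) (hθ : θ ^ 2 ≠ 1) :
    Cfsg.IsIrrCharacter S2 (psi C θ α) := by
  haveI := Fintype.ofFinite C
  obtain ⟨c₀, hc₀⟩ : ∃ c, θ c ^ 2 ≠ 1 := by
    by_contra h
    push Not at h
    exact hθ (MonoidHom.ext h)
  have hsum : ∑ c : C, (θ c : ℂ) ^ 2 = 0 := by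
    refine eq_zero_of_mul_eq_self_left (b := (θ c₀ : ℂ) ^ 2)
      (fun e => hc₀ (Units.ext (by rw [Units.val_pow_eq_pow_val, e, Units.val_one]))) ?_
    rw [Finset.mul_sum]
    exact Fintype.sum_equiv (Equiv.mulLeft c₀) _ _ fun c => by simp [mul_pow]
  have hn := norm_psi θ α hodd hcard hz hα
  rw [hsum, add_zero] at hn
  have hq1 : ((Fintype.card F : ℂ) + 1) ≠ 0 := by
    have : ((Fintype.card F + 1 : ℕ) : ℂ) ≠ 0 := Nat.cast_ne_zero.mpr (by omega)
    simpa using this
  rcases IsGeneralizedCharacter.irr_or_neg (isGen_psi C θ α)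
    (mul_left_cancel₀ hq1 (by rw [hn, mul_one])) with h | h
  · exact h
  · exfalso
    obtain ⟨d, hd0, hd⟩ := IsIrrCharacter.degree_pos h
    rw [Pi.neg_apply, psi_one θ α hcard] at hd
    have : ((d + Fintype.card F : ℕ) : ℂ) = ((1 : ℕ) : ℂ) := by push_cast; linear_combination -hd
    have : d + Fintype.card F = 1 := by exact_mod_cast this
    have := Fintype.one_lt_card (α := F)
    omega

theorem inner_int_le_one {G : Type*} [Group G] [Fintype G] {X χ : G → ℂ}
    (hX : Cfsg.IsGeneralizedCharacter G X) (hχ : Cfsg.IsIrrCharacter G χ)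
    (h2 : Cfsg.classInner X X = 2) :
    ∃ c : ℤ, c ≤ 1 ∧ Cfsg.classInner X χ = c := by
  obtain ⟨c, hc⟩ := classInner_int_of_isGeneralized hX (IsIrrCharacter.isGeneralized hχ)
  refine ⟨c, ?_, hc⟩
  have e : Cfsg.classInner (X - (c : ℂ) • χ) (X - (c : ℂ) • χ) = ((2 - c * c : ℤ) : ℂ) := by
    rw [classInner_sub_left, classInner_sub_right, classInner_sub_right, classInner_smul_left,
      classInner_smul_left, classInner_smul_right, classInner_smul_right, ← classInner_conj_symm X χ,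
      hc, h2, IsIrrCharacter.classInner_self hχ]
    simp only [map_intCast]
    push_cast
    ring
  have h0 := classInner_self_re_nonneg (X - (c : ℂ) • χ)
  rw [e, Complex.intCast_re] at h0
  have : (0 : ℤ) ≤ 2 - c * c := by exact_mod_cast h0
  nlinarith

/-- The virtual character of the trivial character. -/
theorem psi_triv (hodd : ringChar F ≠ 2) [IsCyclic C]
    (hcard : Nat.card C = Fintype.card F + 1) (hz : (z1 : S2) ∈ C) :
    psi C 1 1 = StS - 1 := by
  classical
  haveI := Fintype.ofFinite C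
  obtain ⟨e, he, hens'⟩ := exists_covers (F := F)
  have hens := hens' hodd
  have hα : (1 : MulChar F ℂ) (-1) = (((1 : C →* ℂˣ) ⟨z1, hz⟩ : ℂˣ) : ℂ) := by
    rw [MulChar.one_apply isUnit_one.neg]; rfl
  have hq1 : ((Fintype.card F : ℂ) + 1) ≠ 0 := by
    have : ((Fintype.card F + 1 : ℕ) : ℂ) ≠ 0 := Nat.cast_ne_zero.mpr (by omega)
    simpa using this
  have hn : Cfsg.classInner (psi C 1 1) (psi C 1 1) = 2 := by
    have h := norm_psi 1 1 hodd hcard hz hα
    simp only [MonoidHom.one_apply, Units.val_one, one_pow, Finset.sum_const, Finset.card_univ,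
      nsmul_eq_mul, mul_one, ← Nat.card_eq_fintype_card (α := C), hcard] at h
    apply mul_left_cancel₀ hq1
    push_cast at h
    linear_combination h
  have hone : Cfsg.IsIrrCharacter S2 (1 : S2 → ℂ) := isIrrCharacter_one
  have hcf1 := IsCharacter.isClassFunction (IsIrrCharacter.isCharacter hone)
  have hcfS := IsCharacter.isClassFunction (IsIrrCharacter.isCharacter (isIrr_StS (F := F)))
  have hA1 : Cfsg.classInner (AF 1) (1 : S2 → ℂ) = 0 := by
    apply mul_left_cancel₀ (card_ne_zero_C (F := F))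
    rw [inner_AF 1 hodd he hens hcf1]
    simp
  have h1 : Cfsg.classInner (psi C 1 1) (1 : S2 → ℂ) = -1 := by
    rw [inner_psi C 1 1 hcf1, hA1]
    show (0 : ℂ) - Cfsg.classInner (1 : C → ℂ) (1 : C → ℂ) = -1
    rw [IsIrrCharacter.classInner_self isIrrCharacter_one, zero_sub]
  have hSu : ∀ (z : {z : F // z * z = 1}) (b : F), b ≠ 0 → StS (zS z * uS b) = 0 := by
    intro z b hb
    have h1' : (1 : MulChar F ℂ) z.1 = 1 := MulChar.one_apply (isUnit_iff_ne_zero.mpr (z_ne_zero z))
    rw [StS_apply, zu_coe, psFun_upper_eq _ _ (by simp) (by simp) (by simp [hb, z_ne_zero z])]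
    simp [h1']
  have hSu1 : ∀ b : F, b ≠ 0 → StS (uS b) = 0 := fun b hb => by
    have := hSu ⟨1, one_mul 1⟩ b hb
    rwa [zS_one, one_mul] at this
  have hSz : StS (z1 : S2) = (Fintype.card F : ℂ) := by
    rw [StS_apply, z1_coe, psFun_scalar _ _ (by simp) (by simp) (by simp)]
    simp [MulChar.one_apply isUnit_one.neg]
  have hAS : Cfsg.classInner (AF 1) (StS : S2 → ℂ) = 2 := by
    apply mul_left_cancel₀ (card_ne_zero_C (F := F))
    rw [inner_AF 1 hodd he hens hcfS, StS_one, hSz, hSu1 1 one_ne_zero, hSu1 _ e.ne_zero,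
      show StS ((z1 : S2) * uS (1 : F)) = _ from hSu ⟨-1, by ring⟩ (1 : F) one_ne_zero,
      show StS ((z1 : S2) * uS (e : F)) = _ from hSu ⟨-1, by ring⟩ (e : F) e.ne_zero,
      MulChar.one_apply isUnit_one.neg]
    simp
    ring
  have hCS : Cfsg.classInner (fun c : C => (((1 : C →* ℂˣ) c : ℂˣ) : ℂ)) (fun c : C => (StS : S2 → ℂ) (c : S2)) = 1 := by
    rw [Cfsg.classInner, hcard]
    simp only [MonoidHom.one_apply, Units.val_one, one_mul]
    have hzc : (1 : C) ≠ ⟨z1, hz⟩ := fun h => z1_ne_one hodd (congrArg Subtype.val h).symm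
    rw [← Finset.add_sum_erase _ _ (Finset.mem_univ (1 : C)),
      ← Finset.add_sum_erase _ _ (Finset.mem_erase.mpr ⟨hzc.symm, Finset.mem_univ (⟨z1, hz⟩ : C)⟩),
      Finset.sum_congr rfl (g := fun _ => (-1 : ℂ)) fun c hc => ?_]
    · rw [Finset.sum_const, Finset.card_erase_of_mem
        (Finset.mem_erase.mpr ⟨hzc.symm, Finset.mem_univ _⟩),
        Finset.card_erase_of_mem (Finset.mem_univ _), Finset.card_univ,
        ← Nat.card_eq_fintype_card (α := C), hcard, show Fintype.card F + 1 - 1 - 1 = Fintype.card F - 1 by omega, nsmul_eq_mul,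
        Nat.cast_sub Fintype.card_pos, OneMemClass.coe_one, StS_one, hSz]
      simp only [map_natCast]
      push_cast
      field_simp
      ring
    · obtain ⟨hc2, hc1⟩ : c ≠ ⟨z1, hz⟩ ∧ c ≠ 1 :=
        ⟨(Finset.mem_erase.mp hc).1, (Finset.mem_erase.mp (Finset.mem_erase.mp hc).2).1⟩
      have hns : Nonscalar ((c : S2) : M2) := by
        by_contra h
        rcases scalar_cases h with h' | h'
        · exact hc1 (Subtype.ext h')
        · exact hc2 (Subtype.ext h')
      rw [StS_apply, psFun_elliptic _ _ (torus_elliptic hodd hcard c.2 hns)]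
      simp
  have hS : Cfsg.classInner (psi C 1 1) (StS : S2 → ℂ) = 1 := by
    rw [inner_psi C 1 1 hcfS, hAS, hCS]; norm_num
  refine sub_eq_zero.mp (classInner_self_eq_zero ?_)
  have hne : (StS : S2 → ℂ) ≠ 1 := fun h => by
    have := congrFun h 1
    rw [StS_one, Pi.one_apply] at this
    have h' : Fintype.card F = 1 := by exact_mod_cast this
    have := Fintype.one_lt_card (α := F)
    omega
  simp only [classInner_sub_left, classInner_sub_right]
  rw [← classInner_conj_symm (psi C 1 1) StS, ← classInner_conj_symm (psi C 1 1) 1, hn, h1, hS,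
    IsIrrCharacter.classInner_self hone, IsIrrCharacter.classInner_self isIrr_StS,
    IsIrrCharacter.classInner_eq_zero isIrr_StS hone hne,
    IsIrrCharacter.classInner_eq_zero hone isIrr_StS hne.symm]
  norm_num

theorem dual_expansion [IsCyclic C] [Fintype C] [Fintype (C →* ℂˣ)] (f : C → ℂ) (a : C) :
    ∑ θ : C →* ℂˣ, Cfsg.classInner (fun c : C => (θ c : ℂ)) f * (θ a⁻¹ : ℂ) = conj (f a) := by
  classical
  simp only [Cfsg.classInner, Finset.mul_sum, Finset.sum_mul]
  rw [Finset.sum_comm]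
  have e : ∀ c : C, ∑ θ : C →* ℂˣ, (Nat.card C : ℂ)⁻¹ * ((θ c : ℂ) * conj (f c)) * (θ a⁻¹ : ℂ) =
      if c = a then conj (f c) else 0 := by
    intro c
    have h : ∀ θ : C →* ℂˣ, (Nat.card C : ℂ)⁻¹ * ((θ c : ℂ) * conj (f c)) * (θ a⁻¹ : ℂ) =
        (Nat.card C : ℂ)⁻¹ * conj (f c) * (θ (c * a⁻¹) : ℂ) := fun θ => by
      rw [map_mul, Units.val_mul]; ring
    rw [Fintype.sum_congr _ _ h, ← Finset.mul_sum, sum_dual]
    simp only [mul_inv_eq_one]
    have hC : (Nat.card C : ℂ) ≠ 0 := Nat.cast_ne_zero.mpr Nat.card_pos.ne'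
    split_ifs
    · field_simp
    · rw [mul_zero]
  rw [Fintype.sum_congr _ _ e]
  simp

/-- The restriction of a cuspidal character to a torus. -/
theorem torus_mult (hodd : ringChar F ≠ 2) [IsCyclic C]
    (hcard : Nat.card C = Fintype.card F + 1) {χ : S2 → ℂ} (hχ : Cfsg.IsIrrCharacter S2 χ)
    {k : ℕ} (hk : 1 ≤ k) {e : Fˣ} (he : Covers e) (hens : ¬ IsSquare (e : F))
    (hd : 2 * conj (χ 1) = (k : ℂ) * ((Fintype.card F : ℂ) - 1))
    (hu : conj (χ (uS 1)) + conj (χ (uS (e : F))) = -(k : ℂ))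
    (hχ1 : χ ≠ 1) (hχS : χ ≠ StS)
    (hne : ∀ (θ : C →* ℂˣ) (α : MulChar F ℂ), θ ^ 2 ≠ 1 →
      α (-1) = (θ ⟨z1, z1_mem_torus hodd hcard⟩ : ℂ) → psi C θ α ≠ χ) :
    k = 1 ∧ ∀ (a : C) (n : ℕ), Nat.card C = 2 * n → Nonscalar ((a : S2) : M2) →
      (a ^ n = 1 → χ a = -1) ∧ (a ^ n ≠ 1 → χ a = 1) := by
  classical
  haveI := Fintype.ofFinite C
  haveI := finite_dual (A := C)
  haveI := Fintype.ofFinite (C →* ℂˣ)
  have hz := z1_mem_torus hodd hcard
  set zc : C := ⟨z1, hz⟩ with hzc
  have hzz : zc * zc = 1 := Subtype.ext z1_sq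
  obtain ⟨m, hm⟩ : Even (Fintype.card F + 1) :=
    (Nat.odd_iff.mpr (FiniteField.odd_card_of_char_ne_two hodd)).add_one
  have hC2 : Nat.card C = 2 * m := by omega
  obtain ⟨sg, hsg2, hsg1, hsgv⟩ := exists_sgn (A := C) hC2
  have hχc := IsIrrCharacter.isCharacter hχ
  have hcf := IsCharacter.isClassFunction hχc
  obtain ⟨ω, hω, hωc, hωm⟩ := exists_omega hχ
  obtain ⟨α, hα⟩ := exists_char_sign hodd hω
  have hω2 : ω * ω = 1 := by rcases hω with rfl | rfl <;> norm_num
  let mu : (C →* ℂˣ) → ℂ := fun θ => Cfsg.classInner (fun c : C => (θ c : ℂ)) (fun c : C => χ c)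
  have hθz : ∀ θ : C →* ℂˣ, (θ zc : ℂ) = 1 ∨ (θ zc : ℂ) = -1 := fun θ =>
    mul_self_eq_one_iff.mp (by rw [← Units.val_mul, ← map_mul, hzz, map_one, Units.val_one])
  have hzero : ∀ θ : C →* ℂˣ, (θ zc : ℂ) ≠ ω → mu θ = 0 := by
    intro θ hθ
    have hshift : mu θ = (θ zc : ℂ) * ω * mu θ := by
      simp only [mu, Cfsg.classInner]
      rw [mul_left_comm ((θ zc : ℂ) * ω)]
      congr 1
      rw [Finset.mul_sum]
      refine (Fintype.sum_equiv (Equiv.mulLeft zc) _ _ fun c => ?_).symm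
      show _ = (θ (zc * c) : ℂ) * conj (χ ((zc * c : C) : S2))
      rw [map_mul, Units.val_mul, Subgroup.coe_mul, hωm, map_mul, hωc]
      ring
    have hneg : (θ zc : ℂ) * ω = -1 := by
      rcases hθz θ with h | h <;> rcases hω with h' | h' <;> rw [h, h'] <;>
        first | exact absurd (h.trans h'.symm) hθ | norm_num
    rw [hneg] at hshift
    linear_combination hshift / 2
  have hmain : ∀ θ : C →* ℂˣ, (θ zc : ℂ) = ω →
      mu θ = (k : ℂ) - Cfsg.classInner (psi C θ α) χ := by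
    intro θ _
    have hA : Cfsg.classInner (AF α) χ = (k : ℂ) := by
      apply mul_left_cancel₀ (card_ne_zero_C (F := F))
      rw [inner_AF_irr α hodd he hens hcf hωc hωm, hα, hu, hω2]
      linear_combination hd
    rw [inner_psi C θ α hcf, hA]
    ring
  have hbig : ∀ θ : C →* ℂˣ, θ ≠ sg → (θ zc : ℂ) = ω → mu θ = (k : ℂ) := by
    intro θ hθs hθω
    by_cases h2 : θ ^ 2 = 1
    · have hθ1 : θ = 1 := by
        by_contra h
        exact hθs (eq_of_sq_eq_one h2 h hsg2 hsg1)
      subst hθ1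
      rw [MonoidHom.one_apply, Units.val_one] at hθω
      obtain rfl := hθω
      have h' := inner_AF_irr (1 : MulChar F ℂ) hodd he hens hcf hωc hωm
      rw [MulChar.one_apply isUnit_one.neg, hu] at h'
      have hA : Cfsg.classInner (AF (1 : MulChar F ℂ)) χ = (k : ℂ) := by
        apply mul_left_cancel₀ (card_ne_zero_C (F := F))
        rw [h']
        linear_combination hd
      have h0 : Cfsg.classInner (psi C 1 1) χ = 0 := by
        rw [psi_triv hodd hcard hz, classInner_sub_left,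
          IsIrrCharacter.classInner_eq_zero isIrr_StS hχ hχS.symm,
          IsIrrCharacter.classInner_eq_zero isIrrCharacter_one hχ hχ1.symm, sub_zero]
      rw [inner_psi C 1 1 hcf, hA] at h0
      exact (sub_eq_zero.mp h0).symm
    · rw [hmain θ hθω, IsIrrCharacter.classInner_eq_zero
        (isIrr_psi θ α hodd hcard hz (hα.trans hθω.symm) h2) hχ (hne θ α h2 (hα.trans hθω.symm)),
        sub_zero]
  have hcount : ∀ a : C, 2 * ∑ θ : C →* ℂˣ, (if (θ zc : ℂ) = ω then (θ a : ℂ) else 0) =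
      (if a = 1 then (Nat.card C : ℂ) else 0) + ω * (if zc * a = 1 then (Nat.card C : ℂ) else 0) := by
    intro a
    rw [← sum_dual a, ← sum_dual (zc * a), Finset.mul_sum, Finset.mul_sum, ← Finset.sum_add_distrib]
    refine Fintype.sum_congr _ _ fun θ => ?_
    rw [map_mul, Units.val_mul]
    by_cases h : (θ zc : ℂ) = ω
    · rw [if_pos h, h, ← mul_assoc, hω2]; ring
    · rw [if_neg h]
      have hneg : ω * (θ zc : ℂ) = -1 := by
        rcases hθz θ with h1 | h1 <;> rcases hω with h' | h' <;> rw [h1, h'] <;>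
          first | exact absurd (h1.trans h'.symm) h | norm_num
      rw [← mul_assoc, hneg]; ring
  have hdecomp : ∀ θ : C →* ℂˣ, mu θ =
      (if (θ zc : ℂ) = ω then (k : ℂ) else 0) - (if θ = sg then
        (if (sg zc : ℂ) = ω then (k : ℂ) else 0) - mu sg else 0) := by
    intro θ
    by_cases hs : θ = sg
    · subst hs; rw [if_pos rfl]; ring
    · rw [if_neg hs, sub_zero]
      split_ifs with h
      · exact hbig θ hs h
      · exact hzero θ h
  set c₀ : ℂ := (if (sg zc : ℂ) = ω then (k : ℂ) else 0) - mu sg with hc₀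
  have hexp : ∀ a : C, conj (χ a) = (k : ℂ) * (∑ θ : C →* ℂˣ,
      if (θ zc : ℂ) = ω then (θ a⁻¹ : ℂ) else 0) - c₀ * (sg a⁻¹ : ℂ) := by
    intro a
    rw [← dual_expansion (fun c : C => χ c) a]
    simp only [Finset.mul_sum]
    rw [Fintype.sum_congr _ (fun θ : C →* ℂˣ => ((k : ℂ) * if (θ zc : ℂ) = ω then (θ a⁻¹ : ℂ)
      else 0) - if θ = sg then c₀ * (θ a⁻¹ : ℂ) else 0) fun θ => ?_]
    · rw [Finset.sum_sub_distrib, Finset.sum_ite_eq' Finset.univ sg, if_pos (Finset.mem_univ _)]
    · show mu θ * _ = _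
      rw [hdecomp θ]
      split_ifs <;> ring
  have hzc1 : zc ≠ 1 := fun h => z1_ne_one hodd (congrArg Subtype.val h)
  have hc0 : c₀ = (k : ℂ) := by
    have h1 := hexp 1
    have hcnt := hcount 1
    rw [if_pos rfl, mul_one, if_neg hzc1, hcard] at hcnt
    push_cast at hcnt
    simp only [inv_one, map_one, Units.val_one, OneMemClass.coe_one] at h1
    simp only [map_one, Units.val_one] at hcnt
    linear_combination h1 - hd / 2 + (k : ℂ) / 2 * hcnt
  have hsgω : (sg zc : ℂ) = ω := by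
    by_contra h
    rw [hc₀, if_neg h, hzero sg h, sub_zero] at hc0
    have : k = 0 := by exact_mod_cast hc0.symm
    omega
  have hk1 : k = 1 := by
    rw [hc₀, if_pos hsgω, hmain sg hsgω, sub_sub_cancel] at hc0
    have hn2 : Cfsg.classInner (psi C sg α) (psi C sg α) = 2 := by
      have h := norm_psi sg α hodd hcard hz (hα.trans hsgω.symm)
      have hsq : ∀ c : C, (sg c : ℂ) ^ 2 = 1 := fun c => by
        rw [← Units.val_pow_eq_pow_val]
        exact congrArg Units.val (DFunLike.congr_fun hsg2 c)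
      simp only [hsq, Finset.sum_const, Finset.card_univ, nsmul_eq_mul, mul_one,
        ← Nat.card_eq_fintype_card (α := C), hcard] at h
      push_cast at h
      have hq1 : ((Fintype.card F : ℂ) + 1) ≠ 0 := by
        have : ((Fintype.card F + 1 : ℕ) : ℂ) ≠ 0 := Nat.cast_ne_zero.mpr (by omega)
        simpa using this
      apply mul_left_cancel₀ hq1
      linear_combination h
    obtain ⟨c, hc1, hc⟩ := inner_int_le_one (isGen_psi C sg α) hχ hn2
    rw [hc] at hc0
    have : c = (k : ℤ) := by exact_mod_cast hc0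
    omega
  refine ⟨hk1, fun a n hn hns => ?_⟩
  have hnm : n = m := by omega
  subst hnm
  have ha1 : a⁻¹ ≠ 1 := fun h => by
    rw [inv_eq_one] at h; subst h
    exact hns ⟨1, by simp⟩
  have ha2 : zc * a⁻¹ ≠ 1 := fun h => by
    rw [mul_inv_eq_one] at h; subst h
    exact z1_scalar hns
  have hcnt := hcount a⁻¹
  rw [if_neg ha1, if_neg ha2] at hcnt
  have h := hexp a
  rw [hc0, hk1] at h
  have hval : conj (χ a) = -(sg a⁻¹ : ℂ) := by
    push_cast at h
    linear_combination h + hcnt / 2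
  have hsga : (sg a⁻¹ : ℂ) = (sg a : ℂ) := by
    rw [map_inv]
    congr 1
    rw [inv_eq_iff_mul_eq_one, ← pow_two]
    exact DFunLike.congr_fun hsg2 a
  rw [hsga] at hval
  refine ⟨fun hp => ?_, fun hp => ?_⟩
  · rw [(hsgv a).1 hp, Units.val_one] at hval
    have := congrArg conj hval
    simpa using this
  · rw [(hsgv a).2 hp] at hval
    have := congrArg conj hval
    simpa using this

end Values

end Cfsg.Agent.GL2
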