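import Cfsg.Agent.Lib.GL2.SLCensus

/-!
# Values of the irreducible characters of the special linear group of degree two
-/

set_option autoImplicit false
set_option linter.unusedSectionVars false

open Matrix
open scoped MatrixGroups ComplexConjugate

namespace Cfsg.Agent.GL2

open Cfsg.Agent.Classical.SL2 (coord card_GL2)
open Cfsg.Agent.Char

variable {F : Type*} [Field F] [Fintype F] [DecidableEq F]

local notation "M2" => Matrix (Fin 2) (Fin 2) F
local notation "S2" => Matrix.SpecialLinearGroup (Fin 2) F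
local notation "G2" => GL (Fin 2) F

theorem odd_half (h : Odd (Fintype.card F)) :
    2 * (((Fintype.card F + 1) / 2 : ℕ) : ℂ) = (Fintype.card F : ℂ) + 1 ∧
      2 * (((Fintype.card F - 1) / 2 : ℕ) : ℂ) = (Fintype.card F : ℂ) - 1 := by
  obtain ⟨k, hk⟩ := h
  rw [hk, show (2 * k + 1 + 1) / 2 = k + 1 by omega, show (2 * k + 1 - 1) / 2 = k by omega]
  push_cast
  constructor <;> ring

theorem ringChar_ne_two_of_odd (h : Odd (Fintype.card F)) : ringChar F ≠ 2 := fun hc => by
  have := FiniteField.even_card_iff_char_two.mp hc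
  have := Nat.odd_iff.mp h
  omega

theorem card_sq_one_odd (hc : ringChar F ≠ 2) : Nat.card {z : F // z * z = 1} = 2 := by
  obtain ⟨R, -, -, -, hZ, -, h2⟩ := exists_rep (F := F)
  rw [← hZ, h2 hc]

theorem card_sq_one_even (hc : ringChar F = 2) : Nat.card {z : F // z * z = 1} = 1 := by
  obtain ⟨R, -, -, -, hZ, h1, -⟩ := exists_rep (F := F)
  rw [← hZ, h1 hc]

/-- A split element is conjugate to every element in its coset of the radical. -/
theorem cuspS_split {χ : S2 → ℂ} (hχ : Cfsg.IsClassFunction S2 χ) (hc : IsCuspS χ) {g : S2}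
    (h01 : (g : M2) 0 1 = 0) (h10 : (g : M2) 1 0 = 0) (hsq : (g : M2) 0 0 ^ 2 ≠ 1) : χ g = 0 := by
  have hd := detS g
  rw [Matrix.det_fin_two, h10, mul_zero, sub_zero] at hd
  have hne : (g : M2) 0 0 ≠ (g : M2) 1 1 := fun e => hsq (by rw [pow_two]; nth_rw 2 [e]; exact hd)
  have ht : (g : M2).trace * (g : M2).trace ≠ 4 := fun e => by
    rw [Matrix.trace_fin_two] at e
    have h0 : ((g : M2) 0 0 - (g : M2) 1 1) * ((g : M2) 0 0 - (g : M2) 1 1) = 0 := by
      linear_combination e - 4 * hd
    exact hne (sub_eq_zero.mp (mul_self_eq_zero.mp h0))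
  let a : Fˣ := Units.mk0 _ (left_ne_zero_of_mul_eq_one hd)
  have hb : bS a 0 = g := Subtype.ext (by
    rw [bS_coe]
    apply coord <;> simp [a, h01, h10]
    exact inv_eq_of_mul_eq_one_right hd)
  have e : ∀ x : F, χ (bS a x) = χ g := fun x => by
    rw [← hb] at ht ⊢
    refine IsClassFunction.apply_isConj hχ (isConj_of_trace ?_ ?_ ?_ ?_)
    · refine nonscalar_iff.mpr (Or.inr (Or.inr ?_))
      have := hne; rw [← hb] at this
      simpa [bS_coe] using this
    · refine nonscalar_iff.mpr (Or.inr (Or.inr ?_))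
      have := hne; rw [← hb] at this
      simpa [bS_coe] using this
    · simp [bS_coe, Matrix.trace_fin_two]
    · simpa [bS_coe, Matrix.trace_fin_two] using ht
  have h := hc a
  simp only [SS, e, Finset.sum_const, Finset.card_univ, nsmul_eq_mul] at h
  exact (mul_eq_zero.mp h).resolve_left card_ne_zero_C

/-- Twisting fixes the classes away from central times unipotent elements. -/
theorem conjS_eq_of_regular {χ : S2 → ℂ} (hχ : Cfsg.IsClassFunction S2 χ) {g : S2}
    (hg : Nonscalar (g : M2)) (ht : (g : M2).trace * (g : M2).trace ≠ 4) (x : G2) :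
    χ (conjS x g) = χ g := by
  have hc : IsConj (SpecialLinearGroup.toGL (conjS x g)) (SpecialLinearGroup.toGL g) :=
    (isConj_iff.mpr ⟨x, (toGL_conjS x g).symm⟩).symm
  have e := trace_eq_of_isConj hc
  have e2 := nonscalar_of_isConj hc.symm (by rwa [toGL_coe])
  rw [toGL_coe, toGL_coe] at e
  rw [toGL_coe] at e2
  exact IsClassFunction.apply_isConj hχ (isConj_of_trace e2 hg e (by rw [e]; exact ht))

theorem elliptic_regular {g : S2} (h : eig (g : M2) = ∅) (hc : ringChar F ≠ 2) :
    Nonscalar (g : M2) ∧ (g : M2).trace * (g : M2).trace ≠ 4 :=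
  ⟨nonscalar_of_eig_empty h, trace_sq_ne_of_eig_empty h (by
    rcases two_cases (F := F) with ⟨h2, -⟩ | ⟨-, h2⟩
    · exact absurd h2 hc
    · exact h2)⟩

theorem card_centralizer_ellS {g : S2} (h : eig (g : M2) = ∅) (hc : ringChar F ≠ 2) :
    Nat.card (Subgroup.centralizer ({g} : Set S2)) = Fintype.card F + 1 := by
  obtain ⟨hns, ht⟩ := elliptic_regular h hc
  have e := card_centralizerS hns ht
  rw [card_centralizer_elliptic (g := SpecialLinearGroup.toGL g) h] at e
  have hq : 2 ≤ Fintype.card F := Fintype.one_lt_card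
  have : Fintype.card F ^ 2 - 1 = (Fintype.card F + 1) * (Fintype.card F - 1) := by
    simpa using Nat.sq_sub_sq (Fintype.card F) 1
  rw [this] at e
  exact Nat.eq_of_mul_eq_mul_right (by omega) e

/-- The values of the halves of the reducible induced character at elliptic elements. -/
theorem half_elliptic {χ : S2 → ℂ} (hχ : Cfsg.IsIrrCharacter S2 χ) (h : IsHalf χ) {g : S2}
    (hg : eig (g : M2) = ∅) (hc : ringChar F ≠ 2) : χ g = 0 := by
  obtain ⟨α, a, b, c⟩ := h
  obtain ⟨e, he, -⟩ := exists_covers (F := F)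
  obtain ⟨hsum, -⟩ := (half_props hχ a b c).2.2 e he
  obtain ⟨hns, ht⟩ := elliptic_regular hg hc
  have h2 := congrFun hsum g
  rw [RS_apply, psFun_elliptic _ _ hg, Pi.add_apply] at h2
  rw [show tw e χ g = χ g from conjS_eq_of_regular
    (IsCharacter.isClassFunction (IsIrrCharacter.isCharacter hχ)) hns ht _] at h2
  linear_combination -h2 / 2

theorem uS_one_eq {u : S2} (hu : (u : M2) = !![1, 1; 0, 1]) : u = uS 1 :=
  Subtype.ext (by rw [uS_coe]; exact hu)

end Cfsg.Agent.GL2
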