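import Cfsg.Agent.Lib.GL2.Torus
import Mathlib.GroupTheory.CommutingProbability
import Mathlib.GroupTheory.Sylow

/-!
# Normalizers of tori in the special linear group of degree two
-/

set_option autoImplicit false
set_option linter.unusedSectionVars false
set_option linter.style.haveILetI false

open Matrix
open scoped MatrixGroups

namespace Cfsg.Agent.GL2

open Cfsg.Agent.Classical.SL2 (coord exists_affine)

/-- Class number of a group with an abelian subgroup of index two inverted by the outside. -/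
theorem card_conjClasses_inverting {G : Type*} [Group G] [Finite G] (A : Subgroup G) (z : G)
    (hcard : Nat.card G = 2 * Nat.card A) (hcomm : ∀ a ∈ A, ∀ b ∈ A, a * b = b * a) (hz : z ∈ A)
    (hz1 : z ≠ 1) (hz2 : z * z = 1) (hinv : ∀ a ∈ A, a * a = 1 → a = 1 ∨ a = z)
    (hconj : ∀ x, x ∉ A → ∀ a ∈ A, x * a * x⁻¹ = a⁻¹) (hsq : ∀ x, x ∉ A → x * x = z) :
    2 * Nat.card (ConjClasses G) = Nat.card A + 6 := by
  classical
  haveI := Fintype.ofFinite G
  have hidx : A.index = 2 := by
    have := A.card_mul_index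
    rw [hcard, mul_comm 2] at this
    exact Nat.eq_of_mul_eq_mul_left Nat.card_pos this
  have hzinv : z⁻¹ = z := inv_eq_of_mul_eq_one_right hz2
  have hfix : ∀ x, x ∉ A → ∀ a ∈ A, (x * a = a * x ↔ a = 1 ∨ a = z) := by
    intro x hx a ha
    have hc := hconj x hx a ha
    rw [mul_inv_eq_iff_eq_mul] at hc
    constructor
    · intro h
      rw [hc] at h
      have h' : a⁻¹ = a := mul_right_cancel h
      exact hinv a ha (by nth_rw 1 [← h']; exact inv_mul_cancel a)
    · intro h
      rw [hc]
      rcases h with rfl | rfl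
      · rw [inv_one]
      · rw [hzinv]
  have hc1 : ∀ x : G, x ∈ A → (x = 1 ∨ x = z) →
      Fintype.card {y // Commute x y} = 2 * Nat.card A := by
    intro x hx h
    rw [← hcard, Nat.card_eq_fintype_card]
    refine Fintype.card_congr (Equiv.subtypeUnivEquiv fun y => ?_)
    by_cases hy : y ∈ A
    · exact hcomm x hx y hy
    · exact ((hfix y hy x hx).mpr h).symm
  have hc2 : ∀ x : G, x ∈ A → ¬ (x = 1 ∨ x = z) →
      Fintype.card {y // Commute x y} = Nat.card A := by
    intro x hx h
    rw [← Nat.card_eq_fintype_card]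
    refine Nat.card_congr (Equiv.subtypeEquivRight fun y => ⟨fun hy => ?_, fun hy => hcomm x hx y hy⟩)
    by_contra hyA
    exact h ((hfix y hyA x hx).mp hy.symm.eq)
  have hc3 : ∀ x : G, x ∉ A → Fintype.card {y // Commute x y} = 4 := by
    intro x hx
    have hx1 : ∀ a ∈ A, x * a ∉ A := fun a ha h => hx ((A.mul_mem_cancel_right ha).mp h)
    rw [Fintype.card_of_subtype ({1, z, x, x * z} : Finset G) fun y => ?_]
    · have h1 : x ≠ 1 := fun h => hx (h ▸ A.one_mem)
      have h2 : x ≠ z := fun h => hx (h ▸ hz)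
      have h3 : x * z ≠ 1 := fun h => hx1 z hz (h ▸ A.one_mem)
      have h4 : x * z ≠ z := fun h => hx1 z hz (by rw [h]; exact hz)
      have h5 : x * z ≠ x := fun h => hz1 (mul_eq_left.mp h)
      simp [hz1.symm, h1.symm, h2.symm, h3.symm, h4.symm, h5.symm]
    · simp only [Finset.mem_insert, Finset.mem_singleton]
      constructor
      · rintro (h | h | h | h) <;> subst y
        · exact Commute.one_right x
        · exact (hfix x hx z hz).mpr (Or.inr rfl)
        · exact Commute.refl x
        · exact (Commute.refl x).mul_right ((hfix x hx z hz).mpr (Or.inr rfl))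
      · intro hy
        by_cases hyA : y ∈ A
        · rcases (hfix x hx y hyA).mp hy.eq with h | h
          · exact Or.inl h
          · exact Or.inr (Or.inl h)
        · have ha : x⁻¹ * y ∈ A :=
            (Subgroup.mul_mem_iff_of_index_two hidx).mpr
              ⟨fun h => absurd (A.inv_mem_iff.mp h) hx, fun h => absurd h hyA⟩
          have hca : Commute x (x⁻¹ * y) := (Commute.refl x).inv_right.mul_right hy
          rcases (hfix x hx _ ha).mp hca.eq with h | h
          · exact Or.inr (Or.inr (Or.inl (eq_of_inv_mul_eq_one h).symm))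
          · exact Or.inr (Or.inr (Or.inr (inv_mul_eq_iff_eq_mul.mp h)))
  have key := card_comm_eq_card_conjClasses_mul_card G
  rw [Nat.card_congr (Equiv.subtypeProdEquivSigmaSubtype fun a b : G => Commute a b),
    Nat.card_eq_fintype_card, Fintype.card_sigma,
    ← Finset.sum_filter_add_sum_filter_not Finset.univ (fun x => x ∈ A),
    ← Finset.sum_filter_add_sum_filter_not (Finset.univ.filter fun x => x ∈ A)
      (fun x => x = 1 ∨ x = z)] at key
  rw [Finset.sum_congr rfl (fun x hx => hc1 x (Finset.mem_filter.mp (Finset.mem_filter.mp hx).1).2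
      (Finset.mem_filter.mp hx).2),
    Finset.sum_congr rfl (fun x hx => hc2 x (Finset.mem_filter.mp (Finset.mem_filter.mp hx).1).2
      (Finset.mem_filter.mp hx).2),
    Finset.sum_congr rfl (fun x hx => hc3 x (Finset.mem_filter.mp hx).2),
    Finset.sum_const, Finset.sum_const, Finset.sum_const] at key
  have e1 : ((Finset.univ.filter fun x => x ∈ A).filter fun x => x = 1 ∨ x = z).card = 2 := by
    rw [← Finset.card_pair hz1.symm]
    congr 1
    ext x
    simp only [Finset.mem_filter, Finset.mem_univ, true_and, Finset.mem_insert, Finset.mem_singleton]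
    exact ⟨fun h => h.2, fun h => ⟨h.elim (fun e => e ▸ A.one_mem) (fun e => e ▸ hz), h⟩⟩
  have e2 := Finset.card_filter_add_card_filter_not (s := Finset.univ.filter fun x => x ∈ A)
    (fun x => x = 1 ∨ x = z)
  have e3 := Finset.card_filter_add_card_filter_not (s := (Finset.univ : Finset G)) (fun x => x ∈ A)
  have e4 : (Finset.univ.filter fun x => x ∈ A).card = Nat.card A := by
    rw [Nat.card_eq_fintype_card, Fintype.card_subtype]
  rw [Finset.card_univ, ← Nat.card_eq_fintype_card (α := G), hcard] at e3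
  simp only [smul_eq_mul] at key
  rw [e1, hcard] at key
  rw [e1, e4] at e2
  rw [e4] at e3
  generalize hr : ((Finset.univ.filter fun x => x ∈ A).filter fun x => ¬(x = 1 ∨ x = z)).card = r
    at key e2
  generalize hs : (Finset.univ.filter fun x => ¬x ∈ A).card = s at key e3
  have hs' : s = Nat.card A := by omega
  subst hs'
  refine Nat.eq_of_mul_eq_mul_right (Nat.card_pos (α := A)) ?_
  nlinarith

variable {F : Type*} [Field F] [Fintype F] [DecidableEq F]

local notation "M2" => Matrix (Fin 2) (Fin 2) F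
local notation "S2" => Matrix.SpecialLinearGroup (Fin 2) F

theorem two_ne_zero_of_odd (hodd : ringChar F ≠ 2) : (2 : F) ≠ 0 := by
  rcases two_cases (F := F) with ⟨h, -⟩ | ⟨-, h⟩
  · exact absurd h hodd
  · exact h

theorem scalar_of_sq_one (hodd : ringChar F ≠ 2) {x : S2} (h : x * x = 1) :
    ¬ Nonscalar (x : M2) := by
  intro hns
  have h2 := two_ne_zero_of_odd hodd
  have e := congrArg (fun s : S2 => (s : M2)) (inv_eq_of_mul_eq_one_right h)
  rw [show ((x⁻¹ : S2) : M2) = (x : M2).adjugate from rfl, Matrix.adjugate_fin_two] at e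
  have e00 := congrFun (congrFun e 0) 0
  have e01 := congrFun (congrFun e 0) 1
  have e10 := congrFun (congrFun e 1) 0
  simp at e00 e01 e10
  rcases nonscalar_iff.mp hns with h' | h' | h'
  · exact h' ((mul_eq_zero.mp (show (2 : F) * (x : M2) 0 1 = 0 by linear_combination -e01)).resolve_left h2)
  · exact h' ((mul_eq_zero.mp (show (2 : F) * (x : M2) 1 0 = 0 by linear_combination -e10)).resolve_left h2)
  · exact h' e00.symm

theorem sq_one_cases (hodd : ringChar F ≠ 2) {x : S2} (h : x * x = 1) : x = 1 ∨ x = z1 :=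
  scalar_cases (scalar_of_sq_one hodd h)

section Regular

variable {g : Matrix.SpecialLinearGroup (Fin 2) F}

theorem centralizer_comm (hns : Nonscalar (g : M2)) {a b : S2}
    (ha : a ∈ Subgroup.centralizer ({g} : Set S2)) (hb : b ∈ Subgroup.centralizer ({g} : Set S2)) :
    a * b = b * a := by
  rw [Subgroup.mem_centralizer_singleton_iff] at ha hb
  obtain ⟨x, y, e⟩ := exists_affine hns
    (show (g : M2) * (a : M2) = (a : M2) * (g : M2) by rw [← coe_mulS, ← ha, coe_mulS])
  refine Subtype.ext ?_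
  have hg : (g : M2) * (b : M2) = (b : M2) * (g : M2) := by rw [← coe_mulS, ← hb, coe_mulS]
  rw [coe_mulS, coe_mulS, e]
  simp [add_mul, mul_add, hg]

theorem centralizer_eq_of_mem (hns : Nonscalar (g : M2)) {c : S2}
    (hc : c ∈ Subgroup.centralizer ({g} : Set S2)) (hcn : Nonscalar (c : M2)) :
    Subgroup.centralizer ({c} : Set S2) = Subgroup.centralizer ({g} : Set S2) := by
  have hgc : g ∈ Subgroup.centralizer ({c} : Set S2) := by
    rw [Subgroup.mem_centralizer_singleton_iff] at hc ⊢
    exact hc.symm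
  refine le_antisymm (fun x hx => ?_) (fun x hx => ?_)
  · exact Subgroup.mem_centralizer_singleton_iff.mpr (centralizer_comm hcn hx hgc)
  · exact Subgroup.mem_centralizer_singleton_iff.mpr (centralizer_comm hns hx hc)

/-- An element sending a regular element to its inverse inverts the whole centralizer. -/
theorem inverts_all (hns : Nonscalar (g : M2)) {x : S2} (hx : x * g * x⁻¹ = g⁻¹) {c : S2}
    (hc : c ∈ Subgroup.centralizer ({g} : Set S2)) : x * c * x⁻¹ = c⁻¹ := by
  rw [Subgroup.mem_centralizer_singleton_iff] at hc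
  obtain ⟨a, b, e⟩ := exists_affine hns
    (show (g : M2) * (c : M2) = (c : M2) * (g : M2) by rw [← coe_mulS, ← hc, coe_mulS])
  rw [mul_inv_eq_iff_eq_mul] at hx ⊢
  have hxm : (x : M2) * (g : M2) = (g : M2).adjugate * (x : M2) := by
    rw [← coe_mulS, hx, coe_mulS]; rfl
  refine Subtype.ext ?_
  show (x : M2) * (c : M2) = (c : M2).adjugate * (x : M2)
  have hadj : (c : M2).adjugate = a • (1 : M2) + b • (g : M2).adjugate := by
    rw [e, Matrix.adjugate_fin_two, Matrix.adjugate_fin_two]
    apply coord <;> simp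
  rw [hadj, e]
  simp [mul_add, add_mul, hxm]

variable (hodd : ringChar F ≠ 2)

include hodd in
/-- The normalizer of the centralizer of a regular element. -/
theorem normalizer_facts (hns : Nonscalar (g : M2)) (ht : (g : M2).trace * (g : M2).trace ≠ 4)
    (hex : ∃ x : S2, x * g * x⁻¹ = g⁻¹) :
    let C := Subgroup.centralizer ({g} : Set S2)
    let N := Subgroup.normalizer (C : Set S2)
    Nat.card N = 2 * Nat.card C ∧
      2 * Nat.card (ConjClasses N) = Nat.card C + 6 ∧
      (∀ x ∈ N, x ∉ C → x * x = z1) ∧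
      (∀ x ∈ N, x ∉ C → ∀ c ∈ C, x * c * x⁻¹ = c⁻¹) := by
  intro C N
  have hgC : g ∈ C := Subgroup.mem_centralizer_singleton_iff.mpr rfl
  have h2 := two_ne_zero_of_odd hodd
  have hnot : g⁻¹ ≠ g := fun h =>
    scalar_of_sq_one hodd (by nth_rw 1 [← h]; exact inv_mul_cancel g) hns
  have hinvx : ∀ x ∈ N, x ∉ C → x * g * x⁻¹ = g⁻¹ := by
    intro x hx hxC
    have hm : x * g * x⁻¹ ∈ C := (Subgroup.mem_normalizer_iff.mp hx g).mp hgC
    have hm' := Subgroup.mem_centralizer_singleton_iff.mp hm
    rcases eq_or_eq_inv hns ht h2 hm'.symm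
      (trace_isConjS (isConj_iff.mpr ⟨x, rfl⟩)).symm with h | h
    · exact absurd (Subgroup.mem_centralizer_singleton_iff.mpr (mul_inv_eq_iff_eq_mul.mp h)) hxC
    · exact h
  have hall : ∀ x ∈ N, x ∉ C → ∀ c ∈ C, x * c * x⁻¹ = c⁻¹ := fun x hx hxC c hc =>
    inverts_all hns (hinvx x hx hxC) hc
  have hsq : ∀ x ∈ N, x ∉ C → x * x = z1 := by
    intro x hx hxC
    have h1 := hinvx x hx hxC
    have hxx : x * x ∈ C := by
      refine Subgroup.mem_centralizer_singleton_iff.mpr ?_
      have h3 : x * g⁻¹ * x⁻¹ = g := by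
        rw [hall x hx hxC g⁻¹ (inv_mem hgC), inv_inv]
      calc x * x * g = x * (x * g * x⁻¹) * x := by group
        _ = x * g⁻¹ * x⁻¹ * (x * x) := by rw [h1]; group
        _ = g * (x * x) := by rw [h3]
    have h2' := hall x hx hxC _ hxx
    rw [show x * (x * x) * x⁻¹ = x * x by group] at h2'
    rcases sq_one_cases hodd (mul_eq_one_iff_eq_inv.mpr h2') with h | h
    · exfalso
      apply hxC
      rcases sq_one_cases hodd h with e | e <;> subst e
      · exact one_mem _
      · exact Subgroup.center_le_centralizer _ z1_mem_center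
    · exact h
  obtain ⟨x₀, hx₀⟩ := hex
  have hx₀C : x₀ ∉ C := fun h => by
    rw [Subgroup.mem_centralizer_singleton_iff] at h
    rw [h, mul_inv_cancel_right] at hx₀
    exact hnot hx₀.symm
  have hx₀N : x₀ ∈ N := by
    refine Subgroup.mem_normalizer_iff.mpr fun c => ⟨fun hc => ?_, fun hc => ?_⟩
    · rw [inverts_all hns hx₀ hc]; exact inv_mem hc
    · have h : x₀ * (x₀ * c * x₀⁻¹) * x₀⁻¹ = (x₀ * c * x₀⁻¹)⁻¹ := inverts_all hns hx₀ hc
      have : c = (x₀ * c * x₀⁻¹)⁻¹ := by
        have h3 : x₀ * c * x₀⁻¹ = (x₀ * (x₀ * c * x₀⁻¹) * x₀⁻¹)⁻¹ := by rw [h, inv_inv]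
        rw [← h]
        have e := congrArg (fun w => x₀⁻¹ * w * x₀) h3
        calc c = x₀⁻¹ * (x₀ * c * x₀⁻¹) * x₀ := by group
          _ = (x₀ * c * x₀⁻¹)⁻¹ := by rw [e]; group
          _ = _ := h.symm
      rw [this]; exact inv_mem hc
  have hCN : C ≤ N := Subgroup.le_normalizer
  have hidx : (C.subgroupOf N).index = 2 := by
    rw [Subgroup.index_eq_two_iff]
    refine ⟨⟨x₀, hx₀N⟩, fun b => ?_⟩
    simp only [Subgroup.mem_subgroupOf, Subgroup.coe_mul]
    by_cases hb : (b : S2) ∈ C
    · exact Or.inr ⟨hb, fun h => hx₀C ((Subgroup.mul_mem_cancel_left C hb).mp h)⟩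
    · refine Or.inl ⟨Subgroup.mem_centralizer_singleton_iff.mpr ?_, hb⟩
      have h1 := hinvx b b.2 hb
      have h1' : (b : S2) * g⁻¹ * (b : S2)⁻¹ = g := by
        rw [hall b b.2 hb g⁻¹ (inv_mem hgC), inv_inv]
      calc (b : S2) * x₀ * g = (b : S2) * (x₀ * g * x₀⁻¹) * x₀ := by group
        _ = (b : S2) * g⁻¹ * (b : S2)⁻¹ * ((b : S2) * x₀) := by rw [hx₀]; group
        _ = g * ((b : S2) * x₀) := by rw [h1']
  have hcardA : Nat.card (C.subgroupOf N) = Nat.card C :=
    Nat.card_congr (Subgroup.subgroupOfEquivOfLe hCN).toEquiv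
  have hcardN : Nat.card N = 2 * Nat.card C := by
    rw [← (C.subgroupOf N).card_mul_index, hidx, hcardA, mul_comm]
  have hzC : (z1 : S2) ∈ C := Subgroup.center_le_centralizer _ z1_mem_center
  refine ⟨hcardN, ?_, hsq, hall⟩
  rw [← hcardA]
  refine card_conjClasses_inverting (C.subgroupOf N) ⟨z1, hCN hzC⟩ (by rw [hcardN, hcardA]) ?_
    hzC (fun h => z1_ne_one hodd (congrArg Subtype.val h)) (Subtype.ext z1_sq') ?_ ?_ ?_
  · exact fun a ha b hb => Subtype.ext (centralizer_comm hns ha hb)
  · intro a _ h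
    rcases sq_one_cases hodd (congrArg Subtype.val h) with e | e
    · exact Or.inl (Subtype.ext e)
    · exact Or.inr (Subtype.ext e)
  · exact fun x hx a ha => Subtype.ext (hall x x.2 hx a ha)
  · exact fun x hx => Subtype.ext (hsq x x.2 hx)
where
  z1_sq' : (z1 : S2) * z1 = 1 := by
    refine Subtype.ext ?_
    rw [coe_mulS, z1_coe, coe_oneS]; simp

end Regular

/-- An element without eigenvalues. -/
theorem exists_elliptic (hodd : ringChar F ≠ 2) : ∃ g : S2, eig (g : M2) = ∅ := by
  obtain ⟨e, he⟩ := FiniteField.exists_nonsquare hodd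
  have h1 : 1 - e ≠ 0 := fun h => he (by rw [← sub_eq_zero.mp h]; exact IsSquare.one)
  have h2 := two_ne_zero_of_odd hodd
  let g : S2 := ⟨!![(1 + e) / (1 - e), e * (2 / (1 - e)); 2 / (1 - e), (1 + e) / (1 - e)], by
    rw [Matrix.det_fin_two_of]; field_simp; ring⟩
  refine ⟨g, Set.eq_empty_iff_forall_notMem.mpr fun l hl => ?_⟩
  change l * l - (g : M2).trace * l + (g : M2).det = 0 at hl
  rw [detS, show (g : M2).trace = (1 + e) / (1 - e) + (1 + e) / (1 - e) by
    simp [g, Matrix.trace_fin_two]] at hl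
  refine he ⟨(l * (1 - e) - (1 + e)) / 2, ?_⟩
  field_simp at hl ⊢
  linear_combination (e - 1) * hl

/-- The discriminant at an element without eigenvalues is not a square. -/
theorem disc_nonsquare (hodd : ringChar F ≠ 2) {g : S2} (he : eig (g : M2) = ∅) :
    ¬ IsSquare ((g : M2).trace * (g : M2).trace - 4) := by
  rintro ⟨r, hr⟩
  have h2 := two_ne_zero_of_odd hodd
  have : ((g : M2).trace + r) / 2 ∈ eig (g : M2) := by
    show _ * _ - _ * _ + _ = 0
    rw [detS]
    field_simp
    linear_combination -hr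
  rw [he] at this
  exact this

theorem exists_conj_mem (hodd : ringChar F ≠ 2) {g h : S2} (hg : eig (g : M2) = ∅)
    (hh : eig (h : M2) = ∅) :
    ∃ x : S2, x * h * x⁻¹ ∈ Subgroup.centralizer ({g} : Set S2) := by
  have h2 := two_ne_zero_of_odd hodd
  obtain ⟨hhn, hht⟩ := elliptic_regular hh hodd
  set t := (g : M2).trace with ht
  set t' := (h : M2).trace with ht'
  have ht0 : t * t - 4 ≠ 0 := sub_ne_zero.mpr (elliptic_regular hg hodd).2
  have ht0' : t' * t' - 4 ≠ 0 := sub_ne_zero.mpr hht
  obtain ⟨r, hr⟩ : IsSquare ((t * t - 4) * (t' * t' - 4)) :=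
    (quadraticChar_one_iff_isSquare (mul_ne_zero ht0 ht0')).mp (by
      rw [map_mul, quadraticChar_neg_one_iff_not_isSquare.mpr (disc_nonsquare hodd hg),
        quadraticChar_neg_one_iff_not_isSquare.mpr (disc_nonsquare hodd hh)]
      norm_num)
  set b := r / (t * t - 4) with hb
  set a := (t' - b * t) / 2 with ha
  have hdet : (a • (1 : M2) + b • (g : M2)).det = 1 := by
    have hb' : b * (t * t - 4) = r := by rw [hb]; exact div_mul_cancel₀ r ht0
    have hbb : b * b * (t * t - 4) = t' * t' - 4 := by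
      apply mul_left_cancel₀ ht0
      linear_combination (b * (t * t - 4) + r) * hb' - hr
    rw [det_affine, detS, one_mul, ← ht, ha]
    field_simp
    linear_combination -hbb
  let c : S2 := ⟨_, hdet⟩
  have hct : (c : M2).trace = t' := by
    show (a • (1 : M2) + b • (g : M2)).trace = t'
    simp [Matrix.trace_fin_two, ha]
    rw [ht, Matrix.trace_fin_two]
    field_simp
    ring
  have hcn : Nonscalar (c : M2) := by
    rintro ⟨u, hu⟩
    have hd := detS c
    rw [hu] at hd hct
    simp [Matrix.det_fin_two, Matrix.trace_fin_two] at hd hct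
    exact hht (by rw [← hct]; rcases hd with rfl | rfl <;> ring)
  obtain ⟨x, hx⟩ := isConj_iff.mp (isConj_of_trace hhn hcn hct.symm hht)
  refine ⟨x, Subgroup.mem_centralizer_singleton_iff.mpr ?_⟩
  rw [hx]
  refine Subtype.ext ?_
  rw [coe_mulS, coe_mulS]
  show (a • (1 : M2) + b • (g : M2)) * (g : M2) = (g : M2) * (a • (1 : M2) + b • (g : M2))
  simp [add_mul, mul_add]

end Cfsg.Agent.GL2
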