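import Cfsg.Prelude.Def_DegreeGraph
import Cfsg.Agent.Lib.GL2.Cusp
import Cfsg.Agent.Lib.GL2.TorusN
import Cfsg.Agent.Lib.GL2.SLValues
import Cfsg.Agent.Lib.Block.CentralQuotientBlock
import Cfsg.Agent.Lib.Block.Regular

/-!
# Character degrees of the special and projective special linear groups of degree two
-/

set_option autoImplicit false
set_option linter.unusedSectionVars false
set_option linter.style.haveILetI false

open Matrix Cfsg
open scoped MatrixGroups

namespace Cfsg.Agent.GL2.Degrees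

open Cfsg.Agent.Char
open Cfsg.Agent.Block (charDegree_cast)

universe u v

section Transfer

variable {A : Type u} {B : Type v} [Group A] [Group B] [Finite A]

theorem charDegrees_subset_of_surjective (f : A →* B) (hf : Function.Surjective f) :
    charDegrees B ⊆ charDegrees A := by
  rintro d ⟨χ, rfl⟩
  exact ⟨⟨_, Cfsg.Agent.Block.isIrrCharacter_comp_surjective f hf χ.2⟩, by
    simp [charDegree, map_one]⟩

theorem charDegrees_congr [Finite B] (e : A ≃* B) : charDegrees A = charDegrees B :=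
  Set.Subset.antisymm (charDegrees_subset_of_surjective e.symm.toMonoidHom e.symm.surjective)
    (charDegrees_subset_of_surjective e.toMonoidHom e.surjective)

end Transfer

variable {F : Type u} [Field F] [Fintype F] [DecidableEq F]

local notation "S2" => Matrix.SpecialLinearGroup (Fin 2) F
local notation "P2" => Matrix.ProjectiveSpecialLinearGroup (Fin 2) F

theorem cast_deg (χ : IrrCharacter S2) : (charDegree (χ : S2 → ℂ) : ℂ) = (χ : S2 → ℂ) 1 :=
  charDegree_cast (IsIrrCharacter.isCharacter χ.2)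

theorem degree_cases (χ : IrrCharacter S2) :
    charDegree (χ : S2 → ℂ) = 1 ∨
      (charDegree (χ : S2 → ℂ) = Fintype.card F ∧ (χ : S2 → ℂ) = StS) ∨
      charDegree (χ : S2 → ℂ) = Fintype.card F + 1 ∨
      charDegree (χ : S2 → ℂ) + 1 = Fintype.card F ∨
      2 * charDegree (χ : S2 → ℂ) = Fintype.card F + 1 ∨
      2 * charDegree (χ : S2 → ℂ) + 1 = Fintype.card F := by
  have hc := cast_deg χ
  generalize charDegree (χ : S2 → ℂ) = d at hc ⊢
  rcases sl_cases χ.2 with h | h | h | h | h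
  · refine Or.inl ?_
    rw [h, Pi.one_apply] at hc
    exact_mod_cast hc
  · refine Or.inr (Or.inl ⟨?_, h⟩)
    rw [h, StS_one] at hc
    exact_mod_cast hc
  · refine Or.inr (Or.inr (Or.inl ?_))
    obtain ⟨α, -, h⟩ := h
    rw [h, RS_one_apply] at hc
    exact_mod_cast hc
  · refine Or.inr (Or.inr (Or.inr (Or.inr (Or.inl ?_))))
    obtain ⟨α, a, b, c⟩ := h
    have := (half_props χ.2 a b c).1
    rw [← hc] at this
    exact_mod_cast show (2 : ℂ) * d = Fintype.card F + 1 by linear_combination this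
  · rcases cusp_degree χ.2 h with h' | h'
    · refine Or.inr (Or.inr (Or.inr (Or.inl ?_)))
      have := h'.2
      rw [← hc] at this
      exact_mod_cast show (d : ℂ) + 1 = Fintype.card F by linear_combination this
    · refine Or.inr (Or.inr (Or.inr (Or.inr (Or.inr ?_))))
      have := h'.2
      rw [← hc] at this
      exact_mod_cast show (2 : ℂ) * d + 1 = Fintype.card F by linear_combination this

theorem center_cases {g : S2} (hg : g ∈ Subgroup.center S2) : g = 1 ∨ g = z1 :=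
  scalar_cases (scalar_of_mem_center hg)

theorem z1_eq_one (hc : ringChar F = 2) : (z1 : S2) = 1 := by
  haveI : CharP F 2 := ringChar.of_eq hc
  refine Subtype.ext ?_
  show ((z1 : S2) : Matrix (Fin 2) (Fin 2) F) = ((1 : S2) : Matrix (Fin 2) (Fin 2) F)
  rw [z1_coe, Matrix.SpecialLinearGroup.coe_one]
  exact Cfsg.Agent.Classical.SL2.coord (by simp [CharTwo.neg_eq]) (by simp) (by simp)
    (by simp [CharTwo.neg_eq])

/-- Descent of a character with trivial value at the central involution. -/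
theorem exists_descend (χ : IrrCharacter S2) (hz : (χ : S2 → ℂ) z1 = (χ : S2 → ℂ) 1) :
    ∃ φ : IrrCharacter P2, charDegree (φ : P2 → ℂ) = charDegree (χ : S2 → ℂ) ∧
      ∀ g, (φ : P2 → ℂ) (QuotientGroup.mk g) = (χ : S2 → ℂ) g := by
  obtain ⟨φ, hφ⟩ := Cfsg.Agent.Block.exists_factor_quotient (Subgroup.center S2) χ
    (fun g hg y => by
      rcases center_cases hg with rfl | rfl
      · rw [one_mul]
      · exact (IsCharacter.apply_mul_of_eq_one (IsIrrCharacter.isCharacter χ.2) hz y).1)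
  refine ⟨φ, ?_, hφ⟩
  show ⌊((φ : P2 → ℂ) 1).re⌋₊ = ⌊((χ : S2 → ℂ) 1).re⌋₊
  rw [← hφ 1]
  rfl

/-- Inflation from the projective group. -/
noncomputable def infl (φ : IrrCharacter P2) : IrrCharacter S2 :=
  ⟨_, Cfsg.Agent.Block.isIrrCharacter_comp_surjective (QuotientGroup.mk' (Subgroup.center S2))
    (QuotientGroup.mk'_surjective _) φ.2⟩

theorem charDegree_infl (φ : IrrCharacter P2) :
    charDegree (infl φ : S2 → ℂ) = charDegree (φ : P2 → ℂ) := by
  simp [infl, charDegree]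

theorem infl_injective : Function.Injective (infl : IrrCharacter P2 → IrrCharacter S2) := by
  intro a b h
  refine Subtype.ext (funext fun q => ?_)
  obtain ⟨g, rfl⟩ := QuotientGroup.mk'_surjective (Subgroup.center S2) q
  exact congrFun (congrArg Subtype.val h) g

theorem charDegrees_psl_subset : charDegrees P2 ⊆ charDegrees S2 :=
  charDegrees_subset_of_surjective (QuotientGroup.mk' (Subgroup.center S2))
    (QuotientGroup.mk'_surjective _)

theorem StS_z1 : (StS : S2 → ℂ) z1 = (StS : S2 → ℂ) 1 := by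
  rw [StS_one, StS_apply]
  have h : ((z1 : S2) : Matrix (Fin 2) (Fin 2) F) = -1 := z1_coe
  have h1 : (1 : MulChar F ℂ) (-1) = 1 := MulChar.one_apply isUnit_one.neg
  rw [h, psFun_scalar _ _ (by simp) (by simp) (by simp)]
  simp [h1]

theorem card_mem_psl : Fintype.card F ∈ charDegrees P2 := by
  obtain ⟨φ, hd, -⟩ := exists_descend (⟨StS, isIrr_StS⟩ : IrrCharacter S2) StS_z1
  refine ⟨φ, hd.trans ?_⟩
  have h := cast_deg (⟨StS, isIrr_StS⟩ : IrrCharacter S2)
  rw [show ((⟨StS, isIrr_StS⟩ : IrrCharacter S2) : S2 → ℂ) = StS from rfl, StS_one] at h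
  exact_mod_cast h

theorem RS_z1 (α : MulChar F ℂ) : RS α (z1 : S2) = ((Fintype.card F : ℂ) + 1) * α (-1) := by
  have h : ((z1 : S2) : Matrix (Fin 2) (Fin 2) F) = -1 := z1_coe
  have h1 : (1 : MulChar F ℂ) (-1) = 1 := MulChar.one_apply isUnit_one.neg
  rw [RS_apply, h, psFun_scalar _ _ (by simp) (by simp) (by simp)]
  simp [h1]

theorem exists_even_char (h : 4 ≤ Fintype.card F) (h5 : Fintype.card F ≠ 5) :
    ∃ α : MulChar F ℂ, α ^ 2 ≠ 1 ∧ α (-1) = 1 := by
  haveI : NeZero (Monoid.exponent Fˣ) := ⟨Monoid.exponent_ne_zero_of_finite⟩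
  obtain ⟨φ⟩ := MulChar.mulEquiv_units F ℂ
  obtain ⟨g, hg⟩ := IsCyclic.exists_generator (α := Fˣ)
  have ho : orderOf g + 1 = Fintype.card F := by
    rw [orderOf_eq_card_of_forall_mem_zpowers hg, Nat.card_units, Nat.card_eq_fintype_card]
    have := Fintype.card_pos (α := F)
    omega
  set β := φ.symm g with hβ
  refine ⟨β ^ 2, fun hh => ?_, ?_⟩
  · have h4 : g ^ 4 = 1 := by
      have := congrArg φ hh
      rwa [← pow_mul, map_pow, map_one, hβ, MulEquiv.apply_symm_apply] at this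
    have h4' := Nat.le_of_dvd (by norm_num) (orderOf_dvd_of_pow_eq_one h4)
    have hle : orderOf g = 3 := by
      have hd := orderOf_dvd_of_pow_eq_one h4
      omega
    have hd := orderOf_dvd_of_pow_eq_one h4
    rw [hle] at hd
    norm_num at hd
  · rw [MulChar.pow_apply' β two_ne_zero, ← map_pow, neg_one_sq, map_one]

theorem card_add_one_mem_psl (h : 4 ≤ Fintype.card F) (h5 : Fintype.card F ≠ 5) :
    Fintype.card F + 1 ∈ charDegrees P2 := by
  obtain ⟨α, hα, hα1⟩ := exists_even_char h h5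
  obtain ⟨φ, hd, -⟩ := exists_descend (⟨RS α, isIrr_RS hα⟩ : IrrCharacter S2) (by
    show RS α (z1 : S2) = RS α 1
    rw [RS_z1, RS_one_apply, hα1, mul_one])
  refine ⟨φ, hd.trans ?_⟩
  have h' := cast_deg (⟨RS α, isIrr_RS hα⟩ : IrrCharacter S2)
  rw [show ((⟨RS α, isIrr_RS hα⟩ : IrrCharacter S2) : S2 → ℂ) = RS α from rfl, RS_one_apply] at h'
  exact_mod_cast h'

theorem exists_full_even (h : 4 ≤ Fintype.card F) :
    ∃ χ : IrrCharacter S2, (χ : S2 → ℂ) z1 = (χ : S2 → ℂ) 1 ∧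
      charDegree (χ : S2 → ℂ) + 1 = Fintype.card F := by
  suffices H : ∃ χ : IrrCharacter S2, (χ : S2 → ℂ) z1 = (χ : S2 → ℂ) 1 ∧
      (χ : S2 → ℂ) 1 = (Fintype.card F : ℂ) - 1 by
    obtain ⟨χ, h1, h2⟩ := H
    refine ⟨χ, h1, ?_⟩
    rw [← cast_deg] at h2
    exact_mod_cast show (charDegree (χ : S2 → ℂ) : ℂ) + 1 = Fintype.card F by
      linear_combination h2
  by_cases hc : ringChar F = 2
  · have hcount := (sl_census (F := F)).2.2.1
    rw [card_sq_one_even hc] at hcount
    have hne : Nat.card {χ : Cfsg.IrrCharacter S2 // IsFull (χ : S2 → ℂ)} ≠ 0 := by omega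
    obtain ⟨⟨χ, hχ⟩⟩ := (Nat.card_ne_zero.mp hne).1
    exact ⟨χ, by rw [z1_eq_one hc], hχ.2⟩
  · obtain ⟨g, hg⟩ := exists_elliptic (F := F) hc
    set C := Subgroup.centralizer ({g} : Set S2) with hC
    haveI : IsCyclic C := isCyclic_centralizer hg
    have hcard : Nat.card C = Fintype.card F + 1 := card_centralizer_ellS hg hc
    obtain ⟨c, hc'⟩ := IsCyclic.exists_generator (α := C)
    have ho : orderOf c = Fintype.card F + 1 :=
      (orderOf_eq_card_of_forall_mem_zpowers hc').trans hcard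
    have hroot := Complex.isPrimitiveRoot_exp (Fintype.card F + 1) (by omega)
    have hζ := hroot.isUnit_unit (by omega)
    set ζ := (hroot.isUnit (by omega)).unit with hζdef
    let θ₀ : C →* ℂˣ := monoidHomOfForallMemZpowers hc' (g' := ζ) (by rw [ho, ← hζ.eq_orderOf])
    have hz : (z1 : S2) ∈ C := z1_mem_torus hc hcard
    set θ := θ₀ ^ 2 with hθdef
    have hθz : θ ⟨z1, hz⟩ = 1 := by
      rw [hθdef, MonoidHom.pow_apply, ← map_pow, pow_two,
        show (⟨z1, hz⟩ : C) * ⟨z1, hz⟩ = 1 from Subtype.ext z1_sq, map_one]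
    have hθ2 : θ ^ 2 ≠ 1 := by
      intro hh
      have h4 : ζ ^ 4 = 1 := by
        have := DFunLike.congr_fun hh c
        rwa [hθdef, ← pow_mul, MonoidHom.pow_apply, MonoidHom.one_apply,
          monoidHomOfForallMemZpowers_apply_gen] at this
      have := Nat.le_of_dvd (by norm_num) (hζ.dvd_of_pow_eq_one 4 h4)
      omega
    have hα : (1 : MulChar F ℂ) (-1) = (θ ⟨z1, hz⟩ : ℂ) := by
      rw [hθz, MulChar.one_apply isUnit_one.neg, Units.val_one]
    refine ⟨⟨_, isIrr_psi θ 1 hc hcard hz hα hθ2⟩, ?_, psi_one θ 1 hcard⟩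
    show psi C θ 1 z1 = psi C θ 1 1
    rw [psi_z1 θ 1 hcard hz hα, psi_one θ 1 hcard, hθz, Units.val_one, mul_one]

theorem card_sub_one_mem_psl (h : 4 ≤ Fintype.card F) :
    Fintype.card F - 1 ∈ charDegrees P2 := by
  obtain ⟨χ, hz, hd⟩ := exists_full_even h
  obtain ⟨φ, hφ, -⟩ := exists_descend χ hz
  exact ⟨φ, hφ.trans (by omega)⟩

theorem degree_dvd {d : ℕ} (hd : d ∈ charDegrees S2) :
    d = Fintype.card F ∨ d ∣ Fintype.card F + 1 ∨ d ∣ Fintype.card F - 1 := by
  obtain ⟨χ, rfl⟩ := hd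
  rcases degree_cases χ with h | h | h | h | h | h
  · exact Or.inr (Or.inl (by rw [h]; exact one_dvd _))
  · exact Or.inl h.1
  · exact Or.inr (Or.inl (h ▸ dvd_rfl))
  · exact Or.inr (Or.inr ⟨1, by omega⟩)
  · exact Or.inr (Or.inl ⟨2, by omega⟩)
  · exact Or.inr (Or.inr ⟨2, by omega⟩)

/-- The degree graph of either group. -/
theorem degree_graph {S : Type v} [Group S] [Finite S] (h : 4 ≤ Fintype.card F)
    (h5 : Fintype.card F ≠ 5) {t : ℕ} (ht : t.Prime) [CharP F t]
    (hS : Nonempty (S ≃* P2) ∨ Nonempty (S ≃* S2)) :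
    degreePrimes S = {r : ℕ | r.Prime ∧ r ∣ Fintype.card F * (Fintype.card F ^ 2 - 1)} ∧
      ∀ r s : ℕ, (degreeGraph S).Adj r s ↔
        (r ≠ s ∧ r.Prime ∧ s.Prime ∧ ((r ∣ Fintype.card F + 1 ∧ s ∣ Fintype.card F + 1) ∨
          (r ∣ Fintype.card F - 1 ∧ s ∣ Fintype.card F - 1))) := by
  haveI : Fact t.Prime := ⟨ht⟩
  set q := Fintype.card F with hq
  obtain ⟨⟨k, hk⟩, hk'⟩ : (∃ k : ℕ+, Nat.Prime t ∧ q = t ^ (k : ℕ)) ∧ True := by
    obtain ⟨k, hk⟩ := FiniteField.card F t
    exact ⟨⟨k, hk⟩, trivial⟩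
  have hsub : charDegrees S ⊆ charDegrees S2 ∧ charDegrees P2 ⊆ charDegrees S := by
    rcases hS with h' | h' <;> obtain ⟨e⟩ := h'
    · rw [charDegrees_congr e]; exact ⟨charDegrees_psl_subset, subset_rfl⟩
    · rw [charDegrees_congr e]; exact ⟨subset_rfl, charDegrees_psl_subset⟩
  have hmul : (q + 1) * (q - 1) = q ^ 2 - 1 := by
    rw [← Nat.sq_sub_sq, one_pow]
  constructor
  · ext r
    constructor
    · rintro ⟨hr, d, hd, hrd⟩
      refine ⟨hr, ?_⟩
      rw [← hmul]
      rcases degree_dvd (hsub.1 hd) with h' | h' | h'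
      · rw [h'] at hrd
        exact Dvd.dvd.mul_right hrd _
      · exact (hrd.trans h').trans (dvd_mul_of_dvd_right (dvd_mul_right _ _) _)
      · exact (hrd.trans h').trans (dvd_mul_of_dvd_right (dvd_mul_left _ _) _)
    · rintro ⟨hr, hrd⟩
      refine ⟨hr, ?_⟩
      rw [← hmul] at hrd
      rcases (Nat.Prime.dvd_mul hr).mp hrd with h' | h'
      · exact ⟨q, hsub.2 card_mem_psl, h'⟩
      rcases (Nat.Prime.dvd_mul hr).mp h' with h' | h'
      · exact ⟨q + 1, hsub.2 (card_add_one_mem_psl h h5), h'⟩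
      · exact ⟨q - 1, hsub.2 (card_sub_one_mem_psl h), h'⟩
  · intro r s
    constructor
    · rintro ⟨hne, hr, hs, d, hd, hrs⟩
      refine ⟨hne, hr, hs, ?_⟩
      have hr' := (dvd_mul_right r s).trans hrs
      have hs' := (dvd_mul_left s r).trans hrs
      rcases degree_dvd (hsub.1 hd) with h' | h' | h'
      · rw [h', ← hq, hk.2] at hr' hs'
        exact absurd (((Nat.prime_dvd_prime_iff_eq hr ht).mp (hr.dvd_of_dvd_pow hr')).trans
          ((Nat.prime_dvd_prime_iff_eq hs ht).mp (hs.dvd_of_dvd_pow hs')).symm) hne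
      · exact Or.inl ⟨hr'.trans h', hs'.trans h'⟩
      · exact Or.inr ⟨hr'.trans h', hs'.trans h'⟩
    · rintro ⟨hne, hr, hs, h'⟩
      have hco := (Nat.coprime_primes hr hs).mpr hne
      rcases h' with ⟨a, b⟩ | ⟨a, b⟩
      · exact ⟨hne, hr, hs, q + 1, hsub.2 (card_add_one_mem_psl h h5), hco.mul_dvd_of_dvd_of_dvd a b⟩
      · exact ⟨hne, hr, hs, q - 1, hsub.2 (card_sub_one_mem_psl h), hco.mul_dvd_of_dvd_of_dvd a b⟩

/-- The only projective character of degree divisible by the characteristic. -/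
theorem unique_singular (h : 4 ≤ Fintype.card F) {p : ℕ} (hp : p.Prime) [CharP F p] :
    Nat.card {χ : IrrCharacter P2 // p ∣ charDegree (χ : P2 → ℂ)} = 1 ∧
      ∀ χ : IrrCharacter P2, p ∣ charDegree (χ : P2 → ℂ) →
        charDegree (χ : P2 → ℂ) = Fintype.card F := by
  have hpq : p ∣ Fintype.card F := by
    haveI : Fact p.Prime := ⟨hp⟩
    obtain ⟨k, -, hk⟩ := FiniteField.card F p
    rw [hk]; exact dvd_pow_self _ k.ne_zero
  have key : ∀ χ : IrrCharacter P2, p ∣ charDegree (χ : P2 → ℂ) →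
      charDegree (χ : P2 → ℂ) = Fintype.card F ∧ (infl χ : S2 → ℂ) = StS := by
    intro χ hχ
    rw [← charDegree_infl] at hχ ⊢
    have h1 : ∀ m, p ∣ m → p ∣ m + 1 → False := fun m a b =>
      hp.not_dvd_one ((Nat.dvd_add_right a).mp b)
    rcases degree_cases (infl χ) with h' | h' | h' | h' | h' | h'
    · rw [h'] at hχ; exact absurd hχ hp.not_dvd_one
    · exact h'
    · exact (h1 _ hpq (h' ▸ hχ)).elim
    · exact (h1 _ hχ (h'.symm ▸ hpq)).elim
    · exact (h1 _ hpq (h' ▸ hχ.mul_left 2)).elim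
    · exact (h1 _ (hχ.mul_left 2) (h'.symm ▸ hpq)).elim
  refine ⟨?_, fun χ hχ => (key χ hχ).1⟩
  obtain ⟨φ, hφ⟩ := card_mem_psl (F := F)
  rw [Nat.card_eq_one_iff_unique]
  refine ⟨⟨fun a b => Subtype.ext (infl_injective (Subtype.ext ?_))⟩, ⟨⟨φ, hφ.symm ▸ hpq⟩⟩⟩
  rw [(key a.1 a.2).2, (key b.1 b.2).2]

end Cfsg.Agent.GL2.Degrees
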