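import Cfsg.Agent.Lib.GL2.PS
import Cfsg.Agent.Lib.Char.Orthogonality
import Cfsg.Agent.Lib.Char.Clifford
import Cfsg.Agent.Lib.Char.Generalized
import Cfsg.Agent.Lib.Char.Integral

/-!
# The irreducible characters of the general linear group of degree two
-/

set_option autoImplicit false
set_option linter.unusedSectionVars false

open Matrix
open scoped MatrixGroups ComplexConjugate

namespace Cfsg.Agent.GL2

open Cfsg.Agent.Classical.SL2 (coord card_GL2)
open Cfsg.Agent.Classical (card_units_eq)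

variable {F : Type*} [Field F] [Fintype F] [DecidableEq F]

local notation "M2" => Matrix (Fin 2) (Fin 2) F
local notation "G2" => GL (Fin 2) F

/-- A linear character factoring through the determinant. -/
noncomputable def linG (α : MulChar F ℂ) : G2 → ℂ := fun g => α (g : M2).det

/-- A twisted Steinberg character. -/
noncomputable def StT (α : MulChar F ℂ) : G2 → ℂ := RG α α - linG α

/-- The characters whose sums over all cosets of the unipotent radical vanish. -/
def IsCuspG (χ : G2 → ℂ) : Prop := ∀ a d, SG χ a d = 0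

theorem one_lt_q : 1 < (Fintype.card F : ℂ).re := by
  rw [Complex.natCast_re]; exact_mod_cast Fintype.one_lt_card

theorem card_ne_zero_C : (Fintype.card F : ℂ) ≠ 0 := Nat.cast_ne_zero.mpr Fintype.card_ne_zero

theorem isIrr_linG (α : MulChar F ℂ) : Cfsg.IsIrrCharacter G2 (linG α) :=
  Cfsg.Agent.Char.isIrrCharacter_monoidHom (α.toUnitHom.comp GeneralLinearGroup.det)

theorem SG_linG (α : MulChar F ℂ) (a d : Fˣ) :
    SG (linG α) a d = (Fintype.card F : ℂ) * (α a * α d) := by
  simp [SG, linG, bG_coe, Matrix.det_fin_two]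

theorem linG_injective : Function.Injective (linG : MulChar F ℂ → G2 → ℂ) := by
  intro α β h
  refine MulChar.ext fun a => ?_
  have := congrFun h (bG a 1 0)
  simpa [linG, bG_coe, Matrix.det_fin_two] using this

theorem inner_RG_linG (α β γ : MulChar F ℂ) [Decidable (α = γ)] [Decidable (β = γ)] :
    Cfsg.classInner (RG α β) (linG γ) = (if α = γ then 1 else 0) * (if β = γ then 1 else 0) := by
  rw [inner_RG_left α β (Cfsg.Agent.Char.IsCharacter.isClassFunction
    (Cfsg.Agent.Char.IsIrrCharacter.isCharacter (isIrr_linG γ)))]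
  simp only [SG_linG, map_mul, map_natCast]
  have e : ∀ a d : Fˣ, α a * β d * ((Fintype.card F : ℂ) * (conj (γ a) * conj (γ d))) =
      (Fintype.card F : ℂ) * ((α a * conj (γ a)) * (β d * conj (γ d))) := fun a d => by ring
  simp only [e, ← Finset.mul_sum, ← Finset.sum_mul, sum_units_orth]
  have := card_ne_zero_C (F := F)
  have := card_sub_one_ne_zero (F := F)
  split_ifs <;> field_simp <;> ring

theorem linG_one (α : MulChar F ℂ) : linG α 1 = 1 := by simp [linG]

theorem RG_one (α β : MulChar F ℂ) : RG α β 1 = (Fintype.card F : ℂ) + 1 := by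
  rw [RG_apply, psFun_scalar _ _ (by simp) (by simp) (by simp)]
  simp

theorem StT_one (α : MulChar F ℂ) : StT α 1 = (Fintype.card F : ℂ) := by
  simp [StT, RG_one, linG_one]

theorem SG_StT (α : MulChar F ℂ) (a d : Fˣ) :
    SG (StT α) a d = (Fintype.card F : ℂ) * (α a * α d) := by
  have h : SG (StT α) a d = SG (RG α α) a d - SG (linG α) a d := by
    simp [SG, StT, Finset.sum_sub_distrib]
  rw [h, SG_RG, SG_linG]; ring

theorem isIrr_StT (α : MulChar F ℂ) : Cfsg.IsIrrCharacter G2 (StT α) := by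
  classical
  have hl := isIrr_linG α
  obtain ⟨r, hr, e⟩ := Cfsg.Agent.Char.exists_add_of_classInner_ne_zero (isCharacter_RG α α) hl
    (by rw [inner_RG_linG, if_pos rfl, one_mul]; exact one_ne_zero)
  have hSt : StT α = r := by rw [StT, e, add_sub_cancel_left]
  refine Cfsg.Agent.Char.isIrrCharacter_iff.mpr ⟨hSt ▸ hr, ?_⟩
  rw [StT, Cfsg.Agent.Char.classInner_sub_left, Cfsg.Agent.Char.classInner_sub_right,
    Cfsg.Agent.Char.classInner_sub_right, inner_RG, inner_RG_linG,
    ← Cfsg.Agent.Char.classInner_conj_symm (RG α α) (linG α), inner_RG_linG,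
    Cfsg.Agent.Char.IsIrrCharacter.classInner_self hl]
  simp

theorem isIrr_RG {α β : MulChar F ℂ} (h : α ≠ β) : Cfsg.IsIrrCharacter G2 (RG α β) := by
  classical
  refine Cfsg.Agent.Char.isIrrCharacter_iff.mpr ⟨isCharacter_RG α β, ?_⟩
  rw [inner_RG, if_pos ⟨rfl, rfl⟩, if_neg fun e => h e.1, add_zero]

theorem RG_eq_iff {α β α' β' : MulChar F ℂ} :
    RG α β = RG α' β' ↔ (α = α' ∧ β = β') ∨ (α = β' ∧ β = α') := by
  classical
  constructor
  · intro h
    by_contra hn
    rw [not_or] at hn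
    have h1 := inner_RG α β α' β'
    rw [if_neg hn.1, if_neg hn.2, add_zero, ← h, inner_RG, if_pos ⟨rfl, rfl⟩] at h1
    split_ifs at h1 <;> norm_num at h1
  · rintro (⟨rfl, rfl⟩ | ⟨rfl, rfl⟩)
    · rfl
    · exact RG_swap α β

theorem StT_injective : Function.Injective (StT : MulChar F ℂ → G2 → ℂ) := by
  intro α β h
  refine MulChar.ext fun a => ?_
  have := congrArg (fun χ => SG χ a 1) h
  simp only [SG_StT, Units.val_one, map_one, mul_one] at this
  exact mul_left_cancel₀ card_ne_zero_C this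

/-- Every irreducible character is of one of four kinds. -/
theorem gl_cases {χ : G2 → ℂ} (hχ : Cfsg.IsIrrCharacter G2 χ) :
    (∃ α, χ = linG α) ∨ (∃ α, χ = StT α) ∨ (∃ α β, α ≠ β ∧ χ = RG α β) ∨ IsCuspG χ := by
  classical
  have hc := Cfsg.Agent.Char.IsCharacter.isClassFunction
    (Cfsg.Agent.Char.IsIrrCharacter.isCharacter hχ)
  by_cases h : ∃ α β, Cfsg.classInner (RG α β) χ ≠ 0
  · obtain ⟨α, β, h⟩ := h
    by_cases hab : α = β
    · subst hab
      by_cases hl : linG α = χ
      · exact Or.inl ⟨α, hl.symm⟩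
      · refine Or.inr (Or.inl ⟨α, ?_⟩)
        by_contra hs
        apply h
        have e : RG α α = linG α + StT α := by rw [StT, add_sub_cancel]
        rw [e, Cfsg.Agent.Char.classInner_add_left,
          Cfsg.Agent.Char.IsIrrCharacter.classInner_eq_zero (isIrr_linG α) hχ hl,
          Cfsg.Agent.Char.IsIrrCharacter.classInner_eq_zero (isIrr_StT α) hχ (Ne.symm hs), add_zero]
    · refine Or.inr (Or.inr (Or.inl ⟨α, β, hab, ?_⟩))
      by_contra hs
      exact h (Cfsg.Agent.Char.IsIrrCharacter.classInner_eq_zero (isIrr_RG hab) hχ (Ne.symm hs))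
  · push Not at h
    refine Or.inr (Or.inr (Or.inr fun a d => ?_))
    have h0 : ∀ α β : MulChar F ℂ,
        ∑ a : Fˣ, α a * (∑ d : Fˣ, β d * conj (SG χ a d)) = 0 := by
      intro α β
      have hh := h α β
      rw [inner_RG_left α β hc, mul_eq_zero] at hh
      rcases hh with hh | hh
      · exact absurd hh (inv_ne_zero (mul_ne_zero (pow_ne_zero _ card_sub_one_ne_zero) card_ne_zero_C))
      · simpa [Finset.mul_sum, mul_assoc] using hh
    have h1 : (fun d => conj (SG χ a d)) = 0 := fun_eq_zero_of_char _ fun β =>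
      congrFun (fun_eq_zero_of_char _ fun α => h0 α β) a
    simpa using congrFun h1 d

theorem isConj_bG {a : Fˣ} {x y : F} (hx : x ≠ 0) (hy : y ≠ 0) :
    IsConj (bG a a x) (bG a a y) :=
  isConj_of_invariants (nonscalar_iff.mpr (Or.inl (by simp [bG_coe, hx])))
    (nonscalar_iff.mpr (Or.inl (by simp [bG_coe, hy]))) (by simp [bG_coe, Matrix.trace_fin_two])
    (by simp [bG_coe, Matrix.det_fin_two])

theorem bG_one : (bG 1 1 0 : G2) = 1 := Units.ext (by
  rw [bG_coe, Units.val_one, Units.val_one]; apply coord <;> simp)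

/-- For a class function, the sum over the radical only has two distinct terms. -/
theorem SG_one_eq {χ : G2 → ℂ} (hχ : Cfsg.IsClassFunction G2 χ) :
    SG χ 1 1 = χ 1 + ((Fintype.card F : ℂ) - 1) * χ (bG 1 1 1) := by
  rw [SG, ← Finset.add_sum_erase _ _ (Finset.mem_univ (0 : F)), bG_one,
    Finset.sum_congr rfl fun x hx => Cfsg.Agent.Char.IsClassFunction.apply_isConj hχ
      (isConj_bG (Finset.ne_of_mem_erase hx) one_ne_zero), Finset.sum_const,
    Finset.card_erase_of_mem (Finset.mem_univ _), Finset.card_univ, nsmul_eq_mul,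
    Nat.cast_sub Fintype.card_pos, Nat.cast_one]

theorem cusp_degree_dvd {χ : G2 → ℂ} (hχ : Cfsg.IsIrrCharacter G2 χ) (hcu : IsCuspG χ) :
    ∃ n : ℕ, n ≠ 0 ∧ χ 1 = (n : ℂ) * ((Fintype.card F : ℂ) - 1) ∧ χ (bG 1 1 1) = -(n : ℂ) := by
  have hc := Cfsg.Agent.Char.IsIrrCharacter.isCharacter hχ
  have e := SG_one_eq (Cfsg.Agent.Char.IsCharacter.isClassFunction hc)
  rw [hcu 1 1] at e
  obtain ⟨d, hd0, hd⟩ := Cfsg.Agent.Char.IsIrrCharacter.degree_pos hχ
  have hm := card_sub_one_ne_zero (F := F)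
  have hu : χ (bG 1 1 1) = ((-(d : ℚ) / ((Fintype.card F : ℚ) - 1) : ℚ) : ℂ) := by
    push_cast
    rw [eq_div_iff hm, ← hd]
    linear_combination -e
  obtain ⟨z, hz⟩ := Cfsg.Agent.Char.rat_eq_int_of_isIntegral
    (hu ▸ Cfsg.Agent.Char.IsCharacter.isIntegral hc (bG 1 1 1))
  rw [hz] at hu
  push_cast at hu
  have hdz : (d : ℂ) = -(z : ℂ) * ((Fintype.card F : ℂ) - 1) := by
    rw [← hd, ← hu]; linear_combination -e
  have hdz' : (d : ℤ) = -z * ((Fintype.card F : ℤ) - 1) := by exact_mod_cast hdz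
  have hq : (2 : ℤ) ≤ Fintype.card F := by exact_mod_cast Fintype.one_lt_card
  have hz0 : z < 0 := by
    by_contra hh
    nlinarith [mul_nonneg (not_lt.mp hh) (show (0 : ℤ) ≤ (Fintype.card F : ℤ) - 1 by omega),
      (show (0 : ℤ) < d by exact_mod_cast hd0)]
  have hn : (((-z).toNat : ℕ) : ℂ) = -(z : ℂ) := by
    rw [← Int.cast_natCast (R := ℂ), Int.toNat_of_nonneg (by omega), Int.cast_neg]
  exact ⟨(-z).toNat, by omega, by rw [hn, hd, hdz], by rw [hn, neg_neg, hu]⟩

open _root_.Classical in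
/-- The census of irreducible characters. -/
theorem gl_census :
    (∀ χ : Cfsg.IrrCharacter G2, IsCuspG (χ : G2 → ℂ) →
      (χ : G2 → ℂ) 1 = (Fintype.card F : ℂ) - 1 ∧ (χ : G2 → ℂ) (bG 1 1 1) = -1) ∧
    Nat.card {χ : Cfsg.IrrCharacter G2 // ∃ α, (χ : G2 → ℂ) = linG α} = Fintype.card F - 1 ∧
    Nat.card {χ : Cfsg.IrrCharacter G2 // ∃ α, (χ : G2 → ℂ) = StT α} = Fintype.card F - 1 ∧
    Nat.card {χ : Cfsg.IrrCharacter G2 // ∃ α β, α ≠ β ∧ (χ : G2 → ℂ) = RG α β} =
      (Fintype.card F - 1) * (Fintype.card F - 2) / 2 ∧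
    Nat.card {χ : Cfsg.IrrCharacter G2 // IsCuspG (χ : G2 → ℂ)} =
      Fintype.card F * (Fintype.card F - 1) / 2 := by
  haveI := Fintype.ofFinite (Cfsg.IrrCharacter G2)
  haveI := Fintype.ofFinite (MulChar F ℂ)
  set L := Finset.univ.filter fun χ : Cfsg.IrrCharacter G2 => ∃ α, (χ : G2 → ℂ) = linG α with hL
  set T := Finset.univ.filter fun χ : Cfsg.IrrCharacter G2 => ∃ α, (χ : G2 → ℂ) = StT α with hT
  set P := Finset.univ.filter fun χ : Cfsg.IrrCharacter G2 =>
    ∃ α β, α ≠ β ∧ (χ : G2 → ℂ) = RG α β with hP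
  set C := Finset.univ.filter fun χ : Cfsg.IrrCharacter G2 => IsCuspG (χ : G2 → ℂ) with hC
  have hq : 2 ≤ Fintype.card F := Fintype.one_lt_card
  have hm : Fintype.card (MulChar F ℂ) = Fintype.card F - 1 := by
    rw [← Nat.card_eq_fintype_card, card_mulChar]
  have cL : L.card = Fintype.card F - 1 := by
    rw [← hm, ← Finset.card_univ]
    symm
    refine Finset.card_bij (fun α _ => ⟨linG α, isIrr_linG α⟩) (fun α _ => by simp [hL]) ?_ ?_
    · intro α _ β _ h
      exact linG_injective (congrArg Subtype.val h)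
    · intro χ hχ
      obtain ⟨α, hα⟩ := (Finset.mem_filter.mp hχ).2
      exact ⟨α, Finset.mem_univ _, Subtype.ext hα.symm⟩
  have cT : T.card = Fintype.card F - 1 := by
    rw [← hm, ← Finset.card_univ]
    symm
    refine Finset.card_bij (fun α _ => ⟨StT α, isIrr_StT α⟩) (fun α _ => by simp [hT]) ?_ ?_
    · intro α _ β _ h
      exact StT_injective (congrArg Subtype.val h)
    · intro χ hχ
      obtain ⟨α, hα⟩ := (Finset.mem_filter.mp hχ).2
      exact ⟨α, Finset.mem_univ _, Subtype.ext hα.symm⟩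
  have cP : 2 * P.card = (Fintype.card F - 1) * (Fintype.card F - 2) := by
    let D := (Finset.univ : Finset (MulChar F ℂ)).offDiag
    have hD : D.card = (Fintype.card F - 1) * (Fintype.card F - 2) := by
      rw [Finset.offDiag_card, Finset.card_univ, hm]
      rw [← Nat.mul_sub_one]
      rfl
    have hfib := Finset.card_eq_sum_card_fiberwise (s := D) (t := P)
      (f := fun p => if h : p.1 ≠ p.2 then (⟨RG p.1 p.2, isIrr_RG h⟩ : Cfsg.IrrCharacter G2)
        else ⟨linG p.1, isIrr_linG p.1⟩) (fun p hp => by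
          have hne := (Finset.mem_offDiag.mp hp).2.2
          simp only [dif_pos hne]
          simp only [Finset.coe_filter, hP, Finset.mem_univ, true_and, Set.mem_ofPred_eq]
          exact ⟨_, _, hne, rfl⟩)
    rw [← hD, hfib, Finset.sum_congr rfl (g := fun _ => 2) fun χ hχ => ?_, Finset.sum_const,
      smul_eq_mul, mul_comm]
    obtain ⟨α, β, hab, e⟩ := (Finset.mem_filter.mp hχ).2
    rw [Finset.card_eq_two]
    refine ⟨(α, β), (β, α), fun h => hab (congrArg Prod.fst h), ?_⟩
    ext p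
    simp only [D, Finset.mem_filter, Finset.mem_offDiag, Finset.mem_univ, true_and,
      Finset.mem_insert, Finset.mem_singleton]
    constructor
    · rintro ⟨hne, hp⟩
      rw [dif_pos hne] at hp
      have := congrArg Subtype.val hp
      simp only [e] at this
      rcases RG_eq_iff.mp this with ⟨h1, h2⟩ | ⟨h1, h2⟩
      · exact Or.inl (Prod.ext h1 h2)
      · exact Or.inr (Prod.ext h1 h2)
    · rintro (rfl | rfl)
      · exact ⟨hab, by rw [dif_pos hab]; exact Subtype.ext e.symm⟩
      · exact ⟨hab.symm, by rw [dif_pos hab.symm]; exact Subtype.ext ((RG_swap β α).trans e.symm)⟩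
  have dL : ∀ χ ∈ L, (χ : G2 → ℂ) 1 = 1 ∧ SG (χ : G2 → ℂ) 1 1 = Fintype.card F := fun χ h => by
    obtain ⟨α, hα⟩ := (Finset.mem_filter.mp h).2
    rw [hα, linG_one, SG_linG]; simp
  have dT : ∀ χ ∈ T, (χ : G2 → ℂ) 1 = Fintype.card F ∧
      SG (χ : G2 → ℂ) 1 1 = Fintype.card F := fun χ h => by
    obtain ⟨α, hα⟩ := (Finset.mem_filter.mp h).2
    rw [hα, StT_one, SG_StT]; simp
  have dP : ∀ χ ∈ P, (χ : G2 → ℂ) 1 = Fintype.card F + 1 ∧
      SG (χ : G2 → ℂ) 1 1 = 2 * Fintype.card F := fun χ h => by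
    obtain ⟨α, β, -, hα⟩ := (Finset.mem_filter.mp h).2
    rw [hα, RG_one, SG_RG]
    refine ⟨rfl, ?_⟩
    simp only [Units.val_one, map_one]
    ring
  have hdisj1 : Disjoint L T := Finset.disjoint_left.mpr fun χ h1 h2 => by
    have := (dL χ h1).1.symm.trans (dT χ h2).1
    have : (1 : ℕ) = Fintype.card F := by exact_mod_cast this
    omega
  have hdisj2 : Disjoint (L ∪ T) P := Finset.disjoint_left.mpr fun χ h1 h2 => by
    rcases Finset.mem_union.mp h1 with h1 | h1
    · have := (dL χ h1).1.symm.trans (dP χ h2).1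
      have : (1 : ℕ) = Fintype.card F + 1 := by exact_mod_cast this
      omega
    · have := (dT χ h1).1.symm.trans (dP χ h2).1
      have : (Fintype.card F : ℕ) = Fintype.card F + 1 := by exact_mod_cast this
      omega
  have hdisj3 : Disjoint (L ∪ T ∪ P) C := Finset.disjoint_left.mpr fun χ h1 h2 => by
    have h0 := (Finset.mem_filter.mp h2).2 1 1
    rcases Finset.mem_union.mp h1 with h1 | h1
    · rcases Finset.mem_union.mp h1 with h1 | h1
      · rw [(dL χ h1).2] at h0; exact card_ne_zero_C h0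
      · rw [(dT χ h1).2] at h0; exact card_ne_zero_C h0
    · rw [(dP χ h1).2] at h0
      exact mul_ne_zero two_ne_zero card_ne_zero_C h0
  have huniv : L ∪ T ∪ P ∪ C = Finset.univ := Finset.eq_univ_of_forall fun χ => by
    simp only [Finset.mem_union, hL, hT, hP, hC, Finset.mem_filter, Finset.mem_univ, true_and]
    rcases gl_cases χ.2 with h | h | h | h
    · exact Or.inl (Or.inl (Or.inl h))
    · exact Or.inl (Or.inl (Or.inr h))
    · exact Or.inl (Or.inr h)
    · exact Or.inr h
  have hcount := congrArg Finset.card huniv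
  rw [Finset.card_union_of_disjoint hdisj3, Finset.card_union_of_disjoint hdisj2,
    Finset.card_union_of_disjoint hdisj1, Finset.card_univ, ← Nat.card_eq_fintype_card,
    Cfsg.Agent.Char.card_irrCharacter, card_conjClasses] at hcount
  have cC : 2 * C.card = Fintype.card F * (Fintype.card F - 1) := by
    obtain ⟨s, hs⟩ : ∃ s, Fintype.card F = s + 2 := ⟨Fintype.card F - 2, by omega⟩
    rw [hs] at hcount cL cT cP ⊢
    simp only [show s + 2 - 2 = s by omega, show s + 2 - 1 = s + 1 by omega] at cL cT cP ⊢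
    rw [cL, cT, show (s + 2) ^ 2 - 1 = s * s + 4 * s + 3 by ring_nf; omega] at hcount
    nlinarith
  have hsq := Cfsg.Agent.Char.sum_sq_degree (G := G2)
  rw [← huniv, Finset.sum_union hdisj3, Finset.sum_union hdisj2, Finset.sum_union hdisj1,
    Finset.sum_congr rfl fun χ h => by rw [(dL χ h).1],
    Finset.sum_congr rfl (fun χ h => by rw [(dT χ h).1]) (s₁ := T),
    Finset.sum_congr rfl (fun χ h => by rw [(dP χ h).1]) (s₁ := P)] at hsq
  have hn : ∀ χ : Cfsg.IrrCharacter G2, χ ∈ C → ∃ n : ℕ, n ≠ 0 ∧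
      (χ : G2 → ℂ) 1 = (n : ℂ) * ((Fintype.card F : ℂ) - 1) ∧
      (χ : G2 → ℂ) (bG 1 1 1) = -(n : ℂ) := fun χ h => cusp_degree_dvd χ.2 (Finset.mem_filter.mp h).2
  choose! n hn0 hn1 hn2 using hn
  rw [Finset.sum_congr rfl (fun χ h => by rw [hn1 χ h, mul_pow]) (s₁ := C), ← Finset.sum_mul,
    Finset.sum_const, Finset.sum_const, Finset.sum_const, cL, cT, card_GL2] at hsq
  have hP' : (P.card : ℂ) = ((Fintype.card F : ℂ) - 1) * ((Fintype.card F : ℂ) - 2) / 2 := by
    have := congrArg (fun k : ℕ => (k : ℂ)) cP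
    push_cast [Nat.cast_sub (show 1 ≤ Fintype.card F by omega), Nat.cast_sub hq] at this
    linear_combination this / 2
  have hC' : (C.card : ℂ) = (Fintype.card F : ℂ) * ((Fintype.card F : ℂ) - 1) / 2 := by
    have := congrArg (fun k : ℕ => (k : ℂ)) cC
    push_cast [Nat.cast_sub (show 1 ≤ Fintype.card F by omega)] at this
    linear_combination this / 2
  simp only [nsmul_eq_mul] at hsq
  push_cast [Nat.cast_sub (show 1 ≤ Fintype.card F by omega)] at hsq
  rw [hP'] at hsq
  have hsum : ((∑ χ ∈ C, n χ ^ 2 : ℕ) : ℂ) = (C.card : ℂ) := by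
    push_cast
    apply mul_right_cancel₀ (pow_ne_zero 2 (card_sub_one_ne_zero (F := F)))
    rw [hC']
    linear_combination hsq
  have hall : ∀ χ ∈ C, n χ = 1 := by
    have h1 : ∑ χ ∈ C, n χ ^ 2 = ∑ χ ∈ C, 1 := by
      rw [← Finset.card_eq_sum_ones]; exact_mod_cast hsum
    intro χ hχ
    have h2 := (Finset.sum_eq_sum_iff_of_le (fun x hx => Nat.one_le_pow _ _
      (Nat.pos_of_ne_zero (hn0 x hx)))).mp h1.symm χ hχ
    exact (pow_eq_one_iff.mp h2.symm).resolve_right (by norm_num)
  refine ⟨fun χ h => ?_, ?_, ?_, ?_, ?_⟩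
  · have hm' : χ ∈ C := by simp [hC, h]
    constructor
    · rw [hn1 χ hm', hall χ hm']; simp
    · rw [hn2 χ hm', hall χ hm']; simp
  · rw [Nat.card_eq_fintype_card, Fintype.card_subtype, ← hL, cL]
  · rw [Nat.card_eq_fintype_card, Fintype.card_subtype, ← hT, cT]
  · rw [Nat.card_eq_fintype_card, Fintype.card_subtype, ← hP]; omega
  · rw [Nat.card_eq_fintype_card, Fintype.card_subtype, ← hC]; omega

theorem isCusp_degree {χ : G2 → ℂ} (hχ : Cfsg.IsIrrCharacter G2 χ) (h : IsCuspG χ) :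
    χ 1 = (Fintype.card F : ℂ) - 1 ∧ χ (bG 1 1 1) = -1 :=
  gl_census.1 ⟨χ, hχ⟩ h

theorem kind_of_degree {χ : G2 → ℂ} (hχ : Cfsg.IsIrrCharacter G2 χ) :
    (3 ≤ Fintype.card F → χ 1 = 1 → ∃ α, χ = linG α) ∧
    (χ 1 = (Fintype.card F : ℂ) → ∃ α, χ = StT α) ∧
    (χ 1 = (Fintype.card F : ℂ) + 1 → ∃ α β, α ≠ β ∧ χ = RG α β) ∧
    (3 ≤ Fintype.card F → χ 1 = (Fintype.card F : ℂ) - 1 → IsCuspG χ) := by
  have hq : 2 ≤ Fintype.card F := Fintype.one_lt_card
  rcases gl_cases hχ with ⟨α, rfl⟩ | ⟨α, rfl⟩ | ⟨α, β, hab, rfl⟩ | hc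
  · rw [linG_one]
    refine ⟨fun _ _ => ⟨α, rfl⟩, fun h => ?_, fun h => ?_, fun h3 h => ?_⟩
    · have : (1 : ℕ) = Fintype.card F := by exact_mod_cast h
      omega
    · have : (1 : ℕ) = Fintype.card F + 1 := by exact_mod_cast h
      omega
    · have : (2 : ℂ) = Fintype.card F := by linear_combination h
      have : (2 : ℕ) = Fintype.card F := by exact_mod_cast this
      omega
  · rw [StT_one]
    refine ⟨fun _ h => ?_, fun _ => ⟨α, rfl⟩, fun h => ?_, fun _ h => ?_⟩
    · have : Fintype.card F = 1 := by exact_mod_cast h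
      omega
    · norm_num at h
    · exact absurd (show (1 : ℂ) = 0 by linear_combination h) one_ne_zero
  · rw [RG_one]
    refine ⟨fun _ h => ?_, fun h => ?_, fun _ => ⟨α, β, hab, rfl⟩, fun _ h => ?_⟩
    · have : Fintype.card F + 1 = 1 := by exact_mod_cast h
      omega
    · norm_num at h
    · exact absurd (show (2 : ℂ) = 0 by linear_combination h) two_ne_zero
  · rw [(isCusp_degree hχ hc).1]
    refine ⟨fun h3 h => ?_, fun h => ?_, fun h => ?_, fun _ _ => hc⟩
    · have : (Fintype.card F : ℂ) = 2 := by linear_combination h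
      have : Fintype.card F = 2 := by exact_mod_cast this
      omega
    · exact absurd (show (1 : ℂ) = 0 by linear_combination -h) one_ne_zero
    · exact absurd (show (2 : ℂ) = 0 by linear_combination -h) two_ne_zero

theorem cusp_split {χ : G2 → ℂ} (hχ : Cfsg.IsClassFunction G2 χ) (hc : IsCuspG χ) {g : G2}
    (h10 : (g : M2) 1 0 = 0) (hne : (g : M2) 0 0 ≠ (g : M2) 1 1) : χ g = 0 := by
  have hd := det_upper ⟨g, mem_BG.mpr h10⟩
  let a := Units.mk0 _ hd.1
  let d := Units.mk0 _ hd.2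
  have e : ∀ x : F, χ (bG a d x) = χ g := fun x => by
    refine Cfsg.Agent.Char.IsClassFunction.apply_isConj hχ (isConj_of_invariants
      (nonscalar_iff.mpr (Or.inr (Or.inr (by simpa [bG_coe, a, d] using hne))))
      (nonscalar_iff.mpr (Or.inr (Or.inr hne))) ?_ ?_)
    · simp [bG_coe, a, d, Matrix.trace_fin_two]
    · simp [bG_coe, a, d, Matrix.det_fin_two, h10]
  have h := hc a d
  simp only [SG, e, Finset.sum_const, Finset.card_univ, nsmul_eq_mul] at h
  exact (mul_eq_zero.mp h).resolve_left card_ne_zero_C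

theorem StT_apply (α : MulChar F ℂ) (g : G2) :
    StT α g = psFun α α (g : M2) - α (g : M2).det := by
  rw [StT, Pi.sub_apply, RG_apply]; rfl

end Cfsg.Agent.GL2
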