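import Cfsg.Agent.Lib.GL2.SLValues

/-!
# The two values of the halved characters at unipotent elements
-/

set_option autoImplicit false
set_option linter.unusedSectionVars false

open Matrix
open scoped MatrixGroups ComplexConjugate

namespace Cfsg.Agent.GL2

open Cfsg.Agent.Classical.SL2 (coord)
open Cfsg.Agent.Char

variable {F : Type*} [Field F] [Fintype F] [DecidableEq F]

local notation "M2" => Matrix (Fin 2) (Fin 2) F
local notation "S2" => Matrix.SpecialLinearGroup (Fin 2) F
local notation "G2" => GL (Fin 2) F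

theorem zS_mem_center (z : {z : F // z * z = 1}) : zS z ∈ Subgroup.center S2 :=
  Subgroup.mem_center_iff.mpr fun g => (zS_comm z g).symm

theorem conjS_zS (x : G2) (z : {z : F // z * z = 1}) : conjS x (zS z) = zS z := by
  have h : SpecialLinearGroup.toGL (zS z) = scal (Units.mk0 z.1 (z_ne_zero z)) := Units.ext (by
    rw [toGL_coe, zS_coe, scal_coe]
    apply coord <;> simp)
  refine SpecialLinearGroup.toGL_injective ?_
  rw [toGL_conjS, h, ← scal_comm, mul_inv_cancel_right]

/-- A function supported on central times unipotent classes, summed. -/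
theorem sum_zu {f : S2 → ℂ} (hf : Cfsg.IsClassFunction S2 f) (R : Finset F)
    (h0 : ∀ r ∈ R, r ≠ 0) (hex : ∀ b : F, b ≠ 0 → ∃ r ∈ R, IsSquare (r * b))
    (hun : ∀ r ∈ R, ∀ r' ∈ R, IsSquare (r * r') → r = r')
    (hsupp : ∀ g : S2, f g ≠ 0 → Nonscalar (g : M2) ∧ (g : M2).trace * (g : M2).trace = 4)
    [Fintype {z : F // z * z = 1}] :
    (Fintype.card {z : F // z * z = 1} : ℂ) * (Fintype.card F : ℂ) * ∑ g : S2, f g =
      (Nat.card S2 : ℂ) * ∑ z : {z : F // z * z = 1}, ∑ r ∈ R, f (zS z * uS r) := by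
  classical
  let cl : {z : F // z * z = 1} × F → Finset S2 := fun p =>
    Finset.univ.filter fun g => IsConj (zS p.1 * uS p.2) g
  let T := (Finset.univ : Finset {z : F // z * z = 1}) ×ˢ R
  have hdisj : (T : Set ({z : F // z * z = 1} × F)).PairwiseDisjoint cl := by
    intro p hp p' hp' hne
    rw [Function.onFun, Finset.disjoint_left]
    intro g h1 h2
    have hp0 := (Finset.mem_product.mp hp).2
    have hp0' := (Finset.mem_product.mp hp').2
    obtain ⟨e1, e2⟩ := (isConj_zu_iff (h0 _ hp0) (h0 _ hp0')).mp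
      ((Finset.mem_filter.mp h1).2.trans (Finset.mem_filter.mp h2).2.symm)
    exact hne (Prod.ext e1 (hun _ hp0 _ hp0' e2))
  have hsum : ∑ g : S2, f g = ∑ p ∈ T, ∑ g ∈ cl p, f g := by
    rw [← Finset.sum_biUnion hdisj]
    refine (Finset.sum_subset (Finset.subset_univ _) fun g _ hg => ?_).symm
    by_contra h
    obtain ⟨hns, ht⟩ := hsupp g h
    obtain ⟨z, b, hb, -, hc⟩ := exists_zu hns ht
    obtain ⟨r, hr, hs⟩ := hex b hb
    exact hg (Finset.mem_biUnion.mpr ⟨(z, r), Finset.mem_product.mpr ⟨Finset.mem_univ _, hr⟩,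
      Finset.mem_filter.mpr ⟨Finset.mem_univ _,
        ((isConj_zu_iff (h0 r hr) hb).mpr ⟨rfl, hs⟩).trans hc⟩⟩)
  rw [hsum, Finset.mul_sum, Finset.mul_sum, Finset.sum_product]
  refine Fintype.sum_congr _ _ fun z => ?_
  rw [Finset.mul_sum]
  refine Finset.sum_congr rfl fun r hr => ?_
  rw [Finset.sum_congr rfl fun g hg =>
    (IsClassFunction.apply_isConj hf (Finset.mem_filter.mp hg).2).symm, Finset.sum_const,
    nsmul_eq_mul, ← mul_assoc]
  congr 1
  have hcar : Nat.card (ConjClasses.mk (zS z * uS r)).carrier = (cl (z, r)).card := by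
    rw [Nat.card_eq_fintype_card]
    refine Fintype.card_of_subtype _ fun g => ?_
    rw [Finset.mem_filter, ConjClasses.mem_carrier_iff_mk_eq, ConjClasses.mk_eq_mk_iff_isConj]
    exact ⟨fun h => h.2.symm, fun h => ⟨Finset.mem_univ _, h.symm⟩⟩
  rw [← card_class (zS z * uS r), centralizer_zu z (h0 r hr), hcar]
  simp only [cl]
  rw [Nat.card_eq_fintype_card (α := {z : F // z * z = 1})]
  push_cast
  ring

/-- The square of the difference of the two values at unipotent elements. -/
theorem gauss_sq {χ : S2 → ℂ} (hχ : Cfsg.IsIrrCharacter S2 χ) (hc : ringChar F ≠ 2) {e : Fˣ}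
    (hens : ¬ IsSquare (e : F)) (he : Covers e) (hne : tw e χ ≠ χ) :
    (χ (uS 1) - χ (uS (e : F))) ^ 2 =
      (-1 : ℂ) ^ ((Fintype.card F - 1) / 2) * (Fintype.card F : ℂ) := by
  classical
  have hC := IsIrrCharacter.isCharacter hχ
  have hcf := IsCharacter.isClassFunction hC
  have htw := IsCharacter.isClassFunction (IsIrrCharacter.isCharacter (isIrr_tw hχ e))
  set δ := χ (uS 1) - χ (uS (e : F)) with hδ
  set f : S2 → ℂ := fun g => (χ g - tw e χ g) * conj (χ g - tw e χ g) with hf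
  have hD : Cfsg.IsClassFunction S2 (χ - tw e χ) := fun g x => by
    show χ (x * g * x⁻¹) - tw e χ (x * g * x⁻¹) = χ g - tw e χ g
    rw [hcf g x, htw g x]
  have hfc : Cfsg.IsClassFunction S2 f := fun g x => by
    have := hD g x
    simp only [Pi.sub_apply] at this
    simp only [hf, this]
  let R : Finset F := {1, (e : F)}
  have hne1 : (1 : F) ≠ (e : F) := fun h => hens (h ▸ IsSquare.one)
  have hsupp : ∀ g : S2, f g ≠ 0 →
      Nonscalar (g : M2) ∧ (g : M2).trace * (g : M2).trace = 4 := by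
    intro g hg
    have hg' : χ g - tw e χ g ≠ 0 := left_ne_zero_of_mul hg
    by_cases hns : Nonscalar (g : M2)
    · refine ⟨hns, ?_⟩
      by_contra ht
      exact hg' (by rw [show tw e χ g = χ g from conjS_eq_of_regular hcf hns ht _, sub_self])
    · obtain ⟨z, rfl⟩ := exists_zS hns
      exact absurd (by rw [show tw e χ (zS z) = χ (zS z) from congrArg χ (conjS_zS _ _), sub_self])
        hg'
  haveI := Fintype.ofFinite {z : F // z * z = 1}
  have hsum := sum_zu hfc R (fun r hr => by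
      rcases Finset.mem_insert.mp hr with rfl | hr
      · exact one_ne_zero
      · rw [Finset.mem_singleton] at hr; subst hr; exact e.ne_zero)
    (fun b hb => by
      rcases he b hb with h | h
      · exact ⟨1, by simp [R], by rwa [one_mul]⟩
      · exact ⟨(e : F), by simp [R], h⟩)
    (fun r hr r' hr' h => by
      simp only [R, Finset.mem_insert, Finset.mem_singleton] at hr hr'
      rcases hr with rfl | rfl <;> rcases hr' with rfl | rfl
      · rfl
      · exact absurd (by simpa using h) hens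
      · exact absurd (by simpa using h) hens
      · rfl)
    hsupp
  have hee : χ (uS ((e : F) * e)) = χ (uS 1) :=
    uS_square hcf (mul_ne_zero e.ne_zero e.ne_zero) one_ne_zero ⟨(e : F), by ring⟩
  have hval : ∀ z : {z : F // z * z = 1}, ∑ r ∈ R, f (zS z * uS r) = 2 * (δ * conj δ) := by
    intro z
    obtain ⟨ω, hω, hωm⟩ := IsIrrCharacter.central_apply hχ (zS_mem_center z)
    have hw : ω * conj ω = 1 := by rw [Complex.mul_conj', hω]; norm_num
    have hb : ∀ b : F, χ (zS z * uS b) - tw e χ (zS z * uS b) =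
        ω * (χ (uS b) - χ (uS ((e : F) * b))) := by
      intro b
      show _ - χ (conjS (dg e) (zS z * uS b)) = _
      rw [map_mul, conjS_zS, conjS_uS, hωm, hωm]; ring
    show ∑ r ∈ ({1, (e : F)} : Finset F), _ = _
    rw [Finset.sum_pair hne1]
    simp only [hf, hb]
    simp only [mul_one, hee, map_mul, map_sub, hδ]
    linear_combination 2 * (χ (uS 1) - χ (uS (e : F))) *
      (conj (χ (uS 1)) - conj (χ (uS (e : F)))) * hw
  rw [Fintype.sum_congr _ _ hval, Finset.sum_const, Finset.card_univ, nsmul_eq_mul,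
    ← Nat.card_eq_fintype_card (α := {z : F // z * z = 1}), card_sq_one_odd hc] at hsum
  have hnorm : Cfsg.classInner (χ - tw e χ) (χ - tw e χ) = 2 := by
    rw [classInner_sub_left, classInner_sub_right, classInner_sub_right,
      IsIrrCharacter.classInner_self hχ, IsIrrCharacter.classInner_self (isIrr_tw hχ e),
      IsIrrCharacter.classInner_eq_zero hχ (isIrr_tw hχ e) hne.symm,
      IsIrrCharacter.classInner_eq_zero (isIrr_tw hχ e) hχ hne]
    norm_num
  have hG : (Nat.card S2 : ℂ) ≠ 0 := Nat.cast_ne_zero.mpr Nat.card_pos.ne'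
  have hfsum : ∑ g : S2, f g = 2 * (Nat.card S2 : ℂ) := by
    rw [← hnorm, Cfsg.classInner]
    simp only [hf, Pi.sub_apply]
    field_simp
  rw [hfsum] at hsum
  have hδq : δ * conj δ = (Fintype.card F : ℂ) := by
    apply mul_left_cancel₀ hG
    push_cast at hsum
    linear_combination -hsum / 4
  have hinv : ∀ b : F, conj (χ (uS b)) = χ (uS (-b)) := fun b => by
    rw [← IsCharacter.map_inv hC]
    congr 1
    refine inv_eq_of_mul_eq_one_right (Subtype.ext ?_)
    rw [coe_mulS, uS_coe, uS_coe, coe_oneS]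
    apply coord <;> simp [Matrix.mul_apply, Fin.sum_univ_two]
  have hodd := FiniteField.odd_card_of_char_ne_two hc
  by_cases hs : IsSquare (-1 : F)
  · have hcd : conj δ = δ := by
      obtain ⟨c, hc'⟩ := hs
      rw [hδ, map_sub, hinv, hinv, uS_square hcf (neg_ne_zero.mpr one_ne_zero) one_ne_zero
        ⟨c, by rw [mul_one]; exact hc'⟩, uS_square hcf (neg_ne_zero.mpr e.ne_zero) e.ne_zero
        ⟨c * (e : F), by linear_combination (e : F) ^ 2 * hc'⟩]
    have h4 := FiniteField.isSquare_neg_one_iff.mp ⟨_, hs.choose_spec⟩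
    rw [Even.neg_one_pow (Nat.even_iff.mpr (by omega)), one_mul, pow_two]
    nth_rw 2 [← hcd]
    exact hδq
  · obtain ⟨c, hc'⟩ : IsSquare ((e : F) * -1) :=
      (he (-1) (neg_ne_zero.mpr one_ne_zero)).resolve_left hs
    have hcd : conj δ = -δ := by
      rw [hδ, map_sub, hinv, hinv, uS_square hcf (neg_ne_zero.mpr one_ne_zero) e.ne_zero
        ⟨c, by linear_combination hc'⟩, uS_square hcf (neg_ne_zero.mpr e.ne_zero) one_ne_zero
        ⟨c, by linear_combination hc'⟩, neg_sub]
    have h4 : Fintype.card F % 4 = 3 := by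
      by_contra h
      exact hs (FiniteField.isSquare_neg_one_iff.mpr h)
    rw [Odd.neg_one_pow (Nat.odd_iff.mpr (by omega))]
    rw [hcd] at hδq
    linear_combination -hδq

theorem linear_norm {χ : S2 → ℂ} (hχ : Cfsg.IsIrrCharacter S2 χ) (h1 : χ 1 = 1) (g : S2) :
    ‖χ g‖ = 1 := by
  obtain ⟨l, rfl⟩ := IsCharacter.exists_monoidHom (IsIrrCharacter.isCharacter hχ) h1
  refine Complex.norm_eq_one_of_pow_eq_one (n := orderOf g) ?_ (orderOf_pos g).ne'
  rw [← Units.val_pow_eq_pow_val, ← map_pow, pow_orderOf_eq_one, map_one, Units.val_one]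

/-- Over three elements, the characters of degree two vanish at elliptic elements. -/
theorem deg_two_elliptic (h3 : Fintype.card F = 3) {χ : S2 → ℂ}
    (hχ : Cfsg.IsIrrCharacter S2 χ) (hd : χ 1 = 2) {g : S2} (hg : eig (g : M2) = ∅) : χ g = 0 := by
  classical
  haveI := Fintype.ofFinite (Cfsg.IrrCharacter S2)
  have hc : ringChar F ≠ 2 := ringChar_ne_two_of_odd (by rw [h3]; decide)
  obtain ⟨e, he, -⟩ := exists_covers (F := F)
  obtain ⟨-, -, -, cC⟩ := sl_census (F := F)
  rw [card_sq_one_odd hc] at cC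
  haveI : Nonempty {χ : Cfsg.IrrCharacter S2 // IsCuspHalf (χ : S2 → ℂ)} :=
    (Nat.card_pos_iff.mp (by omega)).1
  obtain ⟨⟨ψ, hψ, hψd⟩⟩ : Nonempty {χ : Cfsg.IrrCharacter S2 // IsCuspHalf (χ : S2 → ℂ)} :=
    inferInstance
  have hψ1 : (ψ : S2 → ℂ) 1 = 1 := by rw [h3] at hψd; push_cast at hψd; linear_combination hψd / 2
  have hψt : tw e (ψ : S2 → ℂ) ≠ (ψ : S2 → ℂ) := by
    rcases cusp_kind ψ.2 hψ he with h' | h'
    · exfalso
      rw [h3, hψ1] at h'
      norm_num at h'
    · exact h'.2.1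
  let o : Cfsg.IrrCharacter S2 := ⟨1, isIrrCharacter_one⟩
  let t : Cfsg.IrrCharacter S2 := ⟨StS, isIrr_StS⟩
  let ψ' : Cfsg.IrrCharacter S2 := ⟨tw e ψ, isIrr_tw ψ.2 e⟩
  let x : Cfsg.IrrCharacter S2 := ⟨χ, hχ⟩
  have hψ'1 : (ψ' : S2 → ℂ) 1 = 1 := by
    show (ψ : S2 → ℂ) (conjS (dg e) 1) = 1
    rw [map_one, hψ1]
  have hcuspψ' : SS (ψ' : S2 → ℂ) 1 = 0 := by
    refine (isCusp_iff (IsCharacter.isClassFunction (IsIrrCharacter.isCharacter ψ'.2))).mpr ?_ 1
    intro α
    show Cfsg.classInner (RS α) (tw e ψ) = 0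
    rw [← tw_RS α e, classInner_tw]
    exact (isCusp_iff (IsCharacter.isClassFunction (IsIrrCharacter.isCharacter ψ.2))).mp hψ α
  have hStS : (t : S2 → ℂ) 1 = 3 := by show StS 1 = 3; rw [StS_one, h3]; norm_num
  have ne1 : ψ' ≠ ψ := fun h => hψt (congrArg Subtype.val h)
  have ne2 : o ≠ ψ ∧ o ≠ ψ' := by
    constructor <;> intro h
    · have := hψ 1; rw [← h] at this
      exact card_ne_zero_C ((SS_one 1).symm.trans this)
    · have := hcuspψ'; rw [← h] at this
      exact card_ne_zero_C ((SS_one 1).symm.trans this)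
  have ne3 : ∀ y : Cfsg.IrrCharacter S2, (y : S2 → ℂ) 1 = 1 → t ≠ y ∧ x ≠ y := fun y hy =>
    ⟨fun h => by rw [← h, hStS] at hy; norm_num at hy,
      fun h => by rw [← h, show (x : S2 → ℂ) 1 = 2 from hd] at hy; norm_num at hy⟩
  have ne4 : x ≠ t := fun h => by
    rw [← h, show (x : S2 → ℂ) 1 = 2 from hd] at hStS; norm_num at hStS
  have hso := second_orthogonality g g
  rw [if_pos (IsConj.refl g), card_centralizer_ellS hg hc, h3] at hso
  simp only [Complex.mul_conj'] at hso
  have hso' : ∑ y : Cfsg.IrrCharacter S2, ‖(y : S2 → ℂ) g‖ ^ 2 = (4 : ℝ) := by exact_mod_cast hso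
  have hle := Finset.sum_le_univ_sum_of_nonneg (f := fun y : Cfsg.IrrCharacter S2 =>
    ‖(y : S2 → ℂ) g‖ ^ 2) (fun y => sq_nonneg _) (s := {x, t, o, ψ', ψ})
  rw [hso'] at hle
  have hno : ‖(o : S2 → ℂ) g‖ = 1 := by show ‖(1 : ℂ)‖ = 1; exact norm_one
  have hnt : ‖(t : S2 → ℂ) g‖ = 1 := by
    show ‖StS g‖ = 1
    rw [StS, Pi.sub_apply, RS_apply, psFun_elliptic _ _ hg]
    simp
  rw [Finset.sum_insert (by simp [(ne3 o rfl).2, (ne3 ψ hψ1).2, (ne3 ψ' hψ'1).2, ne4]),
    Finset.sum_insert (by simp [(ne3 o rfl).1, (ne3 ψ hψ1).1, (ne3 ψ' hψ'1).1]),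
    Finset.sum_insert (by simp [ne2.1, ne2.2]), Finset.sum_pair ne1, hno, hnt,
    linear_norm ψ.2 hψ1 g, linear_norm ψ'.2 hψ'1 g] at hle
  norm_num at hle
  exact hle

end Cfsg.Agent.GL2
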