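import Cfsg.Agent.Lib.GL2.Borel
import Mathlib.NumberTheory.MulChar.Duality
import Mathlib.RingTheory.RootsOfUnity.AlgebraicallyClosed
import Mathlib.Analysis.Complex.Polynomial.Basic

/-!
# Inner products of the functions induced from the upper triangular subgroup
-/

set_option autoImplicit false
set_option linter.unusedSectionVars false

open Matrix
open scoped MatrixGroups ComplexConjugate

namespace Cfsg.Agent.GL2

open Cfsg.Agent.Classical.SL2 (coord)
open Cfsg.Agent.Classical (card_units_eq)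

variable {F : Type*} [Field F] [Fintype F] [DecidableEq F]

local notation "M2" => Matrix (Fin 2) (Fin 2) F
local notation "S2" => Matrix.SpecialLinearGroup (Fin 2) F
local notation "G2" => GL (Fin 2) F
local notation "BG" => Cfsg.upperTriangularGL 2 F
local notation "BS" =>
  Subgroup.comap (Matrix.SpecialLinearGroup.toGL (n := Fin 2) (R := F)) (Cfsg.upperTriangularGL 2 F)

theorem conj_mulChar (α : MulChar F ℂ) (x : F) : conj (α x) = α⁻¹ x := MulChar.star_apply' α x

theorem card_units_cast : (Nat.card Fˣ : ℂ) = (Fintype.card F : ℂ) - 1 := by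
  rw [card_units_eq, Nat.cast_sub Fintype.card_pos]; simp

theorem card_sub_one_ne_zero : (Fintype.card F : ℂ) - 1 ≠ 0 := by
  rw [← card_units_cast]; exact Nat.cast_ne_zero.mpr Nat.card_pos.ne'

theorem sum_units_char (α : MulChar F ℂ) [Decidable (α = 1)] :
    ∑ a : Fˣ, α a = if α = 1 then (Fintype.card F : ℂ) - 1 else 0 := by
  split_ifs with h
  · subst h
    simp [← card_units_cast, Nat.card_eq_fintype_card]
  · obtain ⟨b, hb⟩ := MulChar.ne_one_iff.mp h
    refine eq_zero_of_mul_eq_self_left hb ?_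
    rw [Finset.mul_sum]
    exact Fintype.sum_equiv (Equiv.mulLeft b) _ _ fun a => by simp

theorem sum_units_orth (α β : MulChar F ℂ) [Decidable (α = β)] :
    ∑ a : Fˣ, α a * conj (β a) = if α = β then (Fintype.card F : ℂ) - 1 else 0 := by
  classical
  have e : ∀ a : Fˣ, α a * conj (β a) = (α * β⁻¹) a := fun a => by
    rw [conj_mulChar, MulChar.mul_apply]
  rw [Fintype.sum_congr _ _ e, sum_units_char]
  simp only [mul_inv_eq_one]

theorem card_mulChar : Nat.card (MulChar F ℂ) = Fintype.card F - 1 := by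
  haveI : NeZero (Monoid.exponent Fˣ) := ⟨Monoid.exponent_ne_zero_of_finite⟩
  rw [MulChar.card_eq_card_units_of_hasEnoughRootsOfUnity, card_units_eq]

theorem sum_chars [Fintype (MulChar F ℂ)] (a : Fˣ) :
    ∑ α : MulChar F ℂ, α a = if a = 1 then (Fintype.card F : ℂ) - 1 else 0 := by
  haveI : NeZero (Monoid.exponent Fˣ) := ⟨Monoid.exponent_ne_zero_of_finite⟩
  split_ifs with h
  · subst h
    simp [← card_units_cast, ← Nat.card_eq_fintype_card, card_mulChar, card_units_eq]
  · obtain ⟨χ, hχ⟩ := MulChar.exists_apply_ne_one_of_hasEnoughRootsOfUnity F ℂ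
      (a := (a : F)) (fun e => h (Units.val_eq_one.mp e))
    refine eq_zero_of_mul_eq_self_left hχ ?_
    rw [Finset.mul_sum]
    exact Fintype.sum_equiv (Equiv.mulLeft χ) _ _ fun α => by simp

/-- Expansion of a function on the units in multiplicative characters. -/
theorem char_expansion [Fintype (MulChar F ℂ)] (f : Fˣ → ℂ) (a : Fˣ) :
    ∑ α : MulChar F ℂ, (∑ b : Fˣ, α b * f b) * α ((a⁻¹ : Fˣ) : F) =
      ((Fintype.card F : ℂ) - 1) * f a := by
  simp only [Finset.sum_mul]
  rw [Finset.sum_comm]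
  have e : ∀ b : Fˣ, ∑ α : MulChar F ℂ, α b * f b * α ((a⁻¹ : Fˣ) : F) =
      if b = a then ((Fintype.card F : ℂ) - 1) * f b else 0 := fun b => by
    have e2 : ∀ α : MulChar F ℂ, α b * f b * α ((a⁻¹ : Fˣ) : F) = α ((b * a⁻¹ : Fˣ) : F) * f b :=
      fun α => by rw [Units.val_mul, map_mul]; ring
    rw [Fintype.sum_congr _ _ e2, ← Finset.sum_mul, sum_chars]
    simp only [mul_inv_eq_one, ite_mul, zero_mul]
  rw [Fintype.sum_congr _ _ e]
  simp

theorem fun_eq_zero_of_char (f : Fˣ → ℂ) (h : ∀ α : MulChar F ℂ, ∑ b : Fˣ, α b * f b = 0) :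
    f = 0 := by
  haveI := Fintype.ofFinite (MulChar F ℂ)
  funext a
  have := char_expansion f a
  simp only [h, zero_mul, Finset.sum_const_zero] at this
  exact (mul_eq_zero.mp this.symm).resolve_left card_sub_one_ne_zero

/-- Upper triangular element. -/
noncomputable def bG (a d : Fˣ) (x : F) : G2 :=
  GeneralLinearGroup.mkOfDetNeZero !![(a : F), x; 0, (d : F)] (by simp [Matrix.det_fin_two])

theorem bG_coe (a d : Fˣ) (x : F) : (bG a d x : M2) = !![(a : F), x; 0, (d : F)] := rfl

/-- Upper triangular element of determinant one. -/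
def bS (a : Fˣ) (x : F) : S2 :=
  ⟨!![(a : F), x; 0, ((a⁻¹ : Fˣ) : F)], by simp [Matrix.det_fin_two]⟩

theorem bS_coe (a : Fˣ) (x : F) : (bS a x : M2) = !![(a : F), x; 0, ((a⁻¹ : Fˣ) : F)] := rfl

theorem toGL_bS (a : Fˣ) (x : F) : SpecialLinearGroup.toGL (bS a x) = bG a a⁻¹ x := Units.ext rfl

theorem bG_mem (a d : Fˣ) (x : F) : bG a d x ∈ BG := mem_BG.mpr (by simp [bG_coe])

theorem bS_mem (a : Fˣ) (x : F) : bS a x ∈ BS := mem_BS.mpr (by simp [bS_coe])

theorem det_upper (b : BG) :
    ((b : G2) : M2) 0 0 ≠ 0 ∧ ((b : G2) : M2) 1 1 ≠ 0 := by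
  have h := det_ne_zero (b : G2)
  rw [Matrix.det_fin_two, mem_BG.mp b.2, mul_zero, sub_zero] at h
  exact mul_ne_zero_iff.mp h

/-- Coordinates on the upper triangular subgroup. -/
noncomputable def eBG : (Fˣ × Fˣ) × F ≃ BG where
  toFun p := ⟨bG p.1.1 p.1.2 p.2, bG_mem _ _ _⟩
  invFun b := ((Units.mk0 _ (det_upper b).1, Units.mk0 _ (det_upper b).2), ((b : G2) : M2) 0 1)
  left_inv p := Prod.ext (Prod.ext (Units.ext (by simp [bG_coe])) (Units.ext (by simp [bG_coe])))
    (by simp [bG_coe])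
  right_inv b := Subtype.ext (Units.ext (by
    show ((bG _ _ _ : G2) : M2) = ((b : G2) : M2)
    rw [bG_coe]
    apply coord <;> simp [mem_BG.mp b.2]))

/-- Coordinates on the upper triangular subgroup of determinant one. -/
noncomputable def eBS : Fˣ × F ≃ BS where
  toFun p := ⟨bS p.1 p.2, bS_mem _ _⟩
  invFun b := (Units.mk0 _ (entry_ne_zero b).1, ((b : S2) : M2) 0 1)
  left_inv p := Prod.ext (Units.ext (by simp [bS_coe])) (by simp [bS_coe])
  right_inv b := Subtype.ext (Subtype.ext (by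
    show ((bS _ _ : S2) : M2) = ((b : S2) : M2)
    have hd := detS (b : S2)
    rw [Matrix.det_fin_two, mem_BS.mp b.2, mul_zero, sub_zero] at hd
    rw [bS_coe]
    apply coord <;> simp [mem_BS.mp b.2]
    exact inv_eq_of_mul_eq_one_right hd))

theorem card_BG : (Nat.card BG : ℂ) = ((Fintype.card F : ℂ) - 1) ^ 2 * Fintype.card F := by
  rw [← Nat.card_congr eBG, Nat.card_prod, Nat.card_prod, Nat.cast_mul, Nat.cast_mul,
    card_units_cast, Nat.card_eq_fintype_card, pow_two]

theorem card_BS : (Nat.card BS : ℂ) = ((Fintype.card F : ℂ) - 1) * Fintype.card F := by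
  rw [← Nat.card_congr eBS, Nat.card_prod, Nat.cast_mul, card_units_cast,
    Nat.card_eq_fintype_card]

/-- Sum over a coset of the unipotent radical. -/
noncomputable def SG (χ : G2 → ℂ) (a d : Fˣ) : ℂ := ∑ x : F, χ (bG a d x)

/-- Sum over a coset of the unipotent radical, determinant one. -/
noncomputable def SS (χ : S2 → ℂ) (a : Fˣ) : ℂ := ∑ x : F, χ (bS a x)

theorem isClassFunction_RG (α β : MulChar F ℂ) : Cfsg.IsClassFunction G2 (RG α β) :=
  Cfsg.Agent.Char.IsCharacter.isClassFunction (isCharacter_RG α β)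

theorem isClassFunction_RS (α : MulChar F ℂ) : Cfsg.IsClassFunction S2 (RS α) :=
  Cfsg.Agent.Char.IsCharacter.isClassFunction (isCharacter_RS α)

theorem inner_RG_left (α β : MulChar F ℂ) {χ : G2 → ℂ} (hχ : Cfsg.IsClassFunction G2 χ) :
    Cfsg.classInner (RG α β) χ = (((Fintype.card F : ℂ) - 1) ^ 2 * Fintype.card F)⁻¹ *
      ∑ a : Fˣ, ∑ d : Fˣ, α a * β d * conj (SG χ a d) := by
  haveI := Fintype.ofFinite BG
  rw [RG, Cfsg.Agent.Char.classInner_indFun BG _ hχ, Cfsg.classInner, card_BG,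
    ← eBG.sum_comp, Fintype.sum_prod_type, Fintype.sum_prod_type]
  congr 1
  refine Fintype.sum_congr _ _ fun a => Fintype.sum_congr _ _ fun d => ?_
  rw [SG, map_sum, Finset.mul_sum]
  refine Fintype.sum_congr _ _ fun x => ?_
  simp [eBG, bG_coe]

theorem inner_RS_left (α : MulChar F ℂ) {χ : S2 → ℂ} (hχ : Cfsg.IsClassFunction S2 χ) :
    Cfsg.classInner (RS α) χ = (((Fintype.card F : ℂ) - 1) * Fintype.card F)⁻¹ *
      ∑ a : Fˣ, α a * conj (SS χ a) := by
  haveI := Fintype.ofFinite BS
  rw [RS, Cfsg.Agent.Char.classInner_indFun BS _ hχ, Cfsg.classInner, card_BS,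
    ← eBS.sum_comp, Fintype.sum_prod_type]
  congr 1
  refine Fintype.sum_congr _ _ fun a => ?_
  rw [SS, map_sum, Finset.mul_sum]
  refine Fintype.sum_congr _ _ fun x => ?_
  simp [eBS, bS_coe]

theorem sum_psFun_upper (a b : F → ℂ) (u v : F) :
    ∑ x : F, psFun a b !![u, x; 0, v] =
      (Fintype.card F : ℂ) * (a u * b v + a v * b u) := by
  simp only [psFun]
  rw [Finset.sum_add_distrib, Finset.sum_comm]
  have h : ∀ x y : F, rootQ !![u, x; 0, v] y = 0 ↔ (v - u) * y = x := fun x y => by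
    simp [rootQ, sub_eq_zero]
  simp [h]
  ring

theorem SG_RG (α β : MulChar F ℂ) (a d : Fˣ) :
    SG (RG α β) a d = (Fintype.card F : ℂ) * (α a * β d + α d * β a) := by
  simp only [SG, RG_apply, bG_coe]
  exact sum_psFun_upper _ _ _ _

theorem SS_RS (α : MulChar F ℂ) (a : Fˣ) :
    SS (RS α) a = (Fintype.card F : ℂ) * (α a + α ((a⁻¹ : Fˣ) : F)) := by
  simp only [SS, RS_apply, bS_coe]
  rw [sum_psFun_upper]
  simp only [MulChar.one_apply_coe, mul_one]

theorem inner_RG (α β α' β' : MulChar F ℂ) [Decidable (α = α' ∧ β = β')]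
    [Decidable (α = β' ∧ β = α')] :
    Cfsg.classInner (RG α β) (RG α' β') =
      (if α = α' ∧ β = β' then 1 else 0) + (if α = β' ∧ β = α' then 1 else 0) := by
  classical
  rw [inner_RG_left α β (isClassFunction_RG α' β')]
  simp only [SG_RG, map_mul, map_add, map_natCast]
  have e : ∀ a d : Fˣ,
      α a * β d * ((Fintype.card F : ℂ) * (conj (α' a) * conj (β' d) + conj (α' d) * conj (β' a))) =
      (Fintype.card F : ℂ) * ((α a * conj (α' a)) * (β d * conj (β' d))) +
        (Fintype.card F : ℂ) * ((α a * conj (β' a)) * (β d * conj (α' d))) := fun a d => by ring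
  simp only [e, Finset.sum_add_distrib, ← Finset.mul_sum, ← Finset.sum_mul, sum_units_orth]
  have hq : (Fintype.card F : ℂ) ≠ 0 := Nat.cast_ne_zero.mpr Fintype.card_ne_zero
  have h1 := card_sub_one_ne_zero (F := F)
  have key : ∀ (P : Prop) [Decidable P] (c : ℂ),
      (if P then c else 0) = c * (if P then 1 else 0) := fun P _ c => by split_ifs <;> simp
  have hand : ∀ (P Q : Prop) [Decidable P] [Decidable Q] [Decidable (P ∧ Q)],
      (if P ∧ Q then (1 : ℂ) else 0) = (if P then 1 else 0) * (if Q then 1 else 0) :=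
    fun P Q _ _ _ => by by_cases hP : P <;> by_cases hQ : Q <;> simp [hP, hQ]
  rw [hand (α = α') (β = β'), hand (α = β') (β = α')]
  simp only [key _ ((Fintype.card F : ℂ) - 1)]
  field_simp

theorem inner_RS (α β : MulChar F ℂ) [Decidable (α = β)] [Decidable (α = β⁻¹)] :
    Cfsg.classInner (RS α) (RS β) = (if α = β then 1 else 0) + (if α = β⁻¹ then 1 else 0) := by
  classical
  rw [inner_RS_left α (isClassFunction_RS β)]
  simp only [SS_RS, map_mul, map_add, map_natCast]
  have e2 : ∀ a : Fˣ, conj (β ((a⁻¹ : Fˣ) : F)) = conj ((β⁻¹) (a : F)) := fun a => by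
    rw [MulChar.inv_apply', Units.val_inv_eq_inv_val]
  have e : ∀ a : Fˣ, α a * ((Fintype.card F : ℂ) * (conj (β a) + conj (β ((a⁻¹ : Fˣ) : F)))) =
      (Fintype.card F : ℂ) * (α a * conj (β a)) +
        (Fintype.card F : ℂ) * (α a * conj ((β⁻¹) (a : F))) := fun a => by rw [e2]; ring
  simp only [e, Finset.sum_add_distrib, ← Finset.mul_sum, sum_units_orth]
  have hq : (Fintype.card F : ℂ) ≠ 0 := Nat.cast_ne_zero.mpr Fintype.card_ne_zero
  have h1 := card_sub_one_ne_zero (F := F)
  have key : ∀ (P : Prop) [Decidable P] (c : ℂ),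
      (if P then c else 0) = c * (if P then 1 else 0) := fun P _ c => by split_ifs <;> simp
  simp only [key _ ((Fintype.card F : ℂ) - 1)]
  field_simp

theorem RG_swap (α β : MulChar F ℂ) : RG α β = RG β α := by
  classical
  refine sub_eq_zero.mp (Cfsg.Agent.Char.classInner_self_eq_zero ?_)
  rw [Cfsg.Agent.Char.classInner_sub_left, Cfsg.Agent.Char.classInner_sub_right,
    Cfsg.Agent.Char.classInner_sub_right, inner_RG, inner_RG, inner_RG, inner_RG]
  by_cases h : α = β
  · subst h; simp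
  · simp [h, Ne.symm h]

end Cfsg.Agent.GL2
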