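/-
Multipliers through a perfect cover with trivial multiplier.
-/
import Mathlib
import Cfsg.Agent.S3961

set_option autoImplicit false

namespace Cfsg.Agent.GL2

universe u

theorem hasCyclic_of_perfect_cover {G Q : Type u} [Group G] [Finite G] [Group Q] (hG : Group.IsPerfect G)
    (hm : Cfsg.HasCyclicSchurMultiplier G 1) (π : G →* Q) (hπ : Function.Surjective π)
    (hker : π.ker ≤ Subgroup.center G) (hcyc : IsCyclic π.ker) {n : ℕ} (hn : Nat.card π.ker = n) :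
    Cfsg.HasCyclicSchurMultiplier Q n := by
  haveI : Finite Q := Finite.of_surjective π hπ
  haveI : NeZero n := ⟨hn ▸ Nat.card_pos.ne'⟩
  obtain ⟨c, hc⟩ := hcyc.exists_generator
  refine Cfsg.Agent.Struct.Schur.hasCyclic_of_bound Q (fun Γ _ _ σ hσ => ?_) G π
    ⟨hπ, hker, by rw [hG.commutator_eq_top]; exact le_top⟩ hn
  obtain ⟨hσs, hσc, hσd⟩ := hσ
  obtain ⟨η, hη⟩ := (Cfsg.Agent.S3961.result hG π hπ hker).mpr hm Γ σ hσs hσc
  have hrange : η.range = ⊤ := by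
    rw [eq_top_iff]
    intro g _
    have hsplit : ∀ g : Γ, ∃ x, ∀ y : Γ, Commute ((η x)⁻¹ * g) y := fun g => by
      obtain ⟨x, hx⟩ := hπ (σ g)
      refine ⟨x, fun y => (Subgroup.mem_center_iff.mp (hσc ?_) y).symm⟩
      rw [MonoidHom.mem_ker, map_mul, map_inv, ← MonoidHom.comp_apply, hη, hx, inv_mul_cancel]
    have hder : commutator Γ ≤ η.range := by
      rw [commutator_def, Subgroup.commutator_le]
      intro a _ b _
      obtain ⟨x, hx⟩ := hsplit a
      obtain ⟨y, hy⟩ := hsplit b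
      refine ⟨x * y * x⁻¹ * y⁻¹, ?_⟩
      rw [map_mul, map_mul, map_mul, map_inv, map_inv, commutatorElement_def]
      set k := (η x)⁻¹ * a with hk
      set m := (η y)⁻¹ * b with hm'
      have ea : a = η x * k := by rw [hk, mul_inv_cancel_left]
      have eb : b = η y * m := by rw [hm', mul_inv_cancel_left]
      rw [ea, eb]
      calc η x * η y * (η x)⁻¹ * (η y)⁻¹ = η x * η y * ((η x)⁻¹ * m) * m⁻¹ * (η y)⁻¹ := by group
        _ = η x * η y * (m * (η x)⁻¹) * m⁻¹ * (η y)⁻¹ := by rw [(hy (η x)⁻¹).eq]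
        _ = η x * η y * (m * k) * k⁻¹ * (η x)⁻¹ * m⁻¹ * (η y)⁻¹ := by group
        _ = η x * η y * (k * m) * k⁻¹ * (η x)⁻¹ * m⁻¹ * (η y)⁻¹ := by rw [(hy k).eq]
        _ = η x * (η y * k) * m * k⁻¹ * (η x)⁻¹ * m⁻¹ * (η y)⁻¹ := by group
        _ = η x * (k * η y) * m * k⁻¹ * (η x)⁻¹ * m⁻¹ * (η y)⁻¹ := by rw [(hx (η y)).eq]
        _ = _ := by group
    obtain ⟨x, hx⟩ := hπ (σ g)
    have hker' : (η x)⁻¹ * g ∈ η.range := hder (hσd (by
      rw [MonoidHom.mem_ker, map_mul, map_inv, ← MonoidHom.comp_apply, hη, hx, inv_mul_cancel]))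
    have := η.range.mul_mem (⟨x, rfl⟩ : η x ∈ η.range) hker'
    rwa [mul_inv_cancel_left] at this
  refine ⟨η c, ?_, ?_, fun g hg => ?_⟩
  · rw [MonoidHom.mem_ker, ← MonoidHom.comp_apply, hη]
    exact c.2
  · rw [← map_pow, ← SubmonoidClass.coe_pow, ← hn, pow_card_eq_one']
    exact map_one η
  · obtain ⟨x, rfl⟩ := hrange.ge (Subgroup.mem_top g)
    have hx : x ∈ π.ker := by
      rw [MonoidHom.mem_ker, ← hη]; exact hg
    obtain ⟨k, hk⟩ := Subgroup.mem_zpowers_iff.mp (hc ⟨x, hx⟩)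
    refine ⟨k, ?_⟩
    show η (c : G) ^ k = η x
    rw [← map_zpow, ← SubgroupClass.coe_zpow, hk]

end Cfsg.Agent.GL2
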