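import Cfsg.Agent.Lib.GL2.SLChars
import Cfsg.Agent.Lib.Char.Extraspecial

/-!
# Counting the irreducible characters of the special linear group of degree two
-/

set_option autoImplicit false
set_option linter.unusedSectionVars false

open Matrix
open scoped MatrixGroups ComplexConjugate

namespace Cfsg.Agent.GL2

open Cfsg.Agent.Classical.SL2 (coord card_SL2)
open Cfsg.Agent.Char

variable {F : Type*} [Field F] [Fintype F] [DecidableEq F]

local notation "M2" => Matrix (Fin 2) (Fin 2) F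
local notation "S2" => Matrix.SpecialLinearGroup (Fin 2) F
local notation "G2" => GL (Fin 2) F

theorem exists_covers : ∃ e : Fˣ, Covers e ∧ (ringChar F ≠ 2 → ¬ IsSquare (e : F)) := by
  rcases two_cases (F := F) with ⟨hc, -⟩ | ⟨hc, -⟩
  · exact ⟨1, fun b _ => Or.inl (FiniteField.isSquare_of_char_two hc b), fun h => absurd hc h⟩
  · obtain ⟨e, he⟩ := FiniteField.exists_nonsquare hc
    have he0 : e ≠ 0 := fun h => he (by rw [h]; exact IsSquare.zero)
    refine ⟨Units.mk0 e he0, fun b hb => ?_, fun _ => he⟩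
    by_cases hbs : IsSquare b
    · exact Or.inl hbs
    · refine Or.inr ((quadraticChar_one_iff_isSquare (mul_ne_zero he0 hb)).mp ?_)
      rw [map_mul, quadraticChar_neg_one_iff_not_isSquare.mpr he,
        quadraticChar_neg_one_iff_not_isSquare.mpr hbs]
      norm_num

theorem card_sq_one_chars :
    Nat.card {α : MulChar F ℂ // α ^ 2 = 1} = Nat.card {z : F // z * z = 1} := by
  haveI : NeZero (Monoid.exponent Fˣ) := ⟨Monoid.exponent_ne_zero_of_finite⟩
  obtain ⟨φ⟩ := MulChar.mulEquiv_units F ℂ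
  refine (Nat.card_congr (φ.toEquiv.subtypeEquiv (q := fun x : Fˣ => x ^ 2 = 1) fun α => ?_)).trans ?_
  · rw [MulEquiv.toEquiv_eq_coe, MulEquiv.coe_toEquiv, ← map_pow, MulEquiv.map_eq_one_iff]
  · exact Nat.card_congr
      { toFun := fun x => ⟨(x.1 : F), by
          have := congrArg Units.val x.2
          rwa [Units.val_pow_eq_pow_val, pow_two] at this⟩
        invFun := fun z => ⟨Units.mk0 z.1 (z_ne_zero z), Units.ext (by
          rw [Units.val_pow_eq_pow_val, pow_two]; exact z.2)⟩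
        left_inv := fun x => Subtype.ext (Units.ext rfl)
        right_inv := fun z => rfl }

/-- An irreducible induced character. -/
def IsPS (χ : S2 → ℂ) : Prop := ∃ α : MulChar F ℂ, α ^ 2 ≠ 1 ∧ χ = RS α

/-- A half of a reducible induced character. -/
def IsHalf (χ : S2 → ℂ) : Prop :=
  ∃ α : MulChar F ℂ, α ^ 2 = 1 ∧ α ≠ 1 ∧ Cfsg.classInner (RS α) χ ≠ 0

/-- A cuspidal character of full degree. -/
def IsFull (χ : S2 → ℂ) : Prop := IsCuspS χ ∧ χ 1 = (Fintype.card F : ℂ) - 1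

/-- A half of a cuspidal character. -/
def IsCuspHalf (χ : S2 → ℂ) : Prop := IsCuspS χ ∧ χ 1 + χ 1 = (Fintype.card F : ℂ) - 1

theorem mem_halves {χ χ₁ χ₂ : S2 → ℂ} {α : MulChar F ℂ} (hχ : Cfsg.IsIrrCharacter S2 χ)
    (h1 : Cfsg.IsIrrCharacter S2 χ₁) (h2 : Cfsg.IsIrrCharacter S2 χ₂) (e : RS α = χ₁ + χ₂)
    (h : Cfsg.classInner (RS α) χ ≠ 0) : χ = χ₁ ∨ χ = χ₂ := by
  by_contra hn
  rw [not_or] at hn
  apply h
  rw [e, classInner_add_left, IsIrrCharacter.classInner_eq_zero h1 hχ (Ne.symm hn.1),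
    IsIrrCharacter.classInner_eq_zero h2 hχ (Ne.symm hn.2), add_zero]

theorem half_props {χ : S2 → ℂ} (hχ : Cfsg.IsIrrCharacter S2 χ) {α : MulChar F ℂ} (hα : α ^ 2 = 1)
    (hα1 : α ≠ 1) (h : Cfsg.classInner (RS α) χ ≠ 0) :
    χ 1 + χ 1 = (Fintype.card F : ℂ) + 1 ∧
      (∀ a, SS χ a = (Fintype.card F : ℂ) * α a) ∧
      (∀ e : Fˣ, Covers e → RS α = χ + tw e χ ∧ tw e χ ≠ χ) := by
  have key : ∀ e : Fˣ, Covers e → χ 1 + χ 1 = (Fintype.card F : ℂ) + 1 ∧
      (∀ a, SS χ a = (Fintype.card F : ℂ) * α a) ∧ RS α = χ + tw e χ ∧ tw e χ ≠ χ := by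
    intro e he
    obtain ⟨χ₁, χ₂, h1, h2, hne, e12, hsw, hd, hd2, hS1, hS2⟩ := exists_halves hα hα1 he
    rcases mem_halves hχ h1 h2 e12 h with rfl | rfl
    · exact ⟨hd, hS1, by rw [← hsw]; exact e12, by rw [← hsw]; exact hne.symm⟩
    · have hb : tw e χ = χ₁ := by
        rw [hsw, tw_tw (IsCharacter.isClassFunction (IsIrrCharacter.isCharacter h1))]
      exact ⟨by rw [hd2]; exact hd, hS2, by rw [hb, e12, add_comm], by rw [hb]; exact hne⟩
  obtain ⟨e, he, -⟩ := exists_covers (F := F)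
  exact ⟨(key e he).1, (key e he).2.1, fun e' he' => (key e' he').2.2⟩

theorem cusp_degree {χ : S2 → ℂ} (hχ : Cfsg.IsIrrCharacter S2 χ) (h : IsCuspS χ) :
    IsFull χ ∨ IsCuspHalf χ := by
  obtain ⟨e, he, -⟩ := exists_covers (F := F)
  rcases cusp_kind hχ h he with h' | h'
  · exact Or.inl ⟨h, h'.1⟩
  · exact Or.inr ⟨h, h'.1⟩

theorem SS_StS (a : Fˣ) : SS StS a = (Fintype.card F : ℂ) := by
  have h : SS StS a = SS (RS (1 : MulChar F ℂ)) a - SS (1 : S2 → ℂ) a := by
    simp [SS, StS, Finset.sum_sub_distrib]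
  rw [h, SS_RS, SS_one, MulChar.one_apply_coe, MulChar.one_apply_coe]
  ring

open _root_.Classical in
/-- The census. -/
theorem sl_census :
    2 * Nat.card {χ : Cfsg.IrrCharacter S2 // IsPS (χ : S2 → ℂ)} +
        Nat.card {z : F // z * z = 1} + 1 = Fintype.card F ∧
      Nat.card {χ : Cfsg.IrrCharacter S2 // IsHalf (χ : S2 → ℂ)} =
        2 * (Nat.card {z : F // z * z = 1} - 1) ∧
      2 * Nat.card {χ : Cfsg.IrrCharacter S2 // IsFull (χ : S2 → ℂ)} +
        Nat.card {z : F // z * z = 1} = Fintype.card F + 1 ∧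
      Nat.card {χ : Cfsg.IrrCharacter S2 // IsCuspHalf (χ : S2 → ℂ)} =
        2 * (Nat.card {z : F // z * z = 1} - 1) := by
  haveI := Fintype.ofFinite (Cfsg.IrrCharacter S2)
  haveI := Fintype.ofFinite (MulChar F ℂ)
  have hq : 2 ≤ Fintype.card F := Fintype.one_lt_card
  have hm : Fintype.card (MulChar F ℂ) + 1 = Fintype.card F := by
    rw [← Nat.card_eq_fintype_card, card_mulChar]; omega
  obtain ⟨R, h0, hex, hun, hZ, hR1, hR2⟩ := exists_rep (F := F)
  have hN : Nat.card {z : F // z * z = 1} = 1 ∨ Nat.card {z : F // z * z = 1} = 2 := by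
    rw [← hZ]
    rcases two_cases (F := F) with ⟨hc, -⟩ | ⟨hc, -⟩
    · exact Or.inl (hR1 hc)
    · exact Or.inr (hR2 hc)
  generalize hNdef : Nat.card {z : F // z * z = 1} = N at hN hZ ⊢
  set A := Finset.univ.filter fun α : MulChar F ℂ => α ^ 2 = 1 with hA
  have cA : A.card = N := by
    rw [← hNdef, ← card_sq_one_chars, Nat.card_eq_fintype_card, Fintype.card_subtype, hA]
  let pr : MulChar F ℂ → Finset (Cfsg.IrrCharacter S2) := fun α =>
    Finset.univ.filter fun χ => Cfsg.classInner (RS α) (χ : S2 → ℂ) ≠ 0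
  set P := Finset.univ.filter fun χ : Cfsg.IrrCharacter S2 => IsPS (χ : S2 → ℂ) with hP
  set H := Finset.univ.filter fun χ : Cfsg.IrrCharacter S2 => IsHalf (χ : S2 → ℂ) with hH
  set CF := Finset.univ.filter fun χ : Cfsg.IrrCharacter S2 => IsFull (χ : S2 → ℂ) with hCF
  set CH := Finset.univ.filter fun χ : Cfsg.IrrCharacter S2 => IsCuspHalf (χ : S2 → ℂ) with hCH
  let o : Cfsg.IrrCharacter S2 := ⟨1, isIrrCharacter_one⟩
  let t : Cfsg.IrrCharacter S2 := ⟨StS, isIrr_StS⟩
  have cH : H.card = 2 * (N - 1) := by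
    have hHu : H = (A.erase 1).biUnion pr := by
      ext χ
      rw [Finset.mem_biUnion]
      constructor
      · intro h
        obtain ⟨α, a, b, c⟩ := (Finset.mem_filter.mp h).2
        exact ⟨α, Finset.mem_erase.mpr ⟨b, Finset.mem_filter.mpr ⟨Finset.mem_univ _, a⟩⟩,
          Finset.mem_filter.mpr ⟨Finset.mem_univ _, c⟩⟩
      · rintro ⟨α, ha, hc⟩
        obtain ⟨b, a⟩ := Finset.mem_erase.mp ha
        exact Finset.mem_filter.mpr ⟨Finset.mem_univ _, α, (Finset.mem_filter.mp a).2, b,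
          (Finset.mem_filter.mp hc).2⟩
    rw [hHu, Finset.card_biUnion, Finset.sum_congr rfl (g := fun _ => 2) fun α hα => ?_,
      Finset.sum_const, smul_eq_mul, Finset.card_erase_of_mem (by simp [hA]), cA, mul_comm]
    · obtain ⟨hα1, hα2⟩ := Finset.mem_erase.mp hα
      have hα2' := (Finset.mem_filter.mp hα2).2
      obtain ⟨e, he, -⟩ := exists_covers (F := F)
      obtain ⟨χ₁, χ₂, h1, h2, hne, e12, -, -, -, -, -⟩ := exists_halves hα2' hα1 he
      rw [Finset.card_eq_two]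
      refine ⟨⟨χ₁, h1⟩, ⟨χ₂, h2⟩, fun h => hne (congrArg Subtype.val h), ?_⟩
      ext χ
      simp only [pr, Finset.mem_filter, Finset.mem_univ, true_and, Finset.mem_insert,
        Finset.mem_singleton]
      constructor
      · intro h
        rcases mem_halves χ.2 h1 h2 e12 h with h' | h'
        · exact Or.inl (Subtype.ext h')
        · exact Or.inr (Subtype.ext h')
      · rintro (rfl | rfl)
        · rw [e12, classInner_add_left, IsIrrCharacter.classInner_self h1,
            IsIrrCharacter.classInner_eq_zero h2 h1 hne.symm, add_zero]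
          exact one_ne_zero
        · rw [e12, classInner_add_left, IsIrrCharacter.classInner_self h2,
            IsIrrCharacter.classInner_eq_zero h1 h2 hne, zero_add]
          exact one_ne_zero
    · intro α hα β hβ hab
      rw [Function.onFun, Finset.disjoint_left]
      intro χ h1 h2
      obtain ⟨hα1, hα2⟩ := Finset.mem_erase.mp hα
      obtain ⟨hβ1, hβ2⟩ := Finset.mem_erase.mp hβ
      have e1 := (half_props χ.2 (Finset.mem_filter.mp hα2).2 hα1 (Finset.mem_filter.mp h1).2).2.1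
      have e2 := (half_props χ.2 (Finset.mem_filter.mp hβ2).2 hβ1 (Finset.mem_filter.mp h2).2).2.1
      exact hab (MulChar.ext fun a => mul_left_cancel₀ card_ne_zero_C ((e1 a).symm.trans (e2 a)))
  have cP : 2 * P.card + N + 1 = Fintype.card F := by
    let D := Finset.univ.filter fun α : MulChar F ℂ => α ^ 2 ≠ 1
    have hD : D.card + N = Fintype.card (MulChar F ℂ) := by
      rw [← cA, add_comm, hA, Finset.card_filter_add_card_filter_not, Finset.card_univ]
    have hf : D.card = P.card * 2 := by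
      rw [Finset.card_eq_sum_card_fiberwise (t := P)
        (f := fun α => if h : α ^ 2 ≠ 1 then (⟨RS α, isIrr_RS h⟩ : Cfsg.IrrCharacter S2) else o)
        (fun α hα => by
          have h := (Finset.mem_filter.mp hα).2
          simp only [dif_pos h]
          simp only [Finset.coe_filter, hP, Finset.mem_univ, true_and, Set.mem_ofPred_eq]
          exact ⟨α, h, rfl⟩),
        Finset.sum_congr rfl (g := fun _ => 2) fun χ hχ => ?_, Finset.sum_const, smul_eq_mul]
      obtain ⟨α, hα, e⟩ := (Finset.mem_filter.mp hχ).2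
      rw [Finset.card_eq_two]
      refine ⟨α, α⁻¹, fun h => hα (sq_eq_one_iff_inv.mpr h), ?_⟩
      have hα' : (α⁻¹) ^ 2 ≠ 1 := by rw [inv_pow]; simpa using hα
      ext β
      simp only [D, Finset.mem_filter, Finset.mem_univ, true_and, Finset.mem_insert,
        Finset.mem_singleton]
      constructor
      · rintro ⟨hb, hp⟩
        rw [dif_pos hb] at hp
        have := congrArg Subtype.val hp
        simp only [e] at this
        exact RS_eq_iff.mp this
      · rintro (rfl | rfl)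
        · exact ⟨hα, by rw [dif_pos hα]; exact Subtype.ext e.symm⟩
        · exact ⟨hα', by
            rw [dif_pos hα']; exact Subtype.ext ((RS_eq_iff.mpr (Or.inr rfl)).trans e.symm)⟩
    omega
  have dP : ∀ χ ∈ P, (χ : S2 → ℂ) 1 + (χ : S2 → ℂ) 1 = 2 * Fintype.card F + 2 ∧
      SS (χ : S2 → ℂ) 1 ≠ 0 := fun χ h => by
    obtain ⟨α, -, hα⟩ := (Finset.mem_filter.mp h).2
    rw [hα, RS_one_apply, SS_RS]
    refine ⟨by ring, mul_ne_zero card_ne_zero_C ?_⟩
    simp only [inv_one, Units.val_one, map_one]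
    norm_num
  have dH : ∀ χ ∈ H, (χ : S2 → ℂ) 1 + (χ : S2 → ℂ) 1 = Fintype.card F + 1 ∧
      SS (χ : S2 → ℂ) 1 ≠ 0 := fun χ h => by
    obtain ⟨α, a, b, c⟩ := (Finset.mem_filter.mp h).2
    obtain ⟨hd, hS, -⟩ := half_props χ.2 a b c
    refine ⟨hd, ?_⟩
    rw [hS, Units.val_one, map_one, mul_one]
    exact card_ne_zero_C
  have do' : (o : S2 → ℂ) 1 + (o : S2 → ℂ) 1 = 2 ∧ SS (o : S2 → ℂ) 1 ≠ 0 :=
    ⟨by show (1 : ℂ) + 1 = 2; norm_num, by
      show SS (1 : S2 → ℂ) 1 ≠ 0; rw [SS_one]; exact card_ne_zero_C⟩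
  have dt : (t : S2 → ℂ) 1 + (t : S2 → ℂ) 1 = 2 * Fintype.card F ∧ SS (t : S2 → ℂ) 1 ≠ 0 :=
    ⟨by show StS 1 + StS 1 = _; rw [StS_one]; ring, by
      show SS (StS : S2 → ℂ) 1 ≠ 0; rw [SS_StS]; exact card_ne_zero_C⟩
  have dF : ∀ χ ∈ CF, (χ : S2 → ℂ) 1 = Fintype.card F - 1 ∧ SS (χ : S2 → ℂ) 1 = 0 := fun χ h =>
    ⟨(Finset.mem_filter.mp h).2.2, (Finset.mem_filter.mp h).2.1 1⟩
  have dC : ∀ χ ∈ CH, (χ : S2 → ℂ) 1 + (χ : S2 → ℂ) 1 = Fintype.card F - 1 ∧
      SS (χ : S2 → ℂ) 1 = 0 := fun χ h =>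
    ⟨(Finset.mem_filter.mp h).2.2, (Finset.mem_filter.mp h).2.1 1⟩
  have hqC : (2 : ℂ) ≠ 0 := two_ne_zero
  have huniv : ({o, t} ∪ P ∪ H) ∪ (CF ∪ CH) = Finset.univ := Finset.eq_univ_of_forall fun χ => by
    simp only [Finset.mem_union, Finset.mem_insert, Finset.mem_singleton, hP, hH, hCF, hCH,
      Finset.mem_filter, Finset.mem_univ, true_and]
    rcases sl_cases χ.2 with h | h | h | h | h
    · exact Or.inl (Or.inl (Or.inl (Or.inl (Subtype.ext h))))
    · exact Or.inl (Or.inl (Or.inl (Or.inr (Subtype.ext h))))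
    · exact Or.inl (Or.inl (Or.inr h))
    · exact Or.inl (Or.inr h)
    · exact Or.inr (cusp_degree χ.2 h)
  have hot : o ≠ t := fun h => by
    have := do'.1.symm.trans ((congrArg (fun χ : Cfsg.IrrCharacter S2 =>
      (χ : S2 → ℂ) 1 + (χ : S2 → ℂ) 1) h).trans dt.1)
    have : (2 : ℕ) = 2 * Fintype.card F := by exact_mod_cast this
    omega
  have d1 : Disjoint ({o, t} : Finset _) P := Finset.disjoint_left.mpr fun χ h1 h2 => by
    have h' := (dP χ h2).1
    rcases Finset.mem_insert.mp h1 with rfl | h1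
    · have : (2 : ℕ) = 2 * Fintype.card F + 2 := by exact_mod_cast do'.1.symm.trans h'
      omega
    · rw [Finset.mem_singleton] at h1; subst h1
      have : 2 * Fintype.card F = 2 * Fintype.card F + 2 := by exact_mod_cast dt.1.symm.trans h'
      omega
  have d2 : Disjoint ({o, t} ∪ P) H := Finset.disjoint_left.mpr fun χ h1 h2 => by
    have h' := (dH χ h2).1
    rcases Finset.mem_union.mp h1 with h1 | h1
    · rcases Finset.mem_insert.mp h1 with rfl | h1
      · have : (2 : ℕ) = Fintype.card F + 1 := by exact_mod_cast do'.1.symm.trans h'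
        omega
      · rw [Finset.mem_singleton] at h1; subst h1
        have : 2 * Fintype.card F = Fintype.card F + 1 := by exact_mod_cast dt.1.symm.trans h'
        omega
    · have : 2 * Fintype.card F + 2 = Fintype.card F + 1 := by
        exact_mod_cast (dP χ h1).1.symm.trans h'
      omega
  have d3 : Disjoint CF CH := Finset.disjoint_left.mpr fun χ h1 h2 => by
    have h := (dC χ h2).1
    rw [(dF χ h1).1] at h
    exact card_sub_one_ne_zero (by linear_combination h)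
  have d4 : Disjoint ({o, t} ∪ P ∪ H) (CF ∪ CH) := Finset.disjoint_left.mpr fun χ h1 h2 => by
    have hz : SS (χ : S2 → ℂ) 1 = 0 := by
      rcases Finset.mem_union.mp h2 with h | h
      · exact (dF χ h).2
      · exact (dC χ h).2
    rcases Finset.mem_union.mp h1 with h | h
    · rcases Finset.mem_union.mp h with h | h
      · rcases Finset.mem_insert.mp h with rfl | h
        · exact do'.2 hz
        · rw [Finset.mem_singleton] at h; subst h; exact dt.2 hz
      · exact (dP χ h).2 hz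
    · exact (dH χ h).2 hz
  have hcount := congrArg Finset.card huniv
  rw [Finset.card_union_of_disjoint d4, Finset.card_union_of_disjoint d2,
    Finset.card_union_of_disjoint d1, Finset.card_union_of_disjoint d3, Finset.card_pair hot,
    Finset.card_univ, ← Nat.card_eq_fintype_card, Cfsg.Agent.Char.card_irrCharacter,
    card_conjClassesS R h0 hex hun, hNdef, hZ, cH] at hcount
  have hsq := Cfsg.Agent.Char.sum_sq_degree (G := S2)
  rw [← huniv, Finset.sum_union d4, Finset.sum_union d2, Finset.sum_union d1, Finset.sum_union d3,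
    Finset.sum_pair hot] at hsq
  have sP : ∀ χ ∈ P, 4 * (χ : S2 → ℂ) 1 ^ 2 = (2 * (Fintype.card F : ℂ) + 2) ^ 2 := fun χ h => by
    rw [← (dP χ h).1]; ring
  have sH : ∀ χ ∈ H, 4 * (χ : S2 → ℂ) 1 ^ 2 = ((Fintype.card F : ℂ) + 1) ^ 2 := fun χ h => by
    rw [← (dH χ h).1]; ring
  have sF : ∀ χ ∈ CF, 4 * (χ : S2 → ℂ) 1 ^ 2 = 4 * ((Fintype.card F : ℂ) - 1) ^ 2 := fun χ h => by
    rw [(dF χ h).1]
  have sC : ∀ χ ∈ CH, 4 * (χ : S2 → ℂ) 1 ^ 2 = ((Fintype.card F : ℂ) - 1) ^ 2 := fun χ h => by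
    rw [← (dC χ h).1]; ring
  have h4 := congrArg (fun x : ℂ => 4 * x) hsq
  simp only [mul_add, Finset.mul_sum] at h4
  rw [Finset.sum_congr rfl sP, Finset.sum_congr rfl sH, Finset.sum_congr rfl sF,
    Finset.sum_congr rfl sC, Finset.sum_const, Finset.sum_const, Finset.sum_const,
    Finset.sum_const, card_SL2, cH] at h4
  simp only [nsmul_eq_mul] at h4
  have e1 : (o : S2 → ℂ) 1 = 1 := rfl
  have e2 : (t : S2 → ℂ) 1 = Fintype.card F := StS_one
  rw [e1, e2] at h4
  have hP' : 2 * (P.card : ℂ) + (N : ℂ) + 1 = (Fintype.card F : ℂ) := by exact_mod_cast cP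
  have hkey : 4 * CF.card + CH.card = 2 * Fintype.card F := by
    have : ((4 * CF.card + CH.card : ℕ) : ℂ) = ((2 * Fintype.card F : ℕ) : ℂ) := by
      apply mul_right_cancel₀ (pow_ne_zero 2 (card_sub_one_ne_zero (F := F)))
      push_cast [Nat.cast_sub (Nat.one_le_pow 2 _ (by omega : 0 < Fintype.card F))] at h4 ⊢
      rcases hN with rfl | rfl
      · push_cast at h4 hP'
        linear_combination h4 - (2 * ((Fintype.card F : ℂ) + 1) ^ 2) * hP'
      · push_cast at h4 hP'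
        linear_combination h4 - (2 * ((Fintype.card F : ℂ) + 1) ^ 2) * hP'
    exact_mod_cast this
  have hc1 : Nat.card {χ : Cfsg.IrrCharacter S2 // IsPS (χ : S2 → ℂ)} = P.card := by
    rw [Nat.card_eq_fintype_card, Fintype.card_subtype]
  have hc2 : Nat.card {χ : Cfsg.IrrCharacter S2 // IsHalf (χ : S2 → ℂ)} = H.card := by
    rw [Nat.card_eq_fintype_card, Fintype.card_subtype]
  have hc3 : Nat.card {χ : Cfsg.IrrCharacter S2 // IsFull (χ : S2 → ℂ)} = CF.card := by
    rw [Nat.card_eq_fintype_card, Fintype.card_subtype]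
  have hc4 : Nat.card {χ : Cfsg.IrrCharacter S2 // IsCuspHalf (χ : S2 → ℂ)} = CH.card := by
    rw [Nat.card_eq_fintype_card, Fintype.card_subtype]
  rw [hc1, hc2, hc3, hc4]
  rcases hN with rfl | rfl <;> omega

/-- The kind of an irreducible character is determined by its degree. -/
theorem kind_of_degreeS {χ : S2 → ℂ} (hχ : Cfsg.IsIrrCharacter S2 χ) :
    (χ 1 = (Fintype.card F : ℂ) → χ = StS) ∧
    (χ 1 = (Fintype.card F : ℂ) + 1 → IsPS χ) ∧
    (4 ≤ Fintype.card F → χ 1 = (Fintype.card F : ℂ) - 1 → IsFull χ) ∧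
    (Fintype.card F ≠ 3 → χ 1 + χ 1 = (Fintype.card F : ℂ) + 1 → IsHalf χ) ∧
    (Fintype.card F ≠ 3 → χ 1 + χ 1 = (Fintype.card F : ℂ) - 1 → IsCuspHalf χ) ∧
    (4 ≤ Fintype.card F → χ 1 = 1 → χ = 1) := by
  have hq : 2 ≤ Fintype.card F := Fintype.one_lt_card
  have main : ∃ D : ℕ, χ 1 + χ 1 = (D : ℂ) ∧
      ((D = 2 ∧ χ = 1) ∨ (D = 2 * Fintype.card F ∧ χ = StS) ∨
        (D = 2 * Fintype.card F + 2 ∧ IsPS χ) ∨ (D = Fintype.card F + 1 ∧ IsHalf χ) ∨
        (D + 2 = 2 * Fintype.card F ∧ IsFull χ) ∨ (D + 1 = Fintype.card F ∧ IsCuspHalf χ)) := by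
    rcases sl_cases hχ with rfl | rfl | h | h | h
    · exact ⟨2, by simp; norm_num, Or.inl ⟨rfl, rfl⟩⟩
    · exact ⟨2 * Fintype.card F, by rw [StS_one]; push_cast; ring, Or.inr (Or.inl ⟨rfl, rfl⟩)⟩
    · refine ⟨2 * Fintype.card F + 2, ?_, Or.inr (Or.inr (Or.inl ⟨rfl, h⟩))⟩
      obtain ⟨α, -, rfl⟩ := h
      rw [RS_one_apply]; push_cast; ring
    · refine ⟨Fintype.card F + 1, ?_, Or.inr (Or.inr (Or.inr (Or.inl ⟨rfl, h⟩)))⟩
      obtain ⟨α, a, b, c⟩ := h
      push_cast
      exact (half_props hχ a b c).1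
    · rcases cusp_degree hχ h with h' | h'
      · exact ⟨2 * Fintype.card F - 2, by rw [h'.2, Nat.cast_sub (by omega)]; push_cast; ring,
          Or.inr (Or.inr (Or.inr (Or.inr (Or.inl ⟨by omega, h'⟩))))⟩
      · exact ⟨Fintype.card F - 1, by rw [h'.2, Nat.cast_sub (by omega)]; push_cast; rfl,
          Or.inr (Or.inr (Or.inr (Or.inr (Or.inr ⟨by omega, h'⟩))))⟩
  obtain ⟨D, hD, hcases⟩ := main
  refine ⟨fun h => ?_, fun h => ?_, fun _ h => ?_, fun _ h => ?_, fun _ h => ?_, fun _ h => ?_⟩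
  · have e : D = 2 * Fintype.card F := by
      rw [h] at hD; exact_mod_cast show (D : ℂ) = 2 * Fintype.card F by linear_combination -hD
    rcases hcases with ⟨e', h'⟩ | ⟨e', h'⟩ | ⟨e', h'⟩ | ⟨e', h'⟩ | ⟨e', h'⟩ | ⟨e', h'⟩ <;>
      first | exact h' | omega
  · have e : D = 2 * Fintype.card F + 2 := by
      rw [h] at hD; exact_mod_cast show (D : ℂ) = 2 * Fintype.card F + 2 by linear_combination -hD
    rcases hcases with ⟨e', h'⟩ | ⟨e', h'⟩ | ⟨e', h'⟩ | ⟨e', h'⟩ | ⟨e', h'⟩ | ⟨e', h'⟩ <;>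
      first | exact h' | omega
  · have e : D + 2 = 2 * Fintype.card F := by
      rw [h] at hD; exact_mod_cast show (D : ℂ) + 2 = 2 * Fintype.card F by linear_combination -hD
    rcases hcases with ⟨e', h'⟩ | ⟨e', h'⟩ | ⟨e', h'⟩ | ⟨e', h'⟩ | ⟨e', h'⟩ | ⟨e', h'⟩ <;>
      first | exact h' | omega
  · have e : D = Fintype.card F + 1 := by exact_mod_cast hD.symm.trans h
    rcases hcases with ⟨e', h'⟩ | ⟨e', h'⟩ | ⟨e', h'⟩ | ⟨e', h'⟩ | ⟨e', h'⟩ | ⟨e', h'⟩ <;>
      first | exact h' | omega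
  · have e : D + 1 = Fintype.card F := by
      exact_mod_cast show (D : ℂ) + 1 = Fintype.card F by rw [← hD, h]; ring
    rcases hcases with ⟨e', h'⟩ | ⟨e', h'⟩ | ⟨e', h'⟩ | ⟨e', h'⟩ | ⟨e', h'⟩ | ⟨e', h'⟩ <;>
      first | exact h' | omega
  · have e : D = 2 := by
      rw [h] at hD; exact_mod_cast show (D : ℂ) = 2 by linear_combination -hD
    rcases hcases with ⟨e', h'⟩ | ⟨e', h'⟩ | ⟨e', h'⟩ | ⟨e', h'⟩ | ⟨e', h'⟩ | ⟨e', h'⟩ <;>
      first | exact h' | omega

end Cfsg.Agent.GL2
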