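import Cfsg.Agent.Lib.GL2.GLChars

/-!
# The irreducible characters of the special linear group of degree two
-/

set_option autoImplicit false
set_option linter.unusedSectionVars false

open Matrix
open scoped MatrixGroups ComplexConjugate

namespace Cfsg.Agent.GL2

open Cfsg.Agent.Classical.SL2 (coord)
open Cfsg.Agent.Char

variable {F : Type*} [Field F] [Fintype F] [DecidableEq F]

local notation "M2" => Matrix (Fin 2) (Fin 2) F
local notation "S2" => Matrix.SpecialLinearGroup (Fin 2) F
local notation "G2" => GL (Fin 2) F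

/-- Conjugation by an element of the general linear group. -/
noncomputable def conjS (x : G2) : S2 →* S2 where
  toFun g := ⟨((x * SpecialLinearGroup.toGL g * x⁻¹ : G2) : M2), by
    rw [← coe_det, map_mul, map_mul, map_inv, mul_inv_cancel_comm, coe_det, toGL_coe, detS]⟩
  map_one' := Subtype.ext (by
    show ((x * SpecialLinearGroup.toGL (1 : S2) * x⁻¹ : G2) : M2) = _
    rw [map_one, mul_one, mul_inv_cancel]; rfl)
  map_mul' g h := Subtype.ext (by
    show ((x * SpecialLinearGroup.toGL (g * h) * x⁻¹ : G2) : M2) =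
      ((x * SpecialLinearGroup.toGL g * x⁻¹ : G2) : M2) *
        ((x * SpecialLinearGroup.toGL h * x⁻¹ : G2) : M2)
    rw [← GeneralLinearGroup.coe_mul, map_mul]
    congr 1
    group)

theorem toGL_conjS (x : G2) (g : S2) :
    SpecialLinearGroup.toGL (conjS x g) = x * SpecialLinearGroup.toGL g * x⁻¹ := Units.ext rfl

theorem conjS_mul (x y : G2) (g : S2) : conjS (x * y) g = conjS x (conjS y g) := by
  refine SpecialLinearGroup.toGL_injective ?_
  rw [toGL_conjS, toGL_conjS, toGL_conjS]
  group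

theorem conjS_one (g : S2) : conjS (1 : G2) g = g := by
  refine SpecialLinearGroup.toGL_injective ?_
  rw [toGL_conjS, one_mul, inv_one, mul_one]

/-- Conjugation as an automorphism. -/
noncomputable def conjSEquiv (x : G2) : S2 ≃* S2 where
  toFun := conjS x
  invFun := conjS x⁻¹
  left_inv g := by rw [← conjS_mul, inv_mul_cancel, conjS_one]
  right_inv g := by rw [← conjS_mul, mul_inv_cancel, conjS_one]
  map_mul' := map_mul _

/-- A class function only sees the determinant of the conjugating element up to squares. -/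
theorem conjS_det {χ : S2 → ℂ} (hχ : Cfsg.IsClassFunction S2 χ) {x y : G2} (c : Fˣ)
    (h : GeneralLinearGroup.det x = GeneralLinearGroup.det y * (c * c)) (g : S2) :
    χ (conjS x g) = χ (conjS y g) := by
  have hs : ((x * (scal c)⁻¹ * y⁻¹ : G2) : M2).det = 1 := by
    have hc : GeneralLinearGroup.det (scal c) = c * c := Units.ext (by
      rw [coe_det, scal_coe]; simp [pow_two])
    rw [← coe_det, map_mul, map_mul, map_inv, map_inv, hc, h, mul_inv_cancel_right, mul_inv_cancel,
      Units.val_one]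
  let s : S2 := ⟨_, hs⟩
  have hse : SpecialLinearGroup.toGL s = x * (scal c)⁻¹ * y⁻¹ := Units.ext rfl
  have e : conjS x g = s * conjS y g * s⁻¹ := by
    refine SpecialLinearGroup.toGL_injective ?_
    rw [map_mul, map_mul, map_inv, toGL_conjS, toGL_conjS, hse]
    have hcomm := scal_comm c (SpecialLinearGroup.toGL g)
    have : (scal c)⁻¹ * SpecialLinearGroup.toGL g * scal c = SpecialLinearGroup.toGL g := by
      rw [mul_assoc, ← hcomm, inv_mul_cancel_left]
    calc x * SpecialLinearGroup.toGL g * x⁻¹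
        = x * ((scal c)⁻¹ * SpecialLinearGroup.toGL g * scal c) * x⁻¹ := by rw [this]
      _ = _ := by group
  rw [e]
  exact hχ _ s

/-- The diagonal element with determinant `e`. -/
noncomputable def dg (e : Fˣ) : G2 := bG e 1 0

theorem det_dg (e : Fˣ) : GeneralLinearGroup.det (dg e : G2) = e :=
  Units.ext (by rw [coe_det, dg, bG_coe]; simp [Matrix.det_fin_two])

/-- Twist of a function by a diagonal element. -/
noncomputable def tw (e : Fˣ) (χ : S2 → ℂ) : S2 → ℂ := fun g => χ (conjS (dg e) g)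

theorem tw_tw {χ : S2 → ℂ} (hχ : Cfsg.IsClassFunction S2 χ) (e : Fˣ) : tw e (tw e χ) = χ := by
  funext g
  show χ (conjS (dg e) (conjS (dg e) g)) = χ g
  rw [← conjS_mul, conjS_det hχ (y := 1) e (by rw [map_mul, det_dg, map_one, one_mul]), conjS_one]

theorem isIrr_tw {χ : S2 → ℂ} (hχ : Cfsg.IsIrrCharacter S2 χ) (e : Fˣ) :
    Cfsg.IsIrrCharacter S2 (tw e χ) :=
  isIrrCharacter_comp_mulEquiv (conjSEquiv (dg e)) hχ

theorem classInner_tw (φ ψ : S2 → ℂ) (e : Fˣ) :
    Cfsg.classInner (tw e φ) (tw e ψ) = Cfsg.classInner φ ψ :=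
  classInner_comp_mulEquiv (conjSEquiv (dg e)) φ ψ

theorem conjS_uS (e : Fˣ) (b : F) : conjS (dg e) (uS b) = uS ((e : F) * b) := by
  refine SpecialLinearGroup.toGL_injective ?_
  rw [toGL_conjS, mul_inv_eq_iff_eq_mul]
  refine Units.ext ?_
  rw [GeneralLinearGroup.coe_mul, GeneralLinearGroup.coe_mul, dg, bG_coe, toGL_coe, toGL_coe,
    uS_coe, uS_coe]
  apply coord <;> simp [Matrix.mul_apply, Fin.sum_univ_two]

theorem RS_eq_RG (α : MulChar F ℂ) (g : S2) :
    RS α g = RG α 1 (SpecialLinearGroup.toGL g) := by rw [RG_toGL, inv_one, mul_one]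

theorem RS_conjS (α : MulChar F ℂ) (x : G2) (g : S2) : RS α (conjS x g) = RS α g := by
  rw [RS_eq_RG, RS_eq_RG, toGL_conjS]
  exact isClassFunction_RG α 1 _ _

theorem tw_RS (α : MulChar F ℂ) (e : Fˣ) : tw e (RS α) = RS α := funext fun g => RS_conjS α _ g

theorem SS_one (a : Fˣ) : SS (1 : S2 → ℂ) a = (Fintype.card F : ℂ) := by simp [SS]

theorem inner_RS_one (α : MulChar F ℂ) [Decidable (α = 1)] :
    Cfsg.classInner (RS α) (1 : S2 → ℂ) = if α = 1 then 1 else 0 := by
  rw [inner_RS_left α (fun _ _ => rfl)]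
  simp only [SS_one, map_natCast, ← Finset.sum_mul, sum_units_char]
  have := card_ne_zero_C (F := F)
  have := card_sub_one_ne_zero (F := F)
  split_ifs <;> field_simp <;> ring

/-- The Steinberg character of the special linear group. -/
noncomputable def StS : S2 → ℂ := RS 1 - 1

theorem RS_one_apply (α : MulChar F ℂ) : RS α (1 : S2) = (Fintype.card F : ℂ) + 1 := by
  rw [RS_apply, psFun_scalar _ _ (by simp) (by simp) (by simp)]
  simp

theorem StS_one : (StS : S2 → ℂ) 1 = (Fintype.card F : ℂ) := by simp [StS, RS_one_apply]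

theorem StS_eq_StT (g : S2) : StS g = StT (1 : MulChar F ℂ) (SpecialLinearGroup.toGL g) := by
  simp [StS, StT, RS_eq_RG, linG, detS]

theorem isIrr_StS : Cfsg.IsIrrCharacter S2 StS := by
  classical
  have h1 : Cfsg.IsIrrCharacter S2 (1 : S2 → ℂ) := isIrrCharacter_one
  refine isIrrCharacter_iff.mpr ⟨?_, ?_⟩
  · rw [show (StS : S2 → ℂ) = fun g => StT (1 : MulChar F ℂ) (SpecialLinearGroup.toGL g) from
      funext StS_eq_StT]
    exact isCharacter_comp (IsIrrCharacter.isCharacter (isIrr_StT 1)) _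
  · rw [StS, classInner_sub_left, classInner_sub_right, classInner_sub_right, inner_RS,
      inner_RS_one, ← classInner_conj_symm (RS 1) (1 : S2 → ℂ), inner_RS_one,
      IsIrrCharacter.classInner_self h1]
    simp

theorem isIrr_RS {α : MulChar F ℂ} (h : α ^ 2 ≠ 1) : Cfsg.IsIrrCharacter S2 (RS α) := by
  classical
  refine isIrrCharacter_iff.mpr ⟨isCharacter_RS α, ?_⟩
  rw [inner_RS, if_pos rfl, if_neg fun e => h ?_, add_zero]
  rw [pow_two]; exact eq_inv_iff_mul_eq_one.mp e

theorem sq_eq_one_iff_inv {α : MulChar F ℂ} : α ^ 2 = 1 ↔ α = α⁻¹ := by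
  rw [pow_two, eq_inv_iff_mul_eq_one]

theorem RS_eq_iff {α β : MulChar F ℂ} : RS α = RS β ↔ α = β ∨ α = β⁻¹ := by
  classical
  constructor
  · intro h
    by_contra hn
    rw [not_or] at hn
    have h1 := inner_RS α β
    rw [if_neg hn.1, if_neg hn.2, add_zero, ← h, inner_RS, if_pos rfl] at h1
    split_ifs at h1 <;> norm_num at h1
  · rintro (rfl | rfl)
    · rfl
    · refine sub_eq_zero.mp (classInner_self_eq_zero ?_)
      rw [classInner_sub_left, classInner_sub_right, classInner_sub_right, inner_RS, inner_RS,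
        inner_RS, inner_RS]
      by_cases h : β⁻¹ = β
      · simp [h]
      · simp [h, Ne.symm h]

/-- The characters whose sums over all cosets of the unipotent radical vanish. -/
def IsCuspS (χ : S2 → ℂ) : Prop := ∀ a, SS χ a = 0

/-- The sums over cosets of the radical, from the multiplicities in the induced characters. -/
theorem SS_expansion [Fintype (MulChar F ℂ)] {χ : S2 → ℂ} (hχ : Cfsg.IsClassFunction S2 χ)
    (a : Fˣ) : conj (SS χ a) = (Fintype.card F : ℂ) *
      ∑ α : MulChar F ℂ, Cfsg.classInner (RS α) χ * α ((a⁻¹ : Fˣ) : F) := by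
  have hq := card_ne_zero_C (F := F)
  have hm := card_sub_one_ne_zero (F := F)
  apply mul_left_cancel₀ hm
  rw [← char_expansion (fun b => conj (SS χ b)) a, Finset.mul_sum, Finset.mul_sum]
  refine Fintype.sum_congr _ _ fun α => ?_
  rw [inner_RS_left α hχ]
  field_simp

theorem isCusp_iff {χ : S2 → ℂ} (hχ : Cfsg.IsClassFunction S2 χ) :
    IsCuspS χ ↔ ∀ α, Cfsg.classInner (RS α) χ = 0 := by
  constructor
  · intro h α
    rw [inner_RS_left α hχ]
    simp [h _]
  · intro h a
    haveI := Fintype.ofFinite (MulChar F ℂ)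
    simpa [h] using SS_expansion hχ a

/-- Every irreducible character is of one of five kinds. -/
theorem sl_cases {χ : S2 → ℂ} (hχ : Cfsg.IsIrrCharacter S2 χ) :
    χ = 1 ∨ χ = StS ∨ (∃ α, α ^ 2 ≠ 1 ∧ χ = RS α) ∨
      (∃ α, α ^ 2 = 1 ∧ α ≠ 1 ∧ Cfsg.classInner (RS α) χ ≠ 0) ∨ IsCuspS χ := by
  classical
  by_cases h : ∃ α, Cfsg.classInner (RS α) χ ≠ 0
  · obtain ⟨α, h⟩ := h
    by_cases h1 : α = 1
    · subst h1
      by_cases hl : χ = 1
      · exact Or.inl hl
      · refine Or.inr (Or.inl ?_)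
        by_contra hs
        apply h
        have e : RS (1 : MulChar F ℂ) = (1 : S2 → ℂ) + StS := by rw [StS, add_sub_cancel]
        rw [e, classInner_add_left, IsIrrCharacter.classInner_eq_zero isIrrCharacter_one hχ
          (Ne.symm hl), IsIrrCharacter.classInner_eq_zero isIrr_StS hχ (Ne.symm hs), add_zero]
    · by_cases h2 : α ^ 2 = 1
      · exact Or.inr (Or.inr (Or.inr (Or.inl ⟨α, h2, h1, h⟩)))
      · refine Or.inr (Or.inr (Or.inl ⟨α, h2, ?_⟩))
        by_contra hs
        exact h (IsIrrCharacter.classInner_eq_zero (isIrr_RS h2) hχ (Ne.symm hs))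
  · push Not at h
    exact Or.inr (Or.inr (Or.inr (Or.inr
      ((isCusp_iff (IsCharacter.isClassFunction (IsIrrCharacter.isCharacter hχ))).mpr h))))

theorem bS_eq_mul (a : Fˣ) (x : F) :
    bS a x = bS a 0 * uS ((a⁻¹ : Fˣ) * x : F) := by
  refine Subtype.ext ?_
  rw [coe_mulS, bS_coe, bS_coe, uS_coe]
  apply coord <;> simp [Matrix.mul_apply, Fin.sum_univ_two]

theorem uS_zero : uS (0 : F) = 1 := Subtype.ext (by
  rw [uS_coe, coe_oneS]; apply coord <;> simp)

theorem bS_one (x : F) : bS (1 : Fˣ) x = uS x := Subtype.ext (by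
  rw [bS_coe, uS_coe]; simp)

/-- The lower unitriangular element. -/
def lS (b : F) : S2 := wS 0 * uS (-b) * (wS 0)⁻¹

theorem lS_coe (b : F) : (lS b : M2) = !![1, 0; b, 1] := by
  rw [lS, coe_mulS, coe_mulS, wS_inv_coe, wS_coe, uS_coe]
  apply coord <;> simp [Matrix.mul_apply, Fin.sum_univ_two]

theorem bS_zero_eq (a : Fˣ) :
    bS a 0 = uS (a : F) * lS (-((a⁻¹ : Fˣ) : F)) * uS (a : F) *
      (uS 1 * lS (-1) * uS 1)⁻¹ := by
  rw [eq_mul_inv_iff_mul_eq]
  refine Subtype.ext ?_
  simp only [coe_mulS, bS_coe, uS_coe, lS_coe]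
  apply coord <;> simp [Matrix.mul_apply, Fin.sum_univ_two]

/-- A linear character trivial on the upper unitriangular elements is trivial on the torus. -/
theorem SS_of_linear {χ : S2 → ℂ} (hχ : Cfsg.IsIrrCharacter S2 χ) (h1 : χ 1 = 1)
    (hu : ∀ b, χ (uS b) = 1) (a : Fˣ) : SS χ a = (Fintype.card F : ℂ) := by
  obtain ⟨l, hl⟩ := IsCharacter.exists_monoidHom (IsIrrCharacter.isCharacter hχ) h1
  have hu' : ∀ b, l (uS b) = 1 := fun b => by
    have := hu b
    rw [hl] at this
    exact Units.val_eq_one.mp this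
  have hlo : ∀ b, l (lS b) = 1 := fun b => by
    rw [lS, map_mul, map_mul, hu', mul_one, map_inv, mul_inv_cancel]
  have ht : ∀ x, l (bS a x) = 1 := fun x => by
    rw [bS_eq_mul, map_mul, hu', mul_one, bS_zero_eq]
    simp [hu', hlo]
  rw [hl]
  simp [SS, ht]

theorem SS_one_eq {χ : S2 → ℂ} : SS χ 1 = χ 1 + ∑ x ∈ Finset.univ.erase (0 : F), χ (uS x) := by
  rw [SS, ← Finset.add_sum_erase _ _ (Finset.mem_univ (0 : F))]
  simp only [bS_one, uS_zero]

theorem uS_square {χ : S2 → ℂ} (hχ : Cfsg.IsClassFunction S2 χ) {b b' : F} (hb : b ≠ 0)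
    (hb' : b' ≠ 0) (h : IsSquare (b * b')) : χ (uS b) = χ (uS b') := by
  have e : ∀ y : F, zS (⟨1, one_mul 1⟩ : {z : F // z * z = 1}) * uS y = uS y := fun y =>
    Subtype.ext (by rw [zu_coe, uS_coe]; simp)
  have := (isConj_zu_iff (z := (⟨1, one_mul 1⟩ : {z : F // z * z = 1})) hb hb').mpr ⟨rfl, h⟩
  rw [e, e] at this
  exact IsClassFunction.apply_isConj hχ this

/-- The elements covering both classes of nontrivial unipotent elements. -/
def Covers (e : Fˣ) : Prop := ∀ b : F, b ≠ 0 → IsSquare b ∨ IsSquare ((e : F) * b)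

theorem sum_uS_pair {χ : S2 → ℂ} (hχ : Cfsg.IsClassFunction S2 χ) {e : Fˣ} (he : Covers e)
    {b : F} (hb : b ≠ 0) :
    χ (uS b) + χ (uS ((e : F) * b)) = χ (uS 1) + χ (uS (e : F)) := by
  have he0 : (e : F) ≠ 0 := e.ne_zero
  rcases he b hb with ⟨c, hc⟩ | ⟨c, hc⟩
  · rw [uS_square hχ hb one_ne_zero ⟨c, by rw [mul_one]; exact hc⟩,
      uS_square hχ (mul_ne_zero he0 hb) he0 ⟨(e : F) * c, by rw [hc]; ring⟩]
  · rw [uS_square hχ (mul_ne_zero he0 hb) one_ne_zero ⟨c, by rw [mul_one]; exact hc⟩,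
      uS_square hχ hb he0 ⟨c, by rw [← hc]; ring⟩, add_comm]

theorem SS_pair {χ : S2 → ℂ} (hχ : Cfsg.IsClassFunction S2 χ) {e : Fˣ} (he : Covers e) :
    SS χ 1 + SS (tw e χ) 1 =
      χ 1 + χ 1 + ((Fintype.card F : ℂ) - 1) * (χ (uS 1) + χ (uS (e : F))) := by
  have h1 : tw e χ 1 = χ 1 := by show χ (conjS (dg e) 1) = _; rw [map_one]
  rw [SS_one_eq, SS_one_eq, h1, add_add_add_comm, ← Finset.sum_add_distrib]
  congr 1
  rw [Finset.sum_congr rfl fun x hx => by
    show χ (uS x) + χ (conjS (dg e) (uS x)) = χ (uS 1) + χ (uS (e : F))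
    rw [conjS_uS, sum_uS_pair hχ he (Finset.ne_of_mem_erase hx)],
    Finset.sum_const, Finset.card_erase_of_mem (Finset.mem_univ _), Finset.card_univ,
    nsmul_eq_mul, Nat.cast_sub Fintype.card_pos, Nat.cast_one]

/-- A nonzero multiple of a rational number that is an algebraic integer. -/
theorem exists_int_mul {x : ℂ} (hx : IsIntegral ℤ x) {m d : ℤ} (hm : m ≠ 0)
    (h : (m : ℂ) * x = (d : ℂ)) : ∃ z : ℤ, x = z ∧ m * z = d := by
  have hm' : (m : ℂ) ≠ 0 := Int.cast_ne_zero.mpr hm
  have hxq : x = (((d : ℚ) / (m : ℚ) : ℚ) : ℂ) := by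
    push_cast
    rw [eq_div_iff hm', mul_comm, h]
  obtain ⟨z, hz⟩ := rat_eq_int_of_isIntegral (hxq ▸ hx)
  rw [hz] at hxq
  push_cast at hxq
  refine ⟨z, hxq, ?_⟩
  rw [hxq] at h
  exact_mod_cast h

/-- The two halves of the reducible induced character. -/
theorem exists_halves {α : MulChar F ℂ} (hα : α ^ 2 = 1) (hα1 : α ≠ 1) {e : Fˣ} (he : Covers e) :
    ∃ χ₁ χ₂ : S2 → ℂ, Cfsg.IsIrrCharacter S2 χ₁ ∧ Cfsg.IsIrrCharacter S2 χ₂ ∧ χ₁ ≠ χ₂ ∧
      RS α = χ₁ + χ₂ ∧ χ₂ = tw e χ₁ ∧ χ₁ 1 + χ₁ 1 = (Fintype.card F : ℂ) + 1 ∧ χ₂ 1 = χ₁ 1 ∧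
      (∀ a, SS χ₁ a = (Fintype.card F : ℂ) * α a) ∧
      (∀ a, SS χ₂ a = (Fintype.card F : ℂ) * α a) := by
  classical
  haveI := Fintype.ofFinite (MulChar F ℂ)
  have hchar := isCharacter_RS α
  have hnorm : Cfsg.classInner (RS α) (RS α) = 2 := by
    rw [inner_RS, if_pos rfl, if_pos (sq_eq_one_iff_inv.mp hα)]; norm_num
  obtain ⟨χ₁, h1, h1c, -⟩ := exists_constituent hchar (f := RS α) (by rw [hnorm]; norm_num)
  obtain ⟨r, hr, e12⟩ := exists_add_of_classInner_ne_zero hchar h1 h1c
  obtain ⟨m, hm⟩ := exists_classInner_nat hr h1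
  obtain ⟨k, hk⟩ := classInner_natCast_of_isCharacter hr hr
  have hrr : Cfsg.classInner r r + 2 * (m : ℂ) + 1 = 2 := by
    refine Eq.trans ?_ hnorm
    rw [e12, classInner_add_left, classInner_add_right, classInner_add_right,
      IsIrrCharacter.classInner_self h1, ← classInner_conj_symm r χ₁, hm, map_natCast]
    ring
  rw [hk] at hrr
  have hkm : k + 2 * m + 1 = 2 := by exact_mod_cast hrr
  obtain ⟨hk1, hm0⟩ : k = 1 ∧ m = 0 := ⟨by omega, by omega⟩
  subst hm0
  rw [hk1, Nat.cast_one] at hk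
  rw [Nat.cast_zero] at hm
  have h2 : Cfsg.IsIrrCharacter S2 r := isIrrCharacter_iff.mpr ⟨hr, hk⟩
  have hne : χ₁ ≠ r := fun h => by
    rw [← h, IsIrrCharacter.classInner_self h1] at hm; exact one_ne_zero hm
  have mult : ∀ χ : S2 → ℂ, χ = χ₁ ∨ χ = r → Cfsg.IsIrrCharacter S2 χ → ∀ a : Fˣ,
      SS χ a = (Fintype.card F : ℂ) * α a := by
    intro χ hχ hirr a
    have hcf := IsCharacter.isClassFunction (IsIrrCharacter.isCharacter hirr)
    have hmult : ∀ β : MulChar F ℂ, Cfsg.classInner (RS β) χ = if β = α then 1 else 0 := by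
      intro β
      split_ifs with hb
      · subst hb
        rw [e12, classInner_add_left]
        rcases hχ with rfl | rfl
        · rw [IsIrrCharacter.classInner_self h1, IsIrrCharacter.classInner_eq_zero h2 h1 hne.symm,
            add_zero]
        · rw [IsIrrCharacter.classInner_self h2, IsIrrCharacter.classInner_eq_zero h1 h2 hne,
            zero_add]
      · have h0 := inner_RS β α
        rw [if_neg hb, if_neg (fun h : β = α⁻¹ => hb (h.trans (sq_eq_one_iff_inv.mp hα).symm)),
          add_zero, e12, classInner_add_right] at h0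
        obtain ⟨u, hu⟩ := exists_classInner_nat (isCharacter_RS β) h1
        obtain ⟨v, hv⟩ := exists_classInner_nat (isCharacter_RS β) h2
        rw [hu, hv] at h0
        have : u + v = 0 := by exact_mod_cast h0
        rcases hχ with rfl | rfl
        · rw [hu, show u = 0 by omega, Nat.cast_zero]
        · rw [hv, show v = 0 by omega, Nat.cast_zero]
    have hx := congrArg conj (SS_expansion hcf a)
    simp only [hmult, ite_mul, one_mul, zero_mul, Finset.sum_ite_eq', Finset.mem_univ, if_true,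
      Complex.conj_conj, map_mul, map_natCast] at hx
    rw [hx, conj_mulChar, MulChar.inv_apply', Units.val_inv_eq_inv_val, inv_inv]
  have hdeg : χ₁ 1 + r 1 = (Fintype.card F : ℂ) + 1 := by
    rw [← RS_one_apply α, e12]; rfl
  have hα' : ∃ a : Fˣ, α a ≠ 1 := MulChar.ne_one_iff.mp hα1
  have noinv : ∀ χ : S2 → ℂ, χ = χ₁ ∨ χ = r → Cfsg.IsIrrCharacter S2 χ → tw e χ = χ → χ 1 ≠ 1 := by
    intro χ hχ hirr hinv h1'
    have hcf := IsCharacter.isClassFunction (IsIrrCharacter.isCharacter hirr)
    have hp := SS_pair hcf he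
    rw [hinv, mult χ hχ hirr 1, h1', Units.val_one, map_one, mul_one] at hp
    have hu1 : χ (uS (e : F)) = χ (uS 1) := by
      conv_rhs => rw [← hinv]
      show _ = χ (conjS (dg e) (uS 1))
      rw [conjS_uS, mul_one]
    rw [hu1] at hp
    have hc1 : χ (uS 1) = 1 := by
      apply mul_left_cancel₀ (card_sub_one_ne_zero (F := F))
      linear_combination -hp / 2
    obtain ⟨a, ha⟩ := hα'
    have hb := SS_of_linear hirr h1' (fun b => by
      by_cases hb : b = 0
      · rw [hb, uS_zero, h1']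
      · rcases he b hb with ⟨c, hc⟩ | ⟨c, hc⟩
        · rw [uS_square hcf hb one_ne_zero ⟨c, by rw [mul_one]; exact hc⟩, hc1]
        · rw [uS_square hcf hb e.ne_zero ⟨c, by rw [← hc]; ring⟩, hu1, hc1]) a
    rw [mult χ hχ hirr a] at hb
    exact ha (mul_left_cancel₀ card_ne_zero_C (by rw [hb, mul_one]))
  have hswap : r = tw e χ₁ := by
    have ht := isIrr_tw h1 e
    have hc : Cfsg.classInner (RS α) (tw e χ₁) ≠ 0 := by
      rw [← tw_RS α e, classInner_tw]; exact h1c
    by_cases he1 : tw e χ₁ = χ₁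
    · exfalso
      obtain ⟨d, hd0, hd⟩ := IsIrrCharacter.degree_pos h1
      obtain ⟨d', hd0', hd'⟩ := IsIrrCharacter.degree_pos h2
      have hcf := IsCharacter.isClassFunction (IsIrrCharacter.isCharacter h1)
      have hp := SS_pair hcf he
      rw [he1, mult χ₁ (Or.inl rfl) h1 1, Units.val_one, map_one, mul_one, hd] at hp
      have hu1 : χ₁ (uS (e : F)) = χ₁ (uS 1) := by
        conv_rhs => rw [← he1]
        show _ = χ₁ (conjS (dg e) (uS 1))
        rw [conjS_uS, mul_one]
      rw [hu1] at hp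
      obtain ⟨z, -, hz⟩ := exists_int_mul (IsCharacter.isIntegral (IsIrrCharacter.isCharacter h1)
        (uS 1)) (m := (Fintype.card F : ℤ) - 1) (d := (Fintype.card F : ℤ) - d)
        (by have : 2 ≤ Fintype.card F := Fintype.one_lt_card; omega)
        (by push_cast; linear_combination -hp / 2)
      rw [hd, hd'] at hdeg
      have hdd : d + d' = Fintype.card F + 1 := by exact_mod_cast hdeg
      have hq : (2 : ℤ) ≤ Fintype.card F := by exact_mod_cast Fintype.one_lt_card
      have hdz : (d : ℤ) + d' = Fintype.card F + 1 := by exact_mod_cast hdd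
      have : z = 0 ∨ z = 1 := by
        rcases le_or_gt z (-1) with h | h
        · nlinarith
        · rcases le_or_gt 2 z with h' | h'
          · nlinarith
          · omega
      rcases this with rfl | rfl
      · have : d' = 1 := by omega
        refine noinv r (Or.inr rfl) h2 ?_ (by rw [hd', this, Nat.cast_one])
        have : tw e (RS α) = tw e χ₁ + tw e r := by rw [e12]; rfl
        rw [tw_RS, he1, e12] at this
        exact (add_left_cancel this).symm
      · have : d = 1 := by omega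
        exact noinv χ₁ (Or.inl rfl) h1 he1 (by rw [hd, this, Nat.cast_one])
    · by_contra hne'
      apply hc
      rw [e12, classInner_add_left, IsIrrCharacter.classInner_eq_zero h1 ht (Ne.symm he1),
        IsIrrCharacter.classInner_eq_zero h2 ht hne', add_zero]
  have h21 : r 1 = χ₁ 1 := by
    rw [hswap]; show χ₁ (conjS (dg e) 1) = _; rw [map_one]
  exact ⟨χ₁, r, h1, h2, hne, e12, hswap, by rw [← hdeg, h21], h21,
    fun a => mult χ₁ (Or.inl rfl) h1 a, fun a => mult r (Or.inr rfl) h2 a⟩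

/-- Every irreducible character lies below one of the general linear group. -/
theorem exists_above {χ : S2 → ℂ} (hχ : Cfsg.IsIrrCharacter S2 χ) :
    ∃ Ψ : G2 → ℂ, Cfsg.IsIrrCharacter G2 Ψ ∧
      Cfsg.classInner (fun g : S2 => Ψ (SpecialLinearGroup.toGL g)) χ ≠ 0 := by
  let e : S2 ≃* (SpecialLinearGroup.toGL : S2 →* G2).range :=
    MonoidHom.ofInjective SpecialLinearGroup.toGL_injective
  haveI := Fintype.ofFinite (SpecialLinearGroup.toGL : S2 →* G2).range
  have hθ := isIrrCharacter_comp_mulEquiv e.symm hχ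
  have hI := isCharacter_indFun _ (IsIrrCharacter.isCharacter hθ)
  have hne : Cfsg.classInner (Cfsg.indFun _ fun x => χ (e.symm x))
      (Cfsg.indFun _ fun x => χ (e.symm x)) ≠ 0 := fun h => by
    have h0 := congrFun (classInner_self_eq_zero h) 1
    rw [indFun_one_apply] at h0
    simp only [map_one, Pi.zero_apply, mul_eq_zero, Nat.cast_eq_zero] at h0
    exact h0.elim (fun h0 => Subgroup.index_ne_zero_of_finite h0)
      (IsIrrCharacter.apply_one_ne_zero hχ)
  obtain ⟨Ψ, hΨ, hc, -⟩ := exists_constituent hI hne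
  refine ⟨Ψ, hΨ, fun h0 => hc ?_⟩
  rw [classInner_indFun _ _ (IsCharacter.isClassFunction (IsIrrCharacter.isCharacter hΨ)),
    ← classInner_comp_mulEquiv e]
  simp only [MulEquiv.symm_apply_apply]
  rw [← classInner_conj_symm, ← map_zero conj, ← h0]
  rfl

/-- Degree bound and invariance for the cuspidal characters. -/
theorem cusp_bound {χ : S2 → ℂ} (hχ : Cfsg.IsIrrCharacter S2 χ) (hcu : IsCuspS χ) :
    ∃ d : ℕ, 0 < d ∧ χ 1 = d ∧ d + 1 ≤ Fintype.card F ∧
      (d + 1 = Fintype.card F → ∀ (x : G2) (g : S2), χ (conjS x g) = χ g) := by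
  classical
  have hcf := IsCharacter.isClassFunction (IsIrrCharacter.isCharacter hχ)
  obtain ⟨Ψ, hΨ, hne⟩ := exists_above hχ
  have h0 := (isCusp_iff hcf).mp hcu
  rcases gl_cases hΨ with ⟨α, rfl⟩ | ⟨α, rfl⟩ | ⟨α, β, -, rfl⟩ | hc
  · exfalso
    apply hne
    rw [show (fun g : S2 => linG α (SpecialLinearGroup.toGL g)) = 1 from
      funext fun g => by simp [linG, detS]]
    refine IsIrrCharacter.classInner_eq_zero isIrrCharacter_one hχ fun h => ?_
    have := h0 1
    rw [← h, inner_RS_one, if_pos rfl] at this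
    exact one_ne_zero this
  · exfalso
    apply hne
    have e : (fun g : S2 => StT α (SpecialLinearGroup.toGL g)) = RS 1 - 1 := funext fun g => by
      simp [StT, RG_toGL, linG, detS]
    rw [e]
    refine IsIrrCharacter.classInner_eq_zero isIrr_StS hχ fun h => ?_
    have := h0 1
    rw [← h, classInner_sub_right, inner_RS, inner_RS_one, if_pos rfl, inv_one, if_pos rfl]
      at this
    norm_num at this
  · exact absurd (by rw [show (fun g : S2 => RG α β (SpecialLinearGroup.toGL g)) = RS (α * β⁻¹)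
      from funext fun g => RG_toGL α β g]; exact h0 _) hne
  · obtain ⟨r, hr, e⟩ := exists_add_of_classInner_ne_zero
      (isCharacter_comp (IsIrrCharacter.isCharacter hΨ) SpecialLinearGroup.toGL) hχ hne
    obtain ⟨d, hd0, hd⟩ := IsIrrCharacter.degree_pos hχ
    obtain ⟨k, hk⟩ := IsCharacter.exists_degree hr
    have e1 := congrFun e 1
    simp only [Function.comp_apply, map_one, Pi.add_apply, (isCusp_degree hΨ hc).1, hd, hk] at e1
    have hdk : d + k + 1 = Fintype.card F := by
      have : ((d + k + 1 : ℕ) : ℂ) = Fintype.card F := by push_cast; linear_combination -e1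
      exact_mod_cast this
    refine ⟨d, hd0, hd, by omega, fun hde x g => ?_⟩
    have hr0 : r = 0 := by
      obtain ⟨n, ρ, rfl⟩ := hr
      have hn : n = 0 := by
        have : ρ.character 1 = (k : ℂ) := hk
        rw [ρ.char_one, show k = 0 by omega, Nat.cast_zero, Nat.cast_eq_zero,
          Module.finrank_fin_fun] at this
        exact this
      subst hn
      funext y
      show LinearMap.trace ℂ _ (ρ y) = 0
      rw [Subsingleton.elim (ρ y) 0, map_zero]
    rw [hr0, add_zero] at e
    have hΨc := IsCharacter.isClassFunction (IsIrrCharacter.isCharacter hΨ)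
    rw [← congrFun e (conjS x g), ← congrFun e g]
    show Ψ (SpecialLinearGroup.toGL (conjS x g)) = Ψ (SpecialLinearGroup.toGL g)
    rw [toGL_conjS]
    exact hΨc _ x

/-- The degree and values on unipotent elements of a cuspidal character. -/
theorem cusp_kind {χ : S2 → ℂ} (hχ : Cfsg.IsIrrCharacter S2 χ) (hcu : IsCuspS χ) {e : Fˣ}
    (he : Covers e) :
    (χ 1 = (Fintype.card F : ℂ) - 1 ∧ (∀ (x : G2) (g : S2), χ (conjS x g) = χ g) ∧
      ∀ b : F, b ≠ 0 → χ (uS b) = -1) ∨
    (χ 1 + χ 1 = (Fintype.card F : ℂ) - 1 ∧ tw e χ ≠ χ ∧ χ (uS 1) + χ (uS (e : F)) = -1) := by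
  have hc := IsIrrCharacter.isCharacter hχ
  have hcf := IsCharacter.isClassFunction hc
  obtain ⟨d, hd0, hd, hle, hinv⟩ := cusp_bound hχ hcu
  have htw : IsCuspS (tw e χ) := by
    rw [isCusp_iff (IsCharacter.isClassFunction (IsIrrCharacter.isCharacter (isIrr_tw hχ e)))]
    intro α
    rw [← tw_RS α e, classInner_tw]
    exact (isCusp_iff hcf).mp hcu α
  have hp := SS_pair hcf he
  rw [hcu 1, htw 1, hd] at hp
  have hint : IsIntegral ℤ (χ (uS 1) + χ (uS (e : F))) :=
    (IsCharacter.isIntegral hc _).add (IsCharacter.isIntegral hc _)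
  have hq : (2 : ℤ) ≤ Fintype.card F := by exact_mod_cast Fintype.one_lt_card
  obtain ⟨z, hz, hmz⟩ := exists_int_mul hint (m := (Fintype.card F : ℤ) - 1) (d := -2 * (d : ℤ))
    (by omega) (by push_cast; linear_combination -hp)
  have hle' : (d : ℤ) + 1 ≤ Fintype.card F := by exact_mod_cast hle
  have hd0' : (0 : ℤ) < d := by exact_mod_cast hd0
  have : z = -1 ∨ z = -2 := by
    rcases le_or_gt z (-3) with h | h
    · nlinarith
    · rcases le_or_gt 0 z with h' | h'
      · nlinarith
      · omega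
  rcases this with rfl | rfl
  · refine Or.inr ⟨?_, ?_, by rw [hz]; norm_num⟩
    · rw [hd]
      have : (2 * d + 1 : ℤ) = Fintype.card F := by omega
      have : ((2 * d + 1 : ℕ) : ℂ) = Fintype.card F := by exact_mod_cast this
      push_cast at this
      linear_combination this
    · intro hI
      have hu1 : χ (uS (e : F)) = χ (uS 1) := by
        conv_rhs => rw [← hI]
        show _ = χ (conjS (dg e) (uS 1))
        rw [conjS_uS, mul_one]
      rw [hu1] at hz
      push_cast at hz
      obtain ⟨w, -, hw⟩ := exists_int_mul (IsCharacter.isIntegral hc (uS 1)) (m := 2) (d := -1)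
        two_ne_zero (by push_cast; linear_combination hz)
      omega
  · have hdq : d + 1 = Fintype.card F := by omega
    have hI := hinv hdq
    refine Or.inl ⟨by rw [hd, ← hdq]; push_cast; ring, hI, fun b hb => ?_⟩
    have hp' := sum_uS_pair hcf he hb
    rw [hz] at hp'
    have : χ (uS ((e : F) * b)) = χ (uS b) := by rw [← conjS_uS]; exact hI _ _
    rw [this] at hp'
    push_cast at hp'
    linear_combination hp' / 2

end Cfsg.Agent.GL2
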