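import Cfsg.Agent.Lib.GL2.Classes
import Mathlib.FieldTheory.Finite.Basic
import Mathlib.NumberTheory.LegendreSymbol.QuadraticChar.Basic

/-!
# Conjugacy classes of two by two matrices of determinant one
-/

set_option autoImplicit false
set_option linter.style.haveILetI false

open Matrix
open scoped MatrixGroups

namespace Cfsg.Agent.GL2

open Cfsg.Agent.Classical.SL2 (coord exists_affine eq_of_nonscalar)
open Cfsg.Agent.Classical (card_units_eq)

variable {F : Type*} [Field F]

local notation "M2" => Matrix (Fin 2) (Fin 2) F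
local notation "S2" => Matrix.SpecialLinearGroup (Fin 2) F
local notation "G2" => GL (Fin 2) F

theorem toGL_coe (g : S2) : ((SpecialLinearGroup.toGL g : G2) : M2) = (g : M2) := rfl

theorem coe_mulS (a b : S2) : ((a * b : S2) : M2) = (a : M2) * (b : M2) := rfl

theorem coe_oneS : ((1 : S2) : M2) = 1 := rfl

/-- Upper unitriangular element. -/
def uS (b : F) : S2 := ⟨!![1, b; 0, 1], by simp [Matrix.det_fin_two]⟩

theorem uS_coe (b : F) : (uS b : M2) = !![1, b; 0, 1] := rfl

/-- Central element. -/
def zS (z : {z : F // z * z = 1}) : S2 :=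
  ⟨!![z.1, 0; 0, z.1], by simp [Matrix.det_fin_two, z.2]⟩

theorem zS_coe (z : {z : F // z * z = 1}) : (zS z : M2) = !![z.1, 0; 0, z.1] := rfl

/-- Companion element. -/
def cS (t : F) : S2 := ⟨!![0, -1; 1, t], by simp [Matrix.det_fin_two]⟩

theorem cS_coe (t : F) : (cS t : M2) = !![0, -1; 1, t] := rfl

theorem cS_trace (t : F) : (cS t : M2).trace = t := by simp [cS_coe, Matrix.trace_fin_two]

theorem zu_coe (z : {z : F // z * z = 1}) (b : F) :
    ((zS z * uS b : S2) : M2) = !![z.1, z.1 * b; 0, z.1] := by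
  rw [coe_mulS, zS_coe, uS_coe]
  apply coord <;> simp [Matrix.mul_apply, Fin.sum_univ_two]

theorem zu_trace (z : {z : F // z * z = 1}) (b : F) :
    ((zS z * uS b : S2) : M2).trace = 2 * z.1 := by
  rw [zu_coe]; simp [Matrix.trace_fin_two]; ring

theorem z_ne_zero (z : {z : F // z * z = 1}) : z.1 ≠ 0 := fun h => by
  have := z.2; rw [h, mul_zero] at this; exact zero_ne_one this

theorem zu_nonscalar (z : {z : F // z * z = 1}) {b : F} (hb : b ≠ 0) :
    Nonscalar ((zS z * uS b : S2) : M2) :=
  nonscalar_iff.mpr (Or.inl (by rw [zu_coe]; simp [hb, z_ne_zero z]))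

theorem trace_isConjS {g h : S2} (hc : IsConj g h) : (g : M2).trace = (h : M2).trace := by
  have := trace_eq_of_isConj (SpecialLinearGroup.toGL.map_isConj hc)
  rwa [toGL_coe, toGL_coe] at this

theorem nonscalar_isConjS {g h : S2} (hc : IsConj g h) (hg : Nonscalar (g : M2)) :
    Nonscalar (h : M2) := by
  have := nonscalar_of_isConj (SpecialLinearGroup.toGL.map_isConj hc) (by rwa [toGL_coe])
  rwa [toGL_coe] at this

theorem detS (g : S2) : (g : M2).det = 1 := g.2

theorem isConjS_of_conj {g h : S2} {x : G2} (hx : (x : M2).det = 1)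
    (e : x * SpecialLinearGroup.toGL g * x⁻¹ = SpecialLinearGroup.toGL h) : IsConj g h := by
  let y : S2 := ⟨(x : M2), hx⟩
  refine isConj_iff.mpr ⟨y, SpecialLinearGroup.toGL_injective ?_⟩
  have hxe : SpecialLinearGroup.toGL y = x := Units.ext rfl
  rw [map_mul, map_mul, map_inv, hxe, e]

theorem exists_gl_conj {g h : S2} (hg : Nonscalar (g : M2)) (hh : Nonscalar (h : M2))
    (ht : (g : M2).trace = (h : M2).trace) :
    ∃ x : G2, x * SpecialLinearGroup.toGL g * x⁻¹ = SpecialLinearGroup.toGL h :=
  isConj_iff.mp (isConj_of_invariants (g := SpecialLinearGroup.toGL g)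
    (h := SpecialLinearGroup.toGL h) hg hh ht ((detS g).trans (detS h).symm))

section Finite

variable [Fintype F]

omit [Fintype F] in
theorem two_cases : ringChar F = 2 ∧ (2 : F) = 0 ∨ ringChar F ≠ 2 ∧ (2 : F) ≠ 0 := by
  by_cases h : ringChar F = 2
  · exact Or.inl ⟨h, by have := ringChar.Nat.cast_ringChar (R := F); rw [h] at this; exact_mod_cast this⟩
  · refine Or.inr ⟨h, fun h2 => h ?_⟩
    have h' : ringChar F ∣ 2 := ringChar.dvd (by exact_mod_cast h2)
    rcases (Nat.dvd_prime Nat.prime_two).mp h' with e | e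
    · exact absurd e (CharP.ringChar_ne_one)
    · exact e

/-- The norm form takes every value. -/
theorem norm_surj {t : F} (ht : t * t ≠ 4) (δ : F) :
    ∃ x y : F, x * x + t * x * y + y * y = δ := by
  rcases two_cases (F := F) with ⟨hc, -⟩ | ⟨hc, h2⟩
  · obtain ⟨x, hx⟩ := FiniteField.isSquare_of_char_two hc δ
    exact ⟨x, 0, by rw [hx]; ring⟩
  · have h4 : (4 : F) ≠ 0 := by
      have : (4 : F) = 2 * 2 := by norm_num
      rw [this]; exact mul_ne_zero h2 h2
    have hD : (4 - t * t) / 4 ≠ 0 :=
      div_ne_zero (sub_ne_zero.mpr (Ne.symm ht)) h4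
    obtain ⟨a, b, hab⟩ := FiniteField.exists_root_sum_quadratic
      (f := Polynomial.C 1 * Polynomial.X ^ 2 + Polynomial.C 0 * Polynomial.X + Polynomial.C (-δ))
      (g := Polynomial.C ((4 - t * t) / 4) * Polynomial.X ^ 2 + Polynomial.C 0 * Polynomial.X +
        Polynomial.C 0)
      (Polynomial.degree_quadratic one_ne_zero) (Polynomial.degree_quadratic hD)
      (FiniteField.odd_card_of_char_ne_two hc)
    simp at hab
    refine ⟨a - t / 2 * b, b, ?_⟩
    have h22 : (4 : F) = 2 * 2 := by norm_num
    field_simp at hab ⊢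
    rw [h22] at hab
    apply mul_left_cancel₀ (show (2 : F) * 2 ≠ 0 from mul_ne_zero h2 h2)
    linear_combination 4 * hab

theorem isConj_of_trace {g h : S2} (hg : Nonscalar (g : M2)) (hh : Nonscalar (h : M2))
    (ht : (g : M2).trace = (h : M2).trace)
    (ht4 : (g : M2).trace * (g : M2).trace ≠ 4) : IsConj g h := by
  obtain ⟨x, hx⟩ := exists_gl_conj hg hh ht
  obtain ⟨a, b, hab⟩ := norm_surj (ht ▸ ht4) ((x : M2).det)⁻¹
  have hd : (a • (1 : M2) + b • (h : M2)).det = ((x : M2).det)⁻¹ := by
    rw [det_affine, detS h, one_mul, hab]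
  let c : G2 := GeneralLinearGroup.mkOfDetNeZero (a • (1 : M2) + b • (h : M2))
    (by rw [hd]; exact inv_ne_zero (det_ne_zero x))
  have hcomm : c * SpecialLinearGroup.toGL h = SpecialLinearGroup.toGL h * c := by
    refine Units.ext ?_
    rw [GeneralLinearGroup.coe_mul, GeneralLinearGroup.coe_mul, toGL_coe, coe_mk]
    simp [mul_add, add_mul]
  refine isConjS_of_conj (x := c * x) ?_ ?_
  · rw [GeneralLinearGroup.coe_mul, Matrix.det_mul, coe_mk, hd, inv_mul_cancel₀ (det_ne_zero x)]
  · rw [show c * x * SpecialLinearGroup.toGL g * (c * x)⁻¹ =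
      c * (x * SpecialLinearGroup.toGL g * x⁻¹) * c⁻¹ by group, hx, hcomm, mul_inv_cancel_right]

theorem exists_zu {g : S2} (hg : Nonscalar (g : M2))
    (ht4 : (g : M2).trace * (g : M2).trace = 4) :
    ∃ (z : {z : F // z * z = 1}) (b : F), b ≠ 0 ∧ (g : M2).trace = 2 * z.1 ∧
      IsConj (zS z * uS b) g := by
  obtain ⟨z, hz⟩ : ∃ z : {z : F // z * z = 1}, (g : M2).trace = 2 * z.1 := by
    rcases two_cases (F := F) with ⟨-, h2⟩ | ⟨-, h2⟩
    · refine ⟨⟨1, one_mul 1⟩, ?_⟩
      have h4 : (4 : F) = 0 := by linear_combination 2 * h2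
      rw [h4, mul_self_eq_zero] at ht4
      rw [ht4, h2, zero_mul]
    · refine ⟨⟨(g : M2).trace / 2, ?_⟩, by field_simp⟩
      have h4 : (4 : F) = 2 * 2 := by norm_num
      field_simp
      linear_combination ht4 + h4
  obtain ⟨x, hx⟩ := exists_gl_conj (zu_nonscalar z one_ne_zero) hg (by rw [zu_trace, hz])
  have hδ := det_ne_zero x
  refine ⟨z, (x : M2).det, hδ, hz, ?_⟩
  let D : G2 := GeneralLinearGroup.mkOfDetNeZero !![(x : M2).det, 0; 0, 1]
    (by simpa [Matrix.det_fin_two] using hδ)
  have hD : SpecialLinearGroup.toGL (zS z * uS (x : M2).det) * D =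
      D * SpecialLinearGroup.toGL (zS z * uS 1) := by
    refine Units.ext ?_
    rw [GeneralLinearGroup.coe_mul, GeneralLinearGroup.coe_mul, toGL_coe, toGL_coe, coe_mk, zu_coe,
      zu_coe]
    apply coord <;> simp [Matrix.mul_apply, Fin.sum_univ_two] <;> ring
  refine isConjS_of_conj (x := x * D⁻¹) ?_ ?_
  · rw [← coe_det, map_mul, map_inv, Units.val_mul, Units.val_inv_eq_inv_val, coe_det, coe_det,
      coe_mk]
    rw [show (!![(x : M2).det, 0; 0, 1] : M2).det = (x : M2).det by simp [Matrix.det_fin_two_of]]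
    exact mul_inv_cancel₀ hδ
  · rw [show x * D⁻¹ * SpecialLinearGroup.toGL (zS z * uS (x : M2).det) * (x * D⁻¹)⁻¹ =
      x * (D⁻¹ * (SpecialLinearGroup.toGL (zS z * uS (x : M2).det) * D)) * x⁻¹ by group, hD,
      ← mul_assoc D⁻¹, inv_mul_cancel, one_mul, hx]

theorem isConj_zu_iff {z z' : {z : F // z * z = 1}} {b b' : F} (hb : b ≠ 0) (hb' : b' ≠ 0) :
    IsConj (zS z * uS b) (zS z' * uS b') ↔ z = z' ∧ IsSquare (b * b') := by
  constructor
  · intro h
    obtain ⟨x, hx⟩ := isConj_iff.mp h
    rw [mul_inv_eq_iff_eq_mul] at hx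
    have e := congrArg (fun u : S2 => (u : M2)) hx
    simp only [coe_mulS, zS_coe, uS_coe] at e
    have d := detS x
    rw [Matrix.det_fin_two] at d
    have e00 := congrFun (congrFun e 0) 0
    have e01 := congrFun (congrFun e 0) 1
    have e11 := congrFun (congrFun e 1) 1
    have e10 := congrFun (congrFun e 1) 0
    simp [Matrix.mul_apply, Fin.sum_univ_two] at e00 e01 e10 e11
    by_cases hzz : z = z'
    · subst hzz
      have hz := z_ne_zero z
      have h10 : (x : M2) 1 0 = 0 := by
        have : z.1 * b' * (x : M2) 1 0 = 0 := by linear_combination -e00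
        simpa [hz, hb'] using this
      have : (x : M2) 0 0 * b = b' * (x : M2) 1 1 := by
        apply mul_left_cancel₀ hz
        linear_combination e01
      refine ⟨rfl, (x : M2) 0 0 * b, ?_⟩
      rw [h10, mul_zero, sub_zero] at d
      linear_combination (-((x : M2) 0 0 * b)) * this + (-(b * b')) * d
    · exfalso
      apply hzz
      have ht := trace_isConjS h
      rw [zu_trace, zu_trace] at ht
      rcases two_cases (F := F) with ⟨-, h2⟩ | ⟨-, h2⟩
      · refine Subtype.ext ?_
        have : (z.1 - z'.1) * (z.1 - z'.1) = 0 := by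
          linear_combination z.2 + z'.2 + (1 - z.1 * z'.1) * h2
        exact sub_eq_zero.mp (mul_self_eq_zero.mp this)
      · exact Subtype.ext (mul_left_cancel₀ h2 ht)
  · rintro ⟨rfl, c, hc⟩
    have hc0 : c ≠ 0 := fun h => mul_ne_zero hb hb' (by rw [hc, h, mul_zero])
    let y : S2 := ⟨!![c / b, 0; 0, b / c], by simp [Matrix.det_fin_two]; field_simp⟩
    refine isConj_iff.mpr ⟨y, ?_⟩
    rw [mul_inv_eq_iff_eq_mul]
    refine Subtype.ext ?_
    simp only [coe_mulS, zS_coe, uS_coe]
    rw [show (y : M2) = !![c / b, 0; 0, b / c] from rfl]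
    apply coord <;> simp [Matrix.mul_apply, Fin.sum_univ_two] <;> field_simp
    linear_combination -z.1 * hc

/-- Representatives of the square classes of nonzero elements. -/
theorem exists_rep : ∃ R : Finset F, (∀ r ∈ R, r ≠ 0) ∧
    (∀ b : F, b ≠ 0 → ∃ r ∈ R, IsSquare (r * b)) ∧
    (∀ r ∈ R, ∀ r' ∈ R, IsSquare (r * r') → r = r') ∧
    R.card = Nat.card {z : F // z * z = 1} ∧
    (ringChar F = 2 → R.card = 1) ∧ (ringChar F ≠ 2 → R.card = 2) := by
  classical
  rcases two_cases (F := F) with ⟨hc, h2⟩ | ⟨hc, h2⟩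
  · refine ⟨{1}, by simp, fun b _ => ⟨1, by simp, FiniteField.isSquare_of_char_two hc _⟩,
      by simp, ?_, by simp, fun h => absurd hc h⟩
    rw [Finset.card_singleton, eq_comm, Nat.card_eq_one_iff_exists]
    refine ⟨⟨1, one_mul 1⟩, fun z => Subtype.ext ?_⟩
    have : (z.1 - 1) * (z.1 - 1) = 0 := by linear_combination z.2 + (1 - z.1) * h2
    exact sub_eq_zero.mp (mul_self_eq_zero.mp this)
  · obtain ⟨e, he⟩ := FiniteField.exists_nonsquare hc
    have he0 : e ≠ 0 := fun h => he (by rw [h]; exact IsSquare.zero)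
    have hne : (1 : F) ≠ e := fun h => he (h ▸ IsSquare.one)
    refine ⟨{1, e}, by simp [he0], fun b hb => ?_, ?_, ?_, fun h => absurd h hc,
      fun _ => Finset.card_pair hne⟩
    · by_cases hbs : IsSquare b
      · exact ⟨1, by simp, by simpa using hbs⟩
      · refine ⟨e, by simp, (quadraticChar_one_iff_isSquare (mul_ne_zero he0 hb)).mp ?_⟩
        rw [map_mul, quadraticChar_neg_one_iff_not_isSquare.mpr he,
          quadraticChar_neg_one_iff_not_isSquare.mpr hbs]
        norm_num
    · intro r hr r' hr' h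
      simp only [Finset.mem_insert, Finset.mem_singleton] at hr hr'
      rcases hr with rfl | rfl <;> rcases hr' with rfl | rfl
      · rfl
      · exact absurd (by simpa using h) he
      · exact absurd (by simpa using h) he
      · rfl
    · rw [Finset.card_pair hne]
      have : (fun z : F => z * z = 1) = fun z => z ∈ ({1, -1} : Finset F) := funext fun z => by
        simp [mul_self_eq_one_iff]
      show 2 = Nat.card {z : F // (fun z : F => z * z = 1) z}
      rw [this]
      rw [Nat.card_eq_fintype_card, Fintype.card_coe]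
      exact (Finset.card_pair fun h : (1 : F) = -1 => h2 (by linear_combination h)).symm

theorem exists_zS {g : S2} (hg : ¬ Nonscalar (g : M2)) : ∃ z, g = zS z := by
  obtain ⟨a, ha⟩ := not_not.mp hg
  refine ⟨⟨a, ?_⟩, Subtype.ext ?_⟩
  · have := detS g
    rw [ha] at this
    simp at this
    rcases this with rfl | rfl <;> ring
  · apply coord <;> simp [zS, ha]

theorem zS_comm (z : {z : F // z * z = 1}) (g : S2) : zS z * g = g * zS z := by
  refine Subtype.ext ?_
  rw [coe_mulS, coe_mulS, zS_coe]
  apply coord <;> simp [Matrix.mul_apply, Fin.sum_univ_two] <;> ring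

theorem zS_scalar (z : {z : F // z * z = 1}) : ¬ Nonscalar (zS z : M2) :=
  fun h => h ⟨z.1, by rw [zS_coe]; apply coord <;> simp⟩

theorem zS_injective : Function.Injective (zS (F := F)) := fun z z' h => by
  have := congrArg (fun u : S2 => (u : M2) 0 0) h
  exact Subtype.ext (by simpa [zS] using this)

theorem cS_nonscalar (t : F) : Nonscalar (cS t : M2) :=
  nonscalar_iff.mpr (Or.inr (Or.inl (by simp [cS_coe])))

theorem card_conjClassesS (R : Finset F) (h0 : ∀ r ∈ R, r ≠ 0)
    (hex : ∀ b : F, b ≠ 0 → ∃ r ∈ R, IsSquare (r * b))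
    (hun : ∀ r ∈ R, ∀ r' ∈ R, IsSquare (r * r') → r = r') :
    Nat.card (ConjClasses S2) =
      Fintype.card F + Nat.card {z : F // z * z = 1} * R.card := by
  classical
  let Z := {z : F // z * z = 1}
  let T := {t : F // t * t ≠ 4}
  let f : Z ⊕ (T ⊕ Z × R) → ConjClasses S2 := Sum.elim (fun z => ConjClasses.mk (zS z))
    (Sum.elim (fun t => ConjClasses.mk (cS t.1)) (fun p => ConjClasses.mk (zS p.1 * uS p.2.1)))
  have hzu4 : ∀ (z : Z) (b : F),
      ((zS z * uS b : S2) : M2).trace * ((zS z * uS b : S2) : M2).trace = 4 := fun z b => by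
    rw [zu_trace]; linear_combination 4 * z.2
  have hf : Function.Bijective f := by
    refine ⟨fun x y h => ?_, fun C => ?_⟩
    · rcases x with z | t | ⟨z, r⟩ <;> rcases y with z' | t' | ⟨z', r'⟩ <;>
        simp only [f, Sum.elim_inl, Sum.elim_inr, ConjClasses.mk_eq_mk_iff_isConj] at h
      · obtain ⟨x, hx⟩ := isConj_iff.mp h
        rw [← zS_comm, mul_inv_cancel_right] at hx
        rw [zS_injective hx]
      · exact absurd (nonscalar_isConjS h.symm (cS_nonscalar _)) (zS_scalar z)
      · exact absurd (nonscalar_isConjS h.symm (zu_nonscalar z' (h0 _ r'.2))) (zS_scalar z)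
      · exact absurd (nonscalar_isConjS h (cS_nonscalar _)) (zS_scalar z')
      · have := trace_isConjS h
        rw [cS_trace, cS_trace] at this
        rw [Subtype.ext this]
      · have e := hzu4 z' r'
        rw [← trace_isConjS h, cS_trace] at e
        exact absurd e t.2
      · exact absurd (nonscalar_isConjS h (zu_nonscalar z (h0 _ r.2))) (zS_scalar z')
      · have e := hzu4 z r
        rw [trace_isConjS h, cS_trace] at e
        exact absurd e t'.2
      · obtain ⟨e1, e2⟩ := (isConj_zu_iff (h0 _ r.2) (h0 _ r'.2)).mp h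
        rw [e1, Subtype.ext (hun _ r.2 _ r'.2 e2)]
    · obtain ⟨g, rfl⟩ := ConjClasses.exists_rep C
      by_cases hg : Nonscalar (g : M2)
      · by_cases ht : (g : M2).trace * (g : M2).trace = 4
        · obtain ⟨z, b, hb, -, hc⟩ := exists_zu hg ht
          obtain ⟨r, hr, hs⟩ := hex b hb
          exact ⟨Sum.inr (Sum.inr (z, ⟨r, hr⟩)), ConjClasses.mk_eq_mk_iff_isConj.mpr
            (((isConj_zu_iff (h0 r hr) hb).mpr ⟨rfl, hs⟩).trans hc)⟩
        · refine ⟨Sum.inr (Sum.inl ⟨(g : M2).trace, ht⟩), ConjClasses.mk_eq_mk_iff_isConj.mpr ?_⟩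
          exact isConj_of_trace (cS_nonscalar _) hg (cS_trace _) (by rwa [cS_trace])
      · obtain ⟨z, rfl⟩ := exists_zS hg
        exact ⟨Sum.inl z, rfl⟩
  rw [← Nat.card_eq_of_bijective f hf, Nat.card_sum, Nat.card_sum, Nat.card_prod,
    Nat.card_eq_fintype_card (α := R), Fintype.card_coe]
  show _ = Fintype.card F + Nat.card Z * R.card
  have hT : Nat.card Z + Nat.card T = Fintype.card F := by
    have : Nat.card Z = Nat.card {t : F // t * t = 4} := by
      rcases two_cases (F := F) with ⟨-, h2⟩ | ⟨-, h2⟩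
      · rw [show Nat.card Z = 1 from Nat.card_eq_one_iff_exists.mpr ⟨⟨1, one_mul 1⟩, fun z =>
          Subtype.ext (sub_eq_zero.mp (mul_self_eq_zero.mp
            (show (z.1 - 1) * (z.1 - 1) = 0 by linear_combination z.2 + (1 - z.1) * h2)))⟩,
          eq_comm, Nat.card_eq_one_iff_exists]
        refine ⟨⟨0, by linear_combination -2 * h2⟩, fun t => Subtype.ext ?_⟩
        exact mul_self_eq_zero.mp (by linear_combination t.2 + 2 * h2)
      · refine Nat.card_congr
          { toFun := fun z => ⟨2 * z.1, by linear_combination 4 * z.2⟩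
            invFun := fun t => ⟨t.1 / 2, by field_simp; linear_combination t.2⟩
            left_inv := fun z => Subtype.ext (by simp [h2])
            right_inv := fun t => Subtype.ext (by field_simp) }
    rw [this, ← Nat.card_sum, ← Nat.card_eq_fintype_card (α := F)]
    exact Nat.card_congr (Equiv.sumCompl _)
  omega

theorem centralizer_zu (z : {z : F // z * z = 1}) {b : F} (hb : b ≠ 0) :
    Nat.card (Subgroup.centralizer ({zS z * uS b} : Set S2)) =
      Nat.card {z : F // z * z = 1} * Fintype.card F := by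
  have hmem : ∀ x : S2, x ∈ Subgroup.centralizer ({zS z * uS b} : Set S2) ↔
      (x : M2) 1 0 = 0 ∧ (x : M2) 0 0 = (x : M2) 1 1 := by
    intro x
    rw [Subgroup.mem_centralizer_singleton_iff]
    have hz := z_ne_zero z
    constructor
    · intro h
      have e : (x : M2) * ((zS z * uS b : S2) : M2) = ((zS z * uS b : S2) : M2) * (x : M2) := by
        rw [← coe_mulS, ← coe_mulS, h]
      rw [zu_coe] at e
      have e00 := congrFun (congrFun e 0) 0
      have e01 := congrFun (congrFun e 0) 1
      simp [Matrix.mul_apply, Fin.sum_univ_two] at e00 e01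
      have h10 : (x : M2) 1 0 = 0 := by
        have : z.1 * b * (x : M2) 1 0 = 0 := by linear_combination -e00
        simpa [hz, hb] using this
      refine ⟨h10, ?_⟩
      have : (z.1 * b) * ((x : M2) 0 0 - (x : M2) 1 1) = 0 := by linear_combination e01
      exact sub_eq_zero.mp (by simpa [hz, hb] using this)
    · rintro ⟨h1, h2⟩
      refine Subtype.ext ?_
      rw [coe_mulS x, coe_mulS (zS z * uS b), zu_coe]
      apply coord <;> simp [Matrix.mul_apply, Fin.sum_univ_two, h1, h2] <;> ring
  rw [Nat.card_congr (Equiv.subtypeEquivRight hmem), ← Nat.card_eq_fintype_card (α := F),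
    ← Nat.card_prod]
  refine Nat.card_congr
    { toFun := fun x => (⟨(x.1 : M2) 0 0, by
        have := detS x.1
        rw [Matrix.det_fin_two, x.2.1, ← x.2.2, mul_zero, sub_zero] at this
        exact this⟩, (x.1 : M2) 0 1)
      invFun := fun p => ⟨⟨!![p.1.1, p.2; 0, p.1.1], by simp [Matrix.det_fin_two, p.1.2]⟩, by simp⟩
      left_inv := fun x => Subtype.ext (Subtype.ext (by apply coord <;> simp [x.2.1, ← x.2.2]))
      right_inv := fun p => by simp }

theorem card_centralizerS {g : S2} (hg : Nonscalar (g : M2))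
    (ht : (g : M2).trace * (g : M2).trace ≠ 4) :
    Nat.card (Subgroup.centralizer ({g} : Set S2)) * (Fintype.card F - 1) =
      Nat.card (Subgroup.centralizer ({SpecialLinearGroup.toGL g} : Set G2)) := by
  set C := Subgroup.centralizer ({SpecialLinearGroup.toGL g} : Set G2) with hC
  let φ : C →* Fˣ := GeneralLinearGroup.det.comp C.subtype
  have hsurj : Function.Surjective φ := by
    intro δ
    obtain ⟨a, b, hab⟩ := norm_surj ht (δ : F)
    have hd : (a • (1 : M2) + b • (g : M2)).det = δ := by rw [det_affine, detS g, one_mul, hab]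
    refine ⟨⟨GeneralLinearGroup.mkOfDetNeZero (a • (1 : M2) + b • (g : M2))
      (by rw [hd]; exact δ.ne_zero), Subgroup.mem_centralizer_singleton_iff.mpr (Units.ext ?_)⟩,
      Units.ext ?_⟩
    · rw [GeneralLinearGroup.coe_mul, GeneralLinearGroup.coe_mul, toGL_coe, coe_mk]
      simp [mul_add, add_mul]
    · exact hd
  have hker : Nat.card φ.ker = Nat.card (Subgroup.centralizer ({g} : Set S2)) :=
    Nat.card_congr
      { toFun := fun c => ⟨⟨((c.1.1 : G2) : M2), congrArg Units.val c.2⟩,
          Subgroup.mem_centralizer_singleton_iff.mpr (Subtype.ext (by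
            have := congrArg Units.val (Subgroup.mem_centralizer_singleton_iff.mp c.1.2)
            rw [GeneralLinearGroup.coe_mul, GeneralLinearGroup.coe_mul, toGL_coe] at this
            exact this))⟩
        invFun := fun c => ⟨⟨SpecialLinearGroup.toGL c.1, Subgroup.mem_centralizer_singleton_iff.mpr
          (by rw [← map_mul, ← map_mul, Subgroup.mem_centralizer_singleton_iff.mp c.2])⟩,
          Units.ext (detS c.1)⟩
        left_inv := fun c => Subtype.ext (Subtype.ext (Units.ext rfl))
        right_inv := fun c => Subtype.ext (Subtype.ext rfl) }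
  rw [← hker, ← card_units_eq, ← φ.ker.card_mul_index, Subgroup.index_ker,
    MonoidHom.range_eq_top.2 hsurj, Subgroup.card_top]

omit [Fintype F] in
theorem trace_sq_ne_of_eig_empty {g : S2} (h : eig (g : M2) = ∅) (h2 : (2 : F) ≠ 0) :
    (g : M2).trace * (g : M2).trace ≠ 4 := by
  intro ht
  have : (g : M2).trace / 2 ∈ eig (g : M2) := by
    show _ * _ - _ * _ + _ = 0
    rw [detS g]
    field_simp
    linear_combination -ht
  rw [h] at this
  exact this

/-- The size of a class. -/
theorem card_class {G : Type*} [Group G] [Finite G] (g : G) :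
    Nat.card (ConjClasses.mk g).carrier * Nat.card (Subgroup.centralizer ({g} : Set G)) =
      Nat.card G := by
  rw [Nat.card_coe_set_eq, ← ConjAct.orbit_eq_carrier_conjClasses, ← MulAction.index_stabilizer,
    Subgroup.nat_card_centralizer_nat_card_stabilizer, Subgroup.index_mul_card]
  exact Nat.card_congr ConjAct.ofConjAct.toEquiv

end Finite

section Unipotent

variable (p : ℕ) [Fact p.Prime] [CharP F p]

theorem trace_two_of_pow {g : G2} (h : g ^ p = 1) :
    (g : M2).det = 1 ∧ (g : M2).trace = 2 := by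
  haveI : CharP M2 p := inferInstance
  have h1 : (g : M2) ^ p = 1 := by rw [← Units.val_pow_eq_pow_val, h]; rfl
  have hd : (g : M2).det = 1 := by
    have := congrArg Matrix.det h1
    rw [Matrix.det_pow, Matrix.det_one] at this
    have h2 : ((g : M2).det - 1) ^ p = 0 := by rw [sub_pow_char, this, one_pow, sub_self]
    exact sub_eq_zero.mp (pow_eq_zero_iff (Fact.out : p.Prime).ne_zero |>.mp h2)
  refine ⟨hd, ?_⟩
  have h0 : ((g : M2) - 1) ^ p = 0 := by
    rw [sub_pow_char_of_commute p (Commute.one_right _), h1, one_pow, sub_self]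
  have := congrArg Matrix.det h0
  rw [Matrix.det_pow, Matrix.det_zero] at this
  have h3 := pow_eq_zero_iff (Fact.out : p.Prime).ne_zero |>.mp this
  have h4 := det_sub_smul (g : M2) 1
  rw [one_smul, h3, hd] at h4
  linear_combination h4

theorem nonscalar_of_order {g : G2} (h : orderOf g = p) : Nonscalar (g : M2) := by
  rintro ⟨a, ha⟩
  have hp : g ^ p = 1 := h ▸ pow_orderOf_eq_one g
  have h1 : ((g : M2)) ^ p = 1 := by rw [← Units.val_pow_eq_pow_val, hp]; rfl
  rw [ha, smul_pow, one_pow] at h1
  have h00 := congrFun (congrFun h1 0) 0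
  simp at h00
  have h2 : (a - 1) ^ p = 0 := by rw [sub_pow_char, h00, one_pow, sub_self]
  have ha1 : a = 1 := sub_eq_zero.mp (pow_eq_zero_iff (Fact.out : p.Prime).ne_zero |>.mp h2)
  have : g = 1 := Units.ext (by rw [ha, ha1, one_smul]; rfl)
  rw [this, orderOf_one] at h
  exact (Fact.out : p.Prime).ne_one h.symm

variable [Fintype F]

theorem exists_uS {g : S2} (h : orderOf g = p) : ∃ b : F, b ≠ 0 ∧ IsConj (uS b) g := by
  have hG : orderOf (SpecialLinearGroup.toGL g) = p := by
    rw [orderOf_injective _ SpecialLinearGroup.toGL_injective, h]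
  have ht := (trace_two_of_pow p (hG ▸ pow_orderOf_eq_one _)).2
  rw [toGL_coe] at ht
  have hns : Nonscalar (g : M2) := nonscalar_of_order p hG
  obtain ⟨z, b, hb, hz, hc⟩ := exists_zu hns (by rw [ht]; norm_num)
  refine ⟨b, hb, ?_⟩
  have h1 : z = ⟨1, one_mul 1⟩ := by
    rw [ht] at hz
    rcases two_cases (F := F) with ⟨-, h2⟩ | ⟨-, h2⟩
    · exact Subtype.ext (sub_eq_zero.mp (mul_self_eq_zero.mp
        (show (z.1 - 1) * (z.1 - 1) = 0 by linear_combination z.2 + (1 - z.1) * h2)))
    · exact Subtype.ext (mul_left_cancel₀ h2 (by linear_combination -hz))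
  have e : zS (⟨1, one_mul 1⟩ : {z : F // z * z = 1}) = 1 :=
    Subtype.ext (by rw [zS_coe, coe_oneS]; apply coord <;> simp)
  rwa [h1, e, one_mul] at hc

omit [Fintype F] in
theorem orderOf_uS {b : F} (hb : b ≠ 0) : orderOf (uS b) = p := by
  have hmul : ∀ n : ℕ, ((uS b ^ n : S2) : M2) = !![1, (n : F) * b; 0, 1] := by
    intro n
    induction n with
    | zero => rw [pow_zero, coe_oneS]; apply coord <;> simp
    | succ n ih =>
      rw [pow_succ, coe_mulS, ih, uS_coe]
      apply coord <;> simp [Matrix.mul_apply, Fin.sum_univ_two] <;> ring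
  refine orderOf_eq_prime (Subtype.ext ?_) fun h => hb ?_
  · rw [hmul, coe_oneS]; apply coord <;> simp
  · have := congrArg (fun u : S2 => (u : M2) 0 1) h
    simpa [uS] using this

end Unipotent

end Cfsg.Agent.GL2
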