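import Cfsg.Agent.Lib.GL2.TorusN

/-!
# Split tori of the special linear group of degree two
-/

set_option autoImplicit false
set_option linter.unusedSectionVars false
set_option linter.style.haveILetI false

open Matrix
open scoped MatrixGroups

namespace Cfsg.Agent.GL2

open Cfsg.Agent.Classical.SL2 (coord)

variable {F : Type*} [Field F] [Fintype F] [DecidableEq F]

local notation "M2" => Matrix (Fin 2) (Fin 2) F
local notation "S2" => Matrix.SpecialLinearGroup (Fin 2) F

theorem bS_ne {a : Fˣ} (ha : (a : F) ^ 2 ≠ 1) : (a : F) ≠ ((a⁻¹ : Fˣ) : F) := fun e => ha (by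
  rw [pow_two]; nth_rw 2 [e]; simp)

theorem bS_nonscalar {a : Fˣ} (ha : (a : F) ^ 2 ≠ 1) : Nonscalar ((bS a 0 : S2) : M2) :=
  nonscalar_iff.mpr (Or.inr (Or.inr (by simpa [bS_coe] using bS_ne ha)))

theorem bS_regular {a : Fˣ} (ha : (a : F) ^ 2 ≠ 1) :
    ((bS a 0 : S2) : M2).trace * ((bS a 0 : S2) : M2).trace ≠ 4 := fun e => by
  apply bS_ne ha
  simp [bS_coe, Matrix.trace_fin_two] at e
  have h : ((a : F) - ((a⁻¹ : Fˣ) : F)) * ((a : F) - ((a⁻¹ : Fˣ) : F)) = 0 := by
    rw [Units.val_inv_eq_inv_val]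
    linear_combination e - 4 * mul_inv_cancel₀ a.ne_zero
  exact sub_eq_zero.mp (mul_self_eq_zero.mp h)

theorem mem_diag_iff {a : Fˣ} (ha : (a : F) ^ 2 ≠ 1) {x : S2} :
    x ∈ Subgroup.centralizer ({bS a 0} : Set S2) ↔ (x : M2) 0 1 = 0 ∧ (x : M2) 1 0 = 0 := by
  rw [Subgroup.mem_centralizer_singleton_iff]
  have hne := sub_ne_zero.mpr (bS_ne ha)
  constructor
  · intro h
    have e : (x : M2) * (bS a 0 : M2) = (bS a 0 : M2) * (x : M2) := by
      rw [← coe_mulS, h, coe_mulS]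
    rw [bS_coe] at e
    have e01 := congrFun (congrFun e 0) 1
    have e10 := congrFun (congrFun e 1) 0
    simp [Matrix.mul_apply, Fin.sum_univ_two] at e01 e10
    rw [Units.val_inv_eq_inv_val] at hne
    constructor
    · exact (mul_eq_zero.mp (show ((a : F) - (a : F)⁻¹) * (x : M2) 0 1 = 0 by
        linear_combination -e01)).resolve_left hne
    · exact (mul_eq_zero.mp (show ((a : F) - (a : F)⁻¹) * (x : M2) 1 0 = 0 by
        linear_combination e10)).resolve_left hne
  · rintro ⟨h1, h2⟩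
    refine Subtype.ext ?_
    rw [coe_mulS, coe_mulS, bS_coe]
    apply coord <;> simp [Matrix.mul_apply, Fin.sum_univ_two, h1, h2, mul_comm]

theorem card_diag {a : Fˣ} (ha : (a : F) ^ 2 ≠ 1) :
    Nat.card (Subgroup.centralizer ({bS a 0} : Set S2)) = Fintype.card F - 1 := by
  rw [← Cfsg.Agent.Classical.card_units_eq]
  refine (Nat.card_eq_of_bijective
    (fun b : Fˣ => (⟨bS b 0, (mem_diag_iff ha).mpr (by simp [bS_coe])⟩ :
      Subgroup.centralizer ({bS a 0} : Set S2))) ⟨fun b b' h => ?_, fun x => ?_⟩).symm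
  · have e := congrArg
      (fun (s : Subgroup.centralizer ({bS a 0} : Set S2)) => ((s : S2) : M2) 0 0) h
    exact Units.ext (by simpa [bS] using e)
  · obtain ⟨h1, h2⟩ := (mem_diag_iff ha).mp x.2
    have hd := detS (x : S2)
    rw [Matrix.det_fin_two, h2, mul_zero, sub_zero] at hd
    refine ⟨Units.mk0 _ (left_ne_zero_of_mul_eq_one hd), Subtype.ext (Subtype.ext ?_)⟩
    show ((bS _ 0 : S2) : M2) = _
    rw [bS_coe]
    apply coord <;> simp [h1, h2]
    exact inv_eq_of_mul_eq_one_right hd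

theorem exists_inv_bS (a : Fˣ) : ∃ x : S2, x * bS a 0 * x⁻¹ = (bS a 0)⁻¹ := by
  refine ⟨wS 0, ?_⟩
  refine Subtype.ext ?_
  rw [coe_mulS, coe_mulS, wS_inv_coe, wS_coe,
    show (((bS a 0)⁻¹ : S2) : M2) = (bS a 0 : M2).adjugate from rfl, bS_coe,
    Matrix.adjugate_fin_two_of]
  apply coord <;> simp [Matrix.mul_apply, Fin.sum_univ_two]

/-- Properties of the centralizer of a split regular element. -/
theorem split_facts {g : S2} (hns : Nonscalar (g : M2))
    (ht : (g : M2).trace * (g : M2).trace ≠ 4) (he : eig (g : M2) ≠ ∅) :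
    Nat.card (Subgroup.centralizer ({g} : Set S2)) = Fintype.card F - 1 ∧
      IsCyclic (Subgroup.centralizer ({g} : Set S2)) ∧ ∃ x : S2, x * g * x⁻¹ = g⁻¹ := by
  obtain ⟨a, ha, hc⟩ := exists_split hns ht he
  obtain ⟨y, rfl⟩ := isConj_iff.mp hc
  have hmem : ∀ x : S2, x ∈ Subgroup.centralizer ({y * bS a 0 * y⁻¹} : Set S2) ↔
      y⁻¹ * x * y ∈ Subgroup.centralizer ({bS a 0} : Set S2) := fun x => by
    rw [Subgroup.mem_centralizer_singleton_iff, Subgroup.mem_centralizer_singleton_iff]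
    constructor
    · intro h
      calc y⁻¹ * x * y * bS a 0 = y⁻¹ * (x * (y * bS a 0 * y⁻¹)) * y := by group
        _ = bS a 0 * (y⁻¹ * x * y) := by rw [h]; group
    · intro h
      calc x * (y * bS a 0 * y⁻¹) = y * (y⁻¹ * x * y * bS a 0) * y⁻¹ := by group
        _ = y * bS a 0 * y⁻¹ * x := by rw [h]; group
  refine ⟨?_, ?_, ?_⟩
  · rw [← card_diag ha]
    exact Nat.card_congr ((MulAut.conj y⁻¹).toEquiv.subtypeEquiv fun x => by
      rw [hmem]; simp)
  · let φ : Subgroup.centralizer ({y * bS a 0 * y⁻¹} : Set S2) →* F :=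
      { toFun := fun x => ((y⁻¹ * (x : S2) * y : S2) : M2) 0 0
        map_one' := by simp
        map_mul' := fun p q => by
          rw [show y⁻¹ * ((p * q : Subgroup.centralizer ({y * bS a 0 * y⁻¹} : Set S2)) : S2) * y =
            (y⁻¹ * (p : S2) * y) * (y⁻¹ * (q : S2) * y) by rw [Subgroup.coe_mul]; group, coe_mulS,
            Matrix.mul_apply, Fin.sum_univ_two, ((mem_diag_iff ha).mp ((hmem _).mp p.2)).1,
            zero_mul, add_zero] }
    refine isCyclic_of_injective_ringHom φ fun p q h => ?_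
    have hp := (mem_diag_iff ha).mp ((hmem _).mp p.2)
    have hq := (mem_diag_iff ha).mp ((hmem _).mp q.2)
    have h00 : ((y⁻¹ * (p : S2) * y : S2) : M2) 0 0 = ((y⁻¹ * (q : S2) * y : S2) : M2) 0 0 := h
    have dp := detS (y⁻¹ * (p : S2) * y)
    have dq := detS (y⁻¹ * (q : S2) * y)
    rw [Matrix.det_fin_two, hp.1, zero_mul, sub_zero] at dp
    rw [Matrix.det_fin_two, hq.1, zero_mul, sub_zero, ← h00] at dq
    have h11 := mul_left_cancel₀ (left_ne_zero_of_mul_eq_one dp) (dp.trans dq.symm)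
    have e : y⁻¹ * (p : S2) * y = y⁻¹ * (q : S2) * y := Subtype.ext (by
      apply coord
      · exact h00
      · rw [hp.1, hq.1]
      · rw [hp.2, hq.2]
      · exact h11)
    exact Subtype.ext (mul_left_cancel (mul_right_cancel e))
  · obtain ⟨x, hx⟩ := exists_inv_bS a
    refine ⟨y * x * y⁻¹, ?_⟩
    calc y * x * y⁻¹ * (y * bS a 0 * y⁻¹) * (y * x * y⁻¹)⁻¹
        = y * (x * bS a 0 * x⁻¹) * y⁻¹ := by group
      _ = (y * bS a 0 * y⁻¹)⁻¹ := by rw [hx]; group

theorem elliptic_facts (hodd : ringChar F ≠ 2) {g : S2} (he : eig (g : M2) = ∅) :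
    Nat.card (Subgroup.centralizer ({g} : Set S2)) = Fintype.card F + 1 ∧
      IsCyclic (Subgroup.centralizer ({g} : Set S2)) ∧ ∃ x : S2, x * g * x⁻¹ = g⁻¹ :=
  ⟨card_centralizer_ellS he hodd, isCyclic_centralizer he, exists_conj_inv hodd he⟩

end Cfsg.Agent.GL2
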