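/-
The rank one Steinberg relations and `SL₂`.
-/
import Mathlib
import Cfsg.Agent.Lib.GL2.CentralExt
import Cfsg.Agent.Lib.Char.Burnside

set_option autoImplicit false

open scoped commutatorElement

namespace Cfsg.Agent.GL2.SteinbergPres

open Cfsg.Agent.Classical Cfsg.Agent.GL2.CentralExt

variable {K : Type*} [Field K]

local notation "S2" => Matrix.SpecialLinearGroup (Fin 2) K
local notation "M2" => Matrix (Fin 2) (Fin 2) K

theorem lS_zero : lS (0 : K) = 1 := by
  apply Subtype.ext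
  apply SL2.coord <;> simp [lS]

/-- The diagonal element. -/
def dS (a : Kˣ) : S2 := ⟨!![(a : K), 0; 0, (↑a⁻¹ : K)], by simp [Matrix.det_fin_two]⟩

theorem closure_eq_top (H : Subgroup S2) (hu : ∀ t, uS t ∈ H) (hl : ∀ t, lS t ∈ H) : H = ⊤ := by
  have key : ∀ g : S2, (g : M2) 1 0 ≠ 0 → g ∈ H := by
    intro g hc
    have hd := g.2
    rw [Matrix.det_fin_two] at hd
    have : g = uS (((g : M2) 0 0 - 1) / (g : M2) 1 0) * lS ((g : M2) 1 0) * uS (((g : M2) 1 1 - 1) / (g : M2) 1 0) := by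
      apply Subtype.ext
      show (g : M2) = !![1, ((g : M2) 0 0 - 1) / (g : M2) 1 0; 0, 1] * !![1, 0; (g : M2) 1 0, 1] *
        !![1, ((g : M2) 1 1 - 1) / (g : M2) 1 0; 0, 1]
      apply SL2.coord <;> simp [Matrix.mul_apply, Fin.sum_univ_two] <;> field_simp
      all_goals first | ring1 | linear_combination hd | linear_combination -hd
    rw [this]
    exact mul_mem (mul_mem (hu _) (hl _)) (hu _)
  rw [eq_top_iff]
  intro g _
  by_cases hc : (g : M2) 1 0 = 0
  · have hd := g.2
    rw [Matrix.det_fin_two, hc, mul_zero, sub_zero] at hd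
    have h1 : ((g * lS 1 : S2) : M2) 1 0 ≠ 0 := by
      show (((g : M2) * !![1, 0; 1, 1] : M2)) 1 0 ≠ 0
      simp [Matrix.mul_apply, Fin.sum_univ_two, hc]
      intro e; rw [e, mul_zero] at hd; exact zero_ne_one hd
    have := mul_mem (key _ h1) (inv_mem (hl 1))
    rwa [mul_inv_cancel_right] at this
  · exact key g hc

variable {G : Type*} [Group G] (x y : K → G)

/-- The element interchanging the two root subgroups. -/
def W (t : K) : G := x t * y (-t⁻¹) * x t

/-- The elements acting diagonally. -/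
def torus (φ : G →* Matrix.SpecialLinearGroup (Fin 2) K) : Subgroup G where
  carrier := {g | ∃ a : Kˣ, φ g = dS a ∧ (∀ u, g * x u * g⁻¹ = x ((a : K) ^ 2 * u)) ∧
    ∀ u, g * y u * g⁻¹ = y ((↑a⁻¹ : K) ^ 2 * u)}
  one_mem' := ⟨1, by show φ 1 = _; rw [map_one]; apply Subtype.ext; apply SL2.coord <;> simp [dS], by simp, by simp⟩
  mul_mem' := by
    rintro g g' ⟨a, ha, hax, hay⟩ ⟨b, hb, hbx, hby⟩
    refine ⟨a * b, ?_, fun u => ?_, fun u => ?_⟩
    · show φ (g * g') = _
      rw [map_mul, ha, hb]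
      apply Subtype.ext
      show (!![(a : K), 0; 0, (↑a⁻¹ : K)] * !![(b : K), 0; 0, (↑b⁻¹ : K)] : M2) = !![((a * b : Kˣ) : K), 0; 0, (↑(a * b)⁻¹ : K)]
      apply SL2.coord <;> simp [Matrix.mul_apply, Fin.sum_univ_two, mul_comm]
    · rw [show g * g' * x u * (g * g')⁻¹ = g * (g' * x u * g'⁻¹) * g⁻¹ by group, hbx, hax, Units.val_mul]
      ring_nf
    · rw [show g * g' * y u * (g * g')⁻¹ = g * (g' * y u * g'⁻¹) * g⁻¹ by group, hby, hay, mul_inv, Units.val_mul]
      ring_nf
  inv_mem' := by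
    rintro g ⟨a, ha, hax, hay⟩
    refine ⟨a⁻¹, ?_, fun u => ?_, fun u => ?_⟩
    · show φ g⁻¹ = _
      rw [map_inv, inv_eq_iff_mul_eq_one, ha]
      apply Subtype.ext
      show (!![(a : K), 0; 0, (↑a⁻¹ : K)] * !![(↑a⁻¹ : K), 0; 0, (↑(a⁻¹)⁻¹ : K)] : M2) = 1
      apply SL2.coord <;> simp [Matrix.mul_apply, Fin.sum_univ_two]
    · have := hax ((↑a⁻¹ : K) ^ 2 * u)
      rw [← mul_assoc, ← mul_pow, Units.mul_inv, one_pow, one_mul] at this
      rw [← this]; group
    · have := hay ((↑(a⁻¹)⁻¹ : K) ^ 2 * u)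
      rw [← mul_assoc, ← mul_pow, inv_inv, Units.inv_mul, one_pow, one_mul] at this
      rw [inv_inv, ← this]; group

/-- The relations. -/
structure Rels : Prop where
  add_x : ∀ t u, x t * x u = x (t + u)
  add_y : ∀ t u, y t * y u = y (t + u)
  conj : ∀ t u, t ≠ 0 → W x y t * x u * (W x y t)⁻¹ = y (-(t⁻¹ ^ 2 * u))

variable {x y}
variable (h : Rels x y)
variable (φ : G →* Matrix.SpecialLinearGroup (Fin 2) K)
variable (hφx : ∀ t : K, φ (x t) = uS t) (hφy : ∀ t : K, φ (y t) = lS t)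

include h

theorem x_zero : x 0 = 1 := by
  have := h.add_x 0 0
  rw [add_zero] at this
  exact mul_eq_left.mp this

theorem y_zero : y 0 = 1 := by
  have := h.add_y 0 0
  rw [add_zero] at this
  exact mul_eq_left.mp this

theorem x_neg (t : K) : (x t)⁻¹ = x (-t) :=
  inv_eq_of_mul_eq_one_right (by rw [h.add_x, add_neg_cancel, x_zero h])

theorem y_neg (t : K) : (y t)⁻¹ = y (-t) :=
  inv_eq_of_mul_eq_one_right (by rw [h.add_y, add_neg_cancel, y_zero h])

theorem W_inv (t : K) : (W x y t)⁻¹ = W x y (-t) := by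
  simp only [W, mul_inv_rev, x_neg h, y_neg h, inv_neg, neg_neg, mul_assoc]

theorem conj_y (t v : K) (ht : t ≠ 0) : W x y t * y v * (W x y t)⁻¹ = x (-(t ^ 2 * v)) := by
  have := h.conj (-t) (-(t ^ 2 * v)) (neg_ne_zero.mpr ht)
  rw [← W_inv h, inv_inv, show -((-t)⁻¹ ^ 2 * -(t ^ 2 * v)) = v by field_simp] at this
  rw [← this]; group

theorem conj_x' (t u : K) (ht : t ≠ 0) : (W x y t)⁻¹ * x u * W x y t = y (-(t⁻¹ ^ 2 * u)) := by
  have := h.conj (-t) u (neg_ne_zero.mpr ht)
  rwa [← W_inv h, inv_inv, inv_neg, neg_sq] at this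

theorem conj_y' (t v : K) (ht : t ≠ 0) : (W x y t)⁻¹ * y v * W x y t = x (-(t ^ 2 * v)) := by
  have := conj_y h (-t) v (neg_ne_zero.mpr ht)
  rwa [← W_inv h, inv_inv, neg_sq] at this

include hφx hφy

theorem φ_W (t : K) (ht : t ≠ 0) : ((φ (W x y t) : S2) : M2) = !![0, t; -t⁻¹, 0] := by
  show ((φ (x t * y (-t⁻¹) * x t) : S2) : M2) = _
  rw [map_mul, map_mul, hφx, hφy]
  show (!![1, t; 0, 1] * !![1, 0; -t⁻¹, 1] * !![1, t; 0, 1] : M2) = _
  apply SL2.coord <;> simp [Matrix.mul_apply, Fin.sum_univ_two, ht]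

theorem W_mul_mem (t : K) (ht : t ≠ 0) : W x y t * W x y (-1) ∈ torus x y φ := by
  have hW : (W x y (1 : K))⁻¹ = W x y (-1) := W_inv h 1
  refine ⟨Units.mk0 t ht, ?_, fun u => ?_, fun u => ?_⟩
  · apply Subtype.ext
    rw [map_mul, Matrix.SpecialLinearGroup.coe_mul, φ_W h φ hφx hφy t ht, φ_W h φ hφx hφy (-1) (by simp)]
    apply SL2.coord <;> simp [dS, Matrix.mul_apply, Fin.sum_univ_two]
  · rw [← hW, show W x y t * (W x y 1)⁻¹ * x u * (W x y t * (W x y 1)⁻¹)⁻¹ =
      W x y t * ((W x y 1)⁻¹ * x u * W x y 1) * (W x y t)⁻¹ by group, conj_x' h 1 u one_ne_zero, conj_y h t _ ht]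
    congr 1; simp
  · rw [← hW, show W x y t * (W x y 1)⁻¹ * y u * (W x y t * (W x y 1)⁻¹)⁻¹ =
      W x y t * ((W x y 1)⁻¹ * y u * W x y 1) * (W x y t)⁻¹ by group, conj_y' h 1 u one_ne_zero, h.conj t _ ht]
    congr 1; simp

theorem W_sq_mem : W x y (1 : K) * W x y 1 ∈ torus x y φ := by
  have := inv_mem (W_mul_mem h φ hφx hφy (-1) (by simp))
  rwa [mul_inv_rev, W_inv h, neg_neg] at this

theorem W_conj_mem {g : G} (hg : g ∈ torus x y φ) : W x y (1 : K) * g * (W x y 1)⁻¹ ∈ torus x y φ := by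
  obtain ⟨a, ha, hax, hay⟩ := hg
  refine ⟨a⁻¹, ?_, fun u => ?_, fun u => ?_⟩
  · rw [map_mul, map_mul, map_inv, mul_inv_eq_iff_eq_mul, ha]
    apply Subtype.ext
    rw [Matrix.SpecialLinearGroup.coe_mul, Matrix.SpecialLinearGroup.coe_mul, φ_W h φ hφx hφy 1 one_ne_zero]
    apply SL2.coord <;> simp [dS, Matrix.mul_apply, Fin.sum_univ_two]
  · rw [show W x y 1 * g * (W x y 1)⁻¹ * x u * (W x y 1 * g * (W x y 1)⁻¹)⁻¹ =
      W x y 1 * (g * ((W x y 1)⁻¹ * x u * W x y 1) * g⁻¹) * (W x y 1)⁻¹ by group, conj_x' h 1 u one_ne_zero, hay,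
      conj_y h 1 _ one_ne_zero]
    congr 1; simp
  · rw [show W x y 1 * g * (W x y 1)⁻¹ * y u * (W x y 1 * g * (W x y 1)⁻¹)⁻¹ =
      W x y 1 * (g * ((W x y 1)⁻¹ * y u * W x y 1) * g⁻¹) * (W x y 1)⁻¹ by group, conj_y' h 1 u one_ne_zero, hax,
      h.conj 1 _ one_ne_zero]
    congr 1; simp

variable (hgen : Subgroup.closure (Set.range x ∪ Set.range y) = ⊤)
include hgen

/-- The Bruhat decomposition. -/
theorem bruhat (g : G) : (∃ d, ∃ t ∈ torus x y φ, g = x d * t) ∨
    ∃ d e, ∃ t ∈ torus x y φ, g = x d * t * W x y (1 : K) * x e := by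
  set w := W x y (1 : K) with hw
  let Ω : G → Prop := fun g => (∃ d, ∃ t ∈ torus x y φ, g = x d * t) ∨
    ∃ d e, ∃ t ∈ torus x y φ, g = x d * t * w * x e
  have hX : ∀ g, Ω g → ∀ a, Ω (g * x a) := by
    rintro g (⟨d, t, ht, rfl⟩ | ⟨d, e, t, ht, rfl⟩) a
    · obtain ⟨c, -, hcx, -⟩ := id ht
      exact Or.inl ⟨d + (c : K) ^ 2 * a, t, ht, by rw [← h.add_x, ← hcx]; group⟩
    · exact Or.inr ⟨d, e + a, t, ht, by rw [← h.add_x]; simp only [mul_assoc]⟩
  have hT : ∀ g, Ω g → ∀ s ∈ torus x y φ, Ω (g * s) := by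
    rintro g (⟨d, t, ht, rfl⟩ | ⟨d, e, t, ht, rfl⟩) s hs
    · exact Or.inl ⟨d, t * s, mul_mem ht hs, by group⟩
    · obtain ⟨c, -, hcx, -⟩ := inv_mem hs
      refine Or.inr ⟨d, (c : K) ^ 2 * e, t * (w * s * w⁻¹), mul_mem ht (W_conj_mem h φ hφx hφy hs), ?_⟩
      rw [← hcx]; group
  have hwx : ∀ a : K, a ≠ 0 → w * x a * w = x (-a⁻¹) * (W x y a⁻¹ * W x y (-1)) * w * x (-a⁻¹) * (w * w) := by
    intro a ha
    have h1 : y (-a) = x (-a⁻¹) * W x y a⁻¹ * x (-a⁻¹) := by
      rw [W, inv_inv, ← x_neg h]; group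
    have h2 : w * x a * w⁻¹ = y (-a) := by
      rw [h.conj 1 a one_ne_zero]; simp
    rw [show w * x a * w = w * x a * w⁻¹ * (w * w) by group, h2, h1, ← W_inv h 1, ← hw]
    group
  have hW : ∀ g, Ω g → Ω (g * w) := by
    rintro g (⟨d, t, ht, rfl⟩ | ⟨d, e, t, ht, rfl⟩)
    · exact Or.inr ⟨d, 0, t, ht, by rw [x_zero h, mul_one]⟩
    · rcases eq_or_ne e 0 with rfl | he
      · exact Or.inl ⟨d, t * (w * w), mul_mem ht (W_sq_mem h φ hφx hφy), by rw [x_zero h]; group⟩
      · rw [show x d * t * w * x e * w = x d * t * (w * x e * w) by group, hwx e he]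
        set k := W x y e⁻¹ * W x y (-1) with hk
        have hk' : k ∈ torus x y φ := W_mul_mem h φ hφx hφy _ (inv_ne_zero he)
        obtain ⟨c, -, hcx, -⟩ := id ht
        have h3 : Ω (x (d + (c : K) ^ 2 * -e⁻¹) * (t * k) * w * x (-e⁻¹)) :=
          Or.inr ⟨_, _, _, mul_mem ht hk', rfl⟩
        have h4 := hT _ h3 _ (W_sq_mem h φ hφx hφy)
        convert h4 using 1
        rw [← h.add_x, ← hcx, ← hw]; group
  have hWi : ∀ g, Ω g → Ω (g * w⁻¹) := fun g hg => by
    have := hT _ (hW g hg) _ (inv_mem (W_sq_mem h φ hφx hφy))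
    rwa [← hw, show g * w * (w * w)⁻¹ = g * w⁻¹ by group] at this
  have hY : ∀ g, Ω g → ∀ v, Ω (g * y v) := by
    intro g hg v
    have := hWi _ (hX _ (hW g hg) (-v))
    have h2 : w * x (-v) * w⁻¹ = y v := by rw [h.conj 1 (-v) one_ne_zero]; simp
    rwa [show g * w * x (-v) * w⁻¹ = g * (w * x (-v) * w⁻¹) by group, h2] at this
  induction (hgen ▸ Subgroup.mem_top g : g ∈ Subgroup.closure (Set.range x ∪ Set.range y)) using
    Subgroup.closure_induction_right with
  | one => exact Or.inl ⟨0, 1, one_mem _, by rw [x_zero h, mul_one]⟩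
  | mul_right g s hg hs ih =>
    rcases hs with ⟨a, rfl⟩ | ⟨a, rfl⟩
    · exact hX g ih a
    · exact hY g ih a
  | mul_inv_cancel g s hg hs ih =>
    rcases hs with ⟨a, rfl⟩ | ⟨a, rfl⟩
    · rw [x_neg h]; exact hX g ih _
    · rw [y_neg h]; exact hY g ih _

omit hgen in
theorem surjective : Function.Surjective φ := by
  rw [← MonoidHom.range_eq_top]
  exact closure_eq_top _ (fun t => ⟨x t, hφx t⟩) (fun t => ⟨y t, hφy t⟩)

theorem ker_le_center : φ.ker ≤ Subgroup.center G := by
  intro g hg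
  rcases bruhat h φ hφx hφy hgen g with ⟨d, t, ⟨a, ha, hax, hay⟩, rfl⟩ | ⟨d, e, t, ⟨a, ha, -, -⟩, rfl⟩
  · rw [MonoidHom.mem_ker, map_mul, hφx, ha] at hg
    have e0 : (!![1, d; 0, 1] * !![(a : K), 0; 0, (↑a⁻¹ : K)] : M2) = 1 := congrArg Subtype.val hg
    have e00 := congrFun (congrFun e0 0) 0
    have e01 := congrFun (congrFun e0 0) 1
    simp [Matrix.mul_apply, Fin.sum_univ_two] at e00 e01
    have ha1 : a = 1 := e00
    subst ha1
    have hd : d = 0 := e01
    subst hd
    rw [x_zero h, one_mul]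
    have hle : (⊤ : Subgroup G) ≤ Subgroup.centralizer {t} := by
      rw [← hgen, Subgroup.closure_le]
      rintro s (⟨u, rfl⟩ | ⟨u, rfl⟩) <;> refine Subgroup.mem_centralizer_singleton_iff.mpr ?_
      · have := hax u; simp only [Units.val_one, one_pow, one_mul] at this
        exact (mul_inv_eq_iff_eq_mul.mp this).symm
      · have := hay u; simp only [inv_one, Units.val_one, one_pow, one_mul] at this
        exact (mul_inv_eq_iff_eq_mul.mp this).symm
    exact Subgroup.mem_center_iff.mpr fun s => Subgroup.mem_centralizer_singleton_iff.mp (hle (Subgroup.mem_top s))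
  · exfalso
    rw [MonoidHom.mem_ker, map_mul, map_mul, map_mul, hφx, hφx, ha] at hg
    have e0 : (!![1, d; 0, 1] * !![(a : K), 0; 0, (↑a⁻¹ : K)] * (φ (W x y 1) : M2) * !![1, e; 0, 1] : M2) = 1 :=
      congrArg Subtype.val hg
    rw [φ_W h φ hφx hφy 1 one_ne_zero] at e0
    have e10 := congrFun (congrFun e0 1) 0
    simp [Matrix.mul_apply, Fin.sum_univ_two] at e10

theorem ker_le_commutator [Finite K] : φ.ker ≤ commutator G := by
  classical
  by_cases hbig : ∃ t : K, t ≠ 0 ∧ t ^ 2 ≠ 1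
  · obtain ⟨t, ht, ht2⟩ := hbig
    obtain ⟨a, -, hax, hay⟩ := W_mul_mem h φ hφx hφy t ht
    have htop : commutator G = ⊤ := by
      rw [eq_top_iff, ← hgen, Subgroup.closure_le]
      have hne : ∀ c : K, c ^ 2 ≠ 1 → c ^ 2 - 1 ≠ 0 := fun c hc => sub_ne_zero.mpr hc
      have ha2 : (a : K) ^ 2 ≠ 1 := by
        obtain ⟨b, hb, -, -⟩ := W_mul_mem h φ hφx hφy t ht
        intro e
        have h1 := hax 1
        rw [e, one_mul] at h1
        have h2 := congrArg φ h1
        rw [map_mul, map_mul, map_inv, mul_inv_eq_iff_eq_mul, hφx, map_mul] at h2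
        have h3 := congrArg (fun g : S2 => (g : M2) 0 1) h2
        simp only [Matrix.SpecialLinearGroup.coe_mul, φ_W h φ hφx hφy t ht, φ_W h φ hφx hφy (-1) (neg_ne_zero.mpr one_ne_zero)] at h3
        simp [uS, Matrix.mul_apply, Fin.sum_univ_two] at h3
        exact ht2 (by field_simp at h3; linear_combination h3)
      rintro s (⟨u, rfl⟩ | ⟨u, rfl⟩)
      · have := Subgroup.commutator_mem_commutator (Subgroup.mem_top (W x y t * W x y (-1)))
          (Subgroup.mem_top (x (u / ((a : K) ^ 2 - 1))))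
        rw [commutatorElement_def, hax, x_neg h, h.add_x, ← commutator_def,
          show (a : K) ^ 2 * (u / ((a : K) ^ 2 - 1)) + -(u / ((a : K) ^ 2 - 1)) = u by
            have := hne _ ha2; field_simp; ring] at this
        exact this
      · have hb2 : (↑a⁻¹ : K) ^ 2 ≠ 1 := by
          intro e
          apply ha2
          have := congrArg (fun z : K => (a : K) ^ 2 * z) e
          simp [← mul_pow] at this
          exact this.symm
        have := Subgroup.commutator_mem_commutator (Subgroup.mem_top (W x y t * W x y (-1)))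
          (Subgroup.mem_top (y (u / ((↑a⁻¹ : K) ^ 2 - 1))))
        rw [commutatorElement_def, hay, y_neg h, h.add_y, ← commutator_def,
          show (↑a⁻¹ : K) ^ 2 * (u / ((↑a⁻¹ : K) ^ 2 - 1)) + -(u / ((↑a⁻¹ : K) ^ 2 - 1)) = u by
            have := hne _ hb2; field_simp; ring] at this
        exact this
    rw [htop]; exact le_top
  · push Not at hbig
    have hcases : ∀ t : K, t = 0 ∨ t = 1 ∨ t = -1 := fun t => by
      rcases eq_or_ne t 0 with e | e
      · exact Or.inl e
      · exact Or.inr (sq_eq_one_iff.mp (hbig t e))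
    intro g hg
    let π := Abelianization.of (G := G)
    have hxy : ∀ u, π (y (-u)) = π (x u) := fun u => by
      have := congrArg π (h.conj 1 u one_ne_zero)
      rw [map_mul, map_mul, map_inv, mul_right_comm, mul_inv_cancel, one_mul] at this
      rw [this]; simp
    have hpow : ∀ u, π (x u) ∈ Subgroup.zpowers (π (x 1)) := fun u => by
      rcases hcases u with rfl | rfl | rfl
      · rw [x_zero h, map_one]; exact one_mem _
      · exact Subgroup.mem_zpowers _
      · rw [← x_neg h, map_inv]; exact inv_mem (Subgroup.mem_zpowers _)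
    have hall : ∀ s : G, π s ∈ Subgroup.zpowers (π (x 1)) := by
      intro s
      have hle : (⊤ : Subgroup G) ≤ (Subgroup.zpowers (π (x 1))).comap π := by
        rw [← hgen, Subgroup.closure_le]
        rintro _ (⟨u, rfl⟩ | ⟨u, rfl⟩)
        · exact hpow u
        · refine Subgroup.mem_comap.mpr ?_
          rw [← neg_neg u, hxy]; exact hpow _
      exact hle (Subgroup.mem_top s)
    obtain ⟨i, hi⟩ := Subgroup.mem_zpowers_iff.mp (hall g)
    have hxi : ∀ n : ℕ, (x 1) ^ n = x (n : K) := fun n => by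
      induction n with
      | zero => rw [pow_zero, Nat.cast_zero, x_zero h]
      | succ n ih => rw [pow_succ, ih, h.add_x, Nat.cast_succ]
    have hxz : (x 1) ^ i = x (i : K) := by
      cases i with
      | ofNat n => rw [Int.ofNat_eq_natCast, zpow_natCast, hxi, Int.cast_natCast]
      | negSucc n => rw [zpow_negSucc, hxi, x_neg h, Int.cast_negSucc]
    rw [← map_zpow, hxz] at hi
    rcases hcases (i : K) with e | e
    · rw [e, x_zero h, map_one] at hi
      rw [← Abelianization.ker_of]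
      exact hi.symm
    exfalso
    have hmem : uS (i : K) ∈ commutator S2 := by
      have h1 : (x (i : K))⁻¹ * g ∈ commutator G := by
        rw [← Abelianization.ker_of, MonoidHom.mem_ker, map_mul, map_inv]
        rw [hi]; exact inv_mul_cancel _
      have h2 := Subgroup.map_mono (f := φ) (le_refl (commutator G))
      have h3 : φ ((x (i : K))⁻¹ * g) ∈ commutator S2 := by
        refine ((Subgroup.map_commutator ⊤ ⊤ φ).le.trans (Subgroup.commutator_mono le_top le_top)) ⟨_, h1, rfl⟩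
      rw [map_mul, map_inv, MonoidHom.mem_ker.mp hg, mul_one, hφx] at h3
      simpa using inv_mem h3
    have hu1 : uS (1 : K) ∈ commutator S2 := by
      rcases e with e | e <;> rw [e] at hmem
      · exact hmem
      · have := inv_mem hmem
        rwa [show (uS (-1 : K))⁻¹ = uS 1 from inv_eq_of_mul_eq_one_right (by rw [uS_mul, neg_add_cancel, uS_zero])] at this
    have hu : ∀ t : K, uS t ∈ commutator S2 := fun t => by
      rcases hcases t with rfl | rfl | rfl
      · rw [uS_zero]; exact one_mem _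
      · exact hu1
      · have := inv_mem hu1
        rwa [show (uS (1 : K))⁻¹ = uS (-1) from inv_eq_of_mul_eq_one_right (by rw [uS_mul, add_neg_cancel, uS_zero])] at this
    have hl : ∀ t : K, lS t ∈ commutator S2 := fun t => by
      have e := congrArg φ (h.conj 1 (-t) one_ne_zero)
      rw [map_mul, map_mul, map_inv, hφx] at e
      have h1 := Subgroup.Normal.conj_mem (inferInstance : (commutator S2).Normal) _ (hu (-t)) (φ (W x y 1))
      rw [e, hφy] at h1
      simpa using h1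
    haveI := Fintype.ofFinite K
    haveI : Nontrivial S2 := ⟨⟨uS 1, uS 0, fun e => one_ne_zero (uS_injective e)⟩⟩
    have hq : Fintype.card K ≤ 3 := by
      rw [← Finset.card_univ]
      refine (Finset.card_le_card (t := {0, 1, -1}) fun t _ => by simpa using hcases t).trans Finset.card_le_three
    haveI : Group.IsSolvable S2 := by
      refine Cfsg.Agent.Char.solvable_of_card_prime_pow_mul 2 3 Nat.prime_two Nat.prime_three _ S2 rfl ?_
      have h2 := Fintype.one_lt_card (α := K)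
      rw [SL2.card_SL2]
      interval_cases (Fintype.card K)
      · exact ⟨1, 1, by norm_num⟩
      · exact ⟨3, 1, by norm_num⟩
    exact (Group.IsSolvable.commutator_lt_top_of_nontrivial S2).ne (closure_eq_top _ hu hl)

theorem bijective [Finite K] : Function.Bijective φ := by
  classical
  haveI := Fintype.ofFinite K
  have hsurj := surjective h φ hφx hφy
  have hc := ker_le_center h φ hφx hφy hgen
  have hk := ker_le_commutator h φ hφx hφy hgen
  haveI : Finite G := by
    haveI : Finite (commutatorSet G) := by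
      choose r hr using hsurj
      refine Finite.Set.subset (Set.range fun q : S2 × S2 => ⁅r q.1, r q.2⁆) ?_
      rintro _ ⟨a, b, rfl⟩
      refine ⟨(φ a, φ b), ?_⟩
      have key : ∀ a b k : G, k ∈ Subgroup.center G → ⁅a * k, b⁆ = ⁅a, b⁆ ∧ ⁅a, b * k⁆ = ⁅a, b⁆ := by
        intro a b k hk
        have hk' := Subgroup.mem_center_iff.mp hk
        constructor
        · rw [commutatorElement_def, commutatorElement_def]
          calc a * k * b * (a * k)⁻¹ * b⁻¹ = a * (k * b) * k⁻¹ * a⁻¹ * b⁻¹ := by group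
            _ = a * (b * k) * k⁻¹ * a⁻¹ * b⁻¹ := by rw [hk' b]
            _ = _ := by group
        · rw [commutatorElement_def, commutatorElement_def]
          calc a * (b * k) * a⁻¹ * (b * k)⁻¹ = a * b * (k * a⁻¹) * k⁻¹ * b⁻¹ := by group
            _ = a * b * (a⁻¹ * k) * k⁻¹ * b⁻¹ := by rw [hk' a⁻¹]
            _ = _ := by group
      have h1 : ∀ c, c⁻¹ * r (φ c) ∈ Subgroup.center G := fun c => hc (by
        rw [MonoidHom.mem_ker, map_mul, map_inv, hr, inv_mul_cancel])
      show ⁅r (φ a), r (φ b)⁆ = _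
      rw [← mul_inv_cancel_left a (r (φ a)), (key _ _ _ (h1 a)).1, ← mul_inv_cancel_left b (r (φ b)), (key _ _ _ (h1 b)).2]
    haveI : Finite φ.ker := Finite.of_injective _ (Subgroup.inclusion_injective hk)
    haveI : Finite (G ⧸ φ.ker) := Finite.of_equiv _ (QuotientGroup.quotientKerEquivOfSurjective φ hsurj).symm.toEquiv
    exact Finite.of_subgroup_quotient φ.ker
  obtain ⟨p, hp⟩ := CharP.exists K
  haveI : Fact p.Prime := ⟨CharP.char_is_prime K p⟩
  have hU : ∀ a b : G, φ a ∈ U0 K → φ b ∈ U0 K → a * b = b * a := by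
    rintro a b ⟨s, hs⟩ ⟨t, ht⟩
    have ha : (x s)⁻¹ * a ∈ Subgroup.center G := hc (by rw [MonoidHom.mem_ker, map_mul, map_inv, hφx, hs, inv_mul_cancel])
    have hb : (x t)⁻¹ * b ∈ Subgroup.center G := hc (by rw [MonoidHom.mem_ker, map_mul, map_inv, hφx, ht, inv_mul_cancel])
    have h0 : Commute (x s) (x t) := by show _ = _; rw [h.add_x, h.add_x, add_comm]
    have h1 : Commute (x s * ((x s)⁻¹ * a)) (x t * ((x t)⁻¹ * b)) :=
      (h0.mul_right (Subgroup.mem_center_iff.mp hb _)).mul_left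
        ((show Commute (x t) ((x s)⁻¹ * a) from Subgroup.mem_center_iff.mp ha _).symm.mul_right
          ((show Commute ((x t)⁻¹ * b) ((x s)⁻¹ * a) from Subgroup.mem_center_iff.mp ha _).symm))
    rwa [mul_inv_cancel_left, mul_inv_cancel_left] at h1
  have hbot := ker_inf_commutator p φ hsurj hc hU
  rw [inf_eq_left.mpr hk] at hbot
  exact ⟨(MonoidHom.ker_eq_bot_iff φ).mp hbot, hsurj⟩

end Cfsg.Agent.GL2.SteinbergPres
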